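import Cfsg.Agent.AltSec.E7.Main

/-!
From the searches to relations between torus elements with the prescribed conjugates.
-/

set_option autoImplicit false

namespace Cfsg.Agent.AltSec.E7

open Cfsg.Lie Cfsg.Agent.Chev Cfsg.Agent.Chev.SS Cfsg.Agent.AltSec.E7.Check
open scoped MatrixGroups

universe u

theorem valN_mod (ℓ : ℕ) : ∀ row b : List ℕ, valN ℓ row (b.map (· % ℓ)) = valN ℓ row b
  | [], _ => rfl
  | _ :: _, [] => rfl
  | r :: row, x :: b => by
    have ih := valN_mod ℓ row b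
    simp only [valN, List.map_cons, List.zipWith_cons_cons, List.sum_cons] at ih ⊢
    rw [Nat.add_mod, ih, ← Nat.add_mod, Nat.add_mod, Nat.mul_mod_mod, ← Nat.add_mod]

theorem app_mod (ℓ : ℕ) (L : List (List ℕ)) (b : List ℕ) :
    Check.app ℓ L (b.map (· % ℓ)) = Check.app ℓ L b :=
  List.map_congr_left fun row _ => valN_mod ℓ row b

variable {D : ChevalleyDatum} (hF : Facts.{u} D) {C : Alcove D} (hC : C.Valid) {S : Sys}
  (hS : tableOK D C S = true) {k : Type u} [Field k]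

theorem torus_ext {c d : Fin D.rank → kˣ} (h : ∀ s : Fin D.nroots, chiU c (s : ℕ) = chiU d (s : ℕ))
    (hF : Facts.{u} D) : (torusHom c : GL D.Idx k) = torusHom d := by
  refine Units.ext ?_
  rw [torus_diag hF, torus_diag hF]
  congr 1
  funext a
  rcases a with i | s
  · rfl
  · simp [h s]

section Dep

variable {ζ : kˣ} (hζ : IsPrimitiveRoot ζ S.ℓ) (hℓ : S.ℓ.Prime)

include hF hS hζ in
theorem torus_of_dep2 {c d : Fin D.rank → kˣ} {a b : List ℕ} (ha : Logs S ζ c a) (hb : Logs S ζ d b)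
    (h : dep2 S.ℓ (S.V a) (S.V b) = true) :
    ∃ s < S.ℓ, (torusHom d : GL D.Idx k) = torusHom c ^ s := by
  obtain ⟨-, -, hR, -, -⟩ := tableOK_parts hS
  simp only [dep2, List.any_eq_true, List.mem_range, beq_iff_eq] at h
  obtain ⟨s, hs, e⟩ := h
  refine ⟨s, hs, ?_⟩
  rw [← map_pow]
  refine torus_ext (fun r => ?_) hF
  have hr : (r : ℕ) < S.rows.length := by rw [hR, List.length_ofFn]; exact r.2
  rw [TorusTest.chiU_pow', hb.2, ha.2, ← pow_mul, e, pow_eq_pow_iff_modEq, ← hζ.eq_orderOf]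
  simp [Sys.V, vals, hr, Nat.ModEq, Nat.mod_mod, mul_comm s]

include hF hS hζ in
theorem torus_of_dep3 {c d f : Fin D.rank → kˣ} {a b e' : List ℕ} (ha : Logs S ζ c a)
    (hb : Logs S ζ d b) (hf : Logs S ζ f e') (h : dep3 S.ℓ (S.V a) (S.V b) (S.V e') = true) :
    ∃ s < S.ℓ, ∃ t < S.ℓ, (torusHom f : GL D.Idx k) = torusHom c ^ s * torusHom d ^ t := by
  obtain ⟨-, -, hR, -, -⟩ := tableOK_parts hS
  simp only [dep3, List.any_eq_true, List.mem_range, beq_iff_eq] at h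
  obtain ⟨s, hs, t, ht, e⟩ := h
  refine ⟨s, hs, t, ht, ?_⟩
  rw [← map_pow, ← map_pow, ← map_mul]
  refine torus_ext (fun r => ?_) hF
  have hr : (r : ℕ) < S.rows.length := by rw [hR, List.length_ofFn]; exact r.2
  rw [chiU_mul', TorusTest.chiU_pow', TorusTest.chiU_pow', hf.2, hb.2, ha.2, ← pow_mul, ← pow_mul,
    ← pow_add, e, pow_eq_pow_iff_modEq, ← hζ.eq_orderOf]
  simp [Sys.V, vals, hr, Nat.ModEq, Nat.mod_mod, mul_comm s, mul_comm t]

end Dep

variable [IsAlgClosed k] {ζ : kˣ} (hζ : IsPrimitiveRoot ζ S.ℓ) (hℓ : S.ℓ.Prime)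

theorem conj_word (hF : Facts.{u} D) (u : List (Fin D.rank)) (c : Fin D.rank → kˣ) :
    (torusHom (wordC D u c) : GL D.Idx k) = MulAut.conj (nWord hF u : GL D.Idx k) (torusHom c) :=
  eq_mul_inv_of_mul_eq (torusHom_wordC hF u c)

include hF hC hS hζ in
/-- The first element is moved to a representative. -/
theorem exists_rep_word {marks js : List ℕ} {j : ℕ} (hjs : js = [j]) {moves : List Move}
    {reps : List (List ℕ)} (hc : S.check1 marks js moves reps = true)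
    (hmarks : ((List.ofFn fun i : Fin D.rank => -C.coord C.low i) ==
      marks.map fun m => ((m : ℕ) : ℤ)) = true) (hMpos : (marks.all fun m => 0 < m) = true)
    {c : Fin D.rank → kˣ} (hcℓ : (torusHom c : GL D.Idx k) ^ S.ℓ = 1)
    (hc1 : (torusHom c : GL D.Idx k) ≠ 1) {g : GL D.Idx k}
    (hg : g * torusHom c * g⁻¹ = torusHom c ^ j) :
    ∃ (u : List (Fin D.rank)) (mv : Move) (a : List ℕ), S.moveOK mv = true ∧
      Check.app S.ℓ mv.2 a ∈ reps ∧ Logs S ζ (wordC D u c) a := by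
  subst hjs
  obtain ⟨b, hb⟩ := exists_logs' hF hC hS hζ hcℓ
  obtain ⟨u, a, ha, hlog, hV⟩ := exists_alcove_point hF hC hS hζ hmarks hMpos hb
  have hne : ∃ x ∈ a, x % S.ℓ ≠ 0 := by
    by_contra hall
    push Not at hall
    refine hc1 ((MulAut.conj (nWord hF u : GL D.Idx k)).injective ?_)
    rw [← conj_word hF, map_one, torusHom_eq_one_iff]
    intro s
    rw [hlog.2, ← hV]
    have e : (S.V a).getD s 0 = 0 := by
      obtain ⟨-, -, hR, -, -⟩ := tableOK_parts hS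
      have hr : (s : ℕ) < S.rows.length := by rw [hR, List.length_ofFn]; exact s.2
      have h0 : a.map (· % S.ℓ) = List.replicate a.length 0 :=
        List.eq_replicate_iff.2 ⟨by simp, fun x hx => by
          obtain ⟨y, hy, rfl⟩ := List.mem_map.1 hx; exact hall y hy⟩
      rw [hV]
      simp only [Sys.V, vals, List.getD_eq_getElem?_getD, List.getElem?_map,
        List.getElem?_eq_getElem hr, Option.map_some, Option.getD_some, valN, h0]
      rw [show (List.zipWith (· * ·) S.rows[(s : ℕ)] (List.replicate a.length 0)).sum = 0 from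
        List.sum_eq_zero fun x hx => by
          obtain ⟨i, hi, rfl⟩ := List.getElem_of_mem hx; simp, Nat.zero_mod]
    rw [e, pow_zero]
  have hinv : S.Inv1 [j] (S.V a) := by
    rw [hV]
    refine inv1_of_conj hF hS hζ hlog
      (g := MulAut.conj (nWord hF u : GL D.Idx k) g) ?_
    rw [conj_word hF, ← map_inv, ← map_mul, ← map_mul, hg, map_pow]
  obtain ⟨mv, hmv, hrep⟩ := Sys.exists_rep hc ha hne hinv
  exact ⟨u, mv, a.map (· % S.ℓ), hmv, by rwa [app_mod], hlog⟩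

include hF hC hS hζ in
/-- A second element is dependent or one of the listed values. -/
theorem pair_word {Ts : List (ℕ × ℕ × ℕ × ℕ)} {P : Sys.Loc} {pairs : List (List ℕ)}
    (hc : S.check2 P Ts pairs = true) {u : List (Fin D.rank)} {mv : Move} {a : List ℕ}
    (hmv : S.moveOK mv = true) (hP : Check.app S.ℓ mv.2 a = P.a) {c d : Fin D.rank → kˣ}
    (ha : Logs S ζ (wordC D u c) a) (hdℓ : (torusHom d : GL D.Idx k) ^ S.ℓ = 1)
    (hg : ∀ m ∈ Ts, ∃ g : GL D.Idx k,
      g * torusHom c * g⁻¹ = torusHom c ^ m.1 * torusHom d ^ m.2.1 ∧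
      g * torusHom d * g⁻¹ = torusHom c ^ m.2.2.1 * torusHom d ^ m.2.2.2) :
    (∃ s < S.ℓ, (torusHom d : GL D.Idx k) = torusHom c ^ s) ∨
      ∃ b, Logs S ζ (wordC D u d) b ∧ Check.app S.ℓ mv.2 b ∈ pairs := by
  obtain ⟨hok, -, -, -, -⟩ := tableOK_parts hS
  obtain ⟨b, hb⟩ := exists_logs' hF hC hS hζ (c := wordC D u d)
    (by rw [conj_word hF, ← map_pow, hdℓ, map_one])
  have hinv : S.Inv2 Ts (S.V a) (S.V b) := by
    intro w m hm
    obtain ⟨g, h1, h2⟩ := hg m hm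
    refine inv2_of_conj hF hS hζ ha hb (g := MulAut.conj (nWord hF u : GL D.Idx k) g)
      (m := m) ?_ ?_ w m (List.mem_singleton_self m)
    · rw [conj_word hF, conj_word hF, ← map_inv, ← map_mul, ← map_mul, h1, map_mul, map_pow, map_pow]
    · rw [conj_word hF, conj_word hF, ← map_inv, ← map_mul, ← map_mul, h2, map_mul, map_pow, map_pow]
  have hinv' := Sys.inv2_move hok hmv ha.1 hb.1 hinv
  rw [hP] at hinv'
  rcases Sys.mem_of_inv2 hc (Sys.move_V hok hmv hb.1).1 hinv' with h | h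
  · exact Or.inr ⟨b, hb, h⟩
  · left
    rw [← hP, (Sys.move_V hok hmv ha.1).2, (Sys.move_V hok hmv hb.1).2] at h
    obtain ⟨hlen, hlt, hnd⟩ := Sys.moveOK_parts hmv
    have h' := Sys.dep2_perm (by simp [Sys.V_length]) (fun i hi => Sys.mem_of_full hlen hlt hnd i
      (by simpa [Sys.V_length] using hi)) (by simpa [Sys.V_length] using hlt) h
    obtain ⟨s, hs, e⟩ := torus_of_dep2 hF hS hζ ha hb h'
    refine ⟨s, hs, (MulAut.conj (nWord hF u : GL D.Idx k)).injective ?_⟩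
    rw [map_pow, ← conj_word hF, ← conj_word hF, e]

include hF hC hS hζ in
/-- Without listed values a second element is a power of the first. -/
theorem pow_of_pair {marks : List ℕ} {j : ℕ} {moves : List Move} {reps : List (List ℕ)}
    (hc1 : S.check1 marks [j] moves reps = true)
    (hmarks : ((List.ofFn fun i : Fin D.rank => -C.coord C.low i) ==
      marks.map fun m => ((m : ℕ) : ℤ)) = true) (hMpos : (marks.all fun m => 0 < m) = true)
    {Ts : List (ℕ × ℕ × ℕ × ℕ)}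
    (hreps : ∀ a ∈ reps, ∃ P : Sys.Loc, P.a = a ∧ S.check2 P Ts [] = true)
    {c d : Fin D.rank → kˣ} (hcℓ : (torusHom c : GL D.Idx k) ^ S.ℓ = 1)
    (hdℓ : (torusHom d : GL D.Idx k) ^ S.ℓ = 1) (hne : (torusHom c : GL D.Idx k) ≠ 1)
    {g : GL D.Idx k} (hg : g * torusHom c * g⁻¹ = torusHom c ^ j)
    (hgs : ∀ m ∈ Ts, ∃ g : GL D.Idx k,
      g * torusHom c * g⁻¹ = torusHom c ^ m.1 * torusHom d ^ m.2.1 ∧
      g * torusHom d * g⁻¹ = torusHom c ^ m.2.2.1 * torusHom d ^ m.2.2.2) :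
    ∃ s < S.ℓ, (torusHom d : GL D.Idx k) = torusHom c ^ s := by
  obtain ⟨u, mv, a, hmv, hrep, ha⟩ := exists_rep_word hF hC hS hζ rfl hc1 hmarks hMpos hcℓ hne hg
  obtain ⟨P, hPa, hc2⟩ := hreps _ hrep
  rcases pair_word hF hC hS hζ hc2 hmv hPa.symm ha hdℓ hgs with h | ⟨b, -, h⟩
  · exact h
  · exact absurd h List.not_mem_nil

include hF hC hS hζ in
/-- Three elements with one representative are dependent. -/
theorem dep_of_triple {marks : List ℕ} {j : ℕ} {moves : List Move} {P : Sys.Loc}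
    (hc1 : S.check1 marks [j] moves [P.a] = true)
    (hmarks : ((List.ofFn fun i : Fin D.rank => -C.coord C.low i) ==
      marks.map fun m => ((m : ℕ) : ℤ)) = true) (hMpos : (marks.all fun m => 0 < m) = true)
    {Ts : List (ℕ × ℕ × ℕ × ℕ)} {T3 : List ((ℕ × ℕ × ℕ) × (ℕ × ℕ × ℕ) × (ℕ × ℕ × ℕ))}
    {pairs reps2 : List (List ℕ)} (hc2 : S.check2 P Ts pairs = true)
    (hc3 : S.check3 P T3 pairs reps2 = true) (c : Fin 3 → Fin D.rank → kˣ)
    (hcℓ : ∀ i, (torusHom (c i) : GL D.Idx k) ^ S.ℓ = 1)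
    (hne : (torusHom (c 0) : GL D.Idx k) ≠ 1)
    {g : GL D.Idx k} (hg : g * torusHom (c 0) * g⁻¹ = torusHom (c 0) ^ j)
    (hgs : ∀ i : Fin 3, i ≠ 0 → ∀ m ∈ Ts, ∃ g : GL D.Idx k,
      g * torusHom (c 0) * g⁻¹ = torusHom (c 0) ^ m.1 * torusHom (c i) ^ m.2.1 ∧
      g * torusHom (c i) * g⁻¹ = torusHom (c 0) ^ m.2.2.1 * torusHom (c i) ^ m.2.2.2)
    (hg3 : ∀ m ∈ T3, ∃ g : GL D.Idx k,
      g * torusHom (c 0) * g⁻¹ =
        torusHom (c 0) ^ m.1.1 * torusHom (c 1) ^ m.1.2.1 * torusHom (c 2) ^ m.1.2.2 ∧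
      g * torusHom (c 1) * g⁻¹ =
        torusHom (c 0) ^ m.2.1.1 * torusHom (c 1) ^ m.2.1.2.1 * torusHom (c 2) ^ m.2.1.2.2 ∧
      g * torusHom (c 2) * g⁻¹ =
        torusHom (c 0) ^ m.2.2.1 * torusHom (c 1) ^ m.2.2.2.1 * torusHom (c 2) ^ m.2.2.2.2) :
    (∃ i : Fin 3, i ≠ 0 ∧ ∃ s < S.ℓ, (torusHom (c i) : GL D.Idx k) = torusHom (c 0) ^ s) ∨
      ∃ s < S.ℓ, ∃ t < S.ℓ,
        (torusHom (c 2) : GL D.Idx k) = torusHom (c 0) ^ s * torusHom (c 1) ^ t := by
  obtain ⟨hok, -, -, -, -⟩ := tableOK_parts hS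
  obtain ⟨u, mv, a, hmv, hrep, ha⟩ :=
    exists_rep_word hF hC hS hζ rfl hc1 hmarks hMpos (hcℓ 0) hne hg
  have hPa := List.mem_singleton.1 hrep
  rcases pair_word hF hC hS hζ hc2 hmv hPa ha (hcℓ 1) (hgs 1 (by decide)) with h | ⟨b, hb, hbS⟩
  · exact Or.inl ⟨1, by decide, h⟩
  rcases pair_word hF hC hS hζ hc2 hmv hPa ha (hcℓ 2) (hgs 2 (by decide)) with h | ⟨e, he, heS⟩
  · exact Or.inl ⟨2, by decide, h⟩
  right
  obtain ⟨hlen, hlt, hnd⟩ := Sys.moveOK_parts hmv
  have hinv : S.Inv3 T3 (S.V (Check.app S.ℓ mv.2 a)) (S.V (Check.app S.ℓ mv.2 b))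
      (S.V (Check.app S.ℓ mv.2 e)) := by
    intro w m hm
    obtain ⟨g, h0, h1, h2⟩ := hg3 m hm
    have h := inv3_of_conj hF hS hζ (c := fun i => wordC D u (c i)) (b := ![a, b, e])
      (fun i => by fin_cases i <;> assumption) (g := MulAut.conj (nWord hF u : GL D.Idx k) g)
      (m := m)
      (by simp only [conj_word hF, ← map_inv, ← map_mul, h0]; simp only [map_mul, map_pow])
      (by simp only [conj_word hF, ← map_inv, ← map_mul, h1]; simp only [map_mul, map_pow])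
      (by simp only [conj_word hF, ← map_inv, ← map_mul, h2]; simp only [map_mul, map_pow])
      w m (List.mem_singleton_self m)
    rw [(Sys.move_V hok hmv ha.1).2, (Sys.move_V hok hmv hb.1).2, (Sys.move_V hok hmv he.1).2,
      Sys.code3_perm (by simp [Sys.V_length]) (by simp [Sys.V_length])
        (by simpa [Sys.V_length] using hlt)]
    exact Sys.inv_map_perm (by simp [code3, code2, Sys.V_length, hlen])
      (by simpa [code3, code2, Sys.V_length] using hlt) hnd (by simpa using h)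
  rw [hPa] at hinv
  have hd := Sys.dep_of_inv3 hc2 hc3 (Sys.move_V hok hmv hb.1).1 (Sys.move_V hok hmv he.1).1
    hbS heS hinv
  rw [← hPa, (Sys.move_V hok hmv ha.1).2, (Sys.move_V hok hmv hb.1).2,
    (Sys.move_V hok hmv he.1).2] at hd
  obtain ⟨s, hs, t, ht, h⟩ := torus_of_dep3 hF hS hζ ha hb he (Sys.dep3_perm
    (by simp [Sys.V_length]) (by simp [Sys.V_length]) (fun i hi => Sys.mem_of_full hlen hlt hnd i
      (by simpa [Sys.V_length] using hi)) hd)
  refine ⟨s, hs, t, ht, (MulAut.conj (nWord hF u : GL D.Idx k)).injective ?_⟩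
  rw [map_mul, map_pow, map_pow, ← conj_word hF, ← conj_word hF, ← conj_word hF, h]

end Cfsg.Agent.AltSec.E7
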