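import Cfsg.Agent.AltSec.TorusAlt
import Mathlib.GroupTheory.Perm.Cycle.Type
import Mathlib.GroupTheory.Index

/-!
Subgroups of alternating groups given by lists.
-/

set_option autoImplicit false

namespace Cfsg.Agent.AltSec.E7

universe v

/-- The even permutation with the given list of images. -/
def mkP {m : ℕ} [NeZero m] (l l' : List ℕ)
    (h₁ : ∀ i : Fin m, (Fin.ofNat m (l'.getD (Fin.ofNat m (l.getD i 0) : Fin m) 0)) = i)
    (h₂ : ∀ i : Fin m, (Fin.ofNat m (l.getD (Fin.ofNat m (l'.getD i 0) : Fin m) 0)) = i)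
    (hs : Equiv.Perm.sign (⟨fun i => Fin.ofNat m (l.getD i 0), fun i => Fin.ofNat m (l'.getD i 0),
      h₁, h₂⟩ : Equiv.Perm (Fin m)) = 1) : alternatingGroup (Fin m) :=
  TorusAlt.mkAlt _ _ h₁ h₂ hs

variable {m : ℕ}

/-- The list of images. -/
def code (g : alternatingGroup (Fin m)) : List ℕ :=
  List.ofFn fun i => ((g : Equiv.Perm (Fin m)) i : ℕ)

/-- Composition of lists of images. -/
def comp (a b : List ℕ) : List ℕ := b.map fun x => a.getD x 0

/-- Powers of lists of images. -/
def powL (l : List ℕ) : ℕ → List ℕ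
  | 0 => List.range l.length
  | n + 1 => comp l (powL l n)

theorem code_one : code (1 : alternatingGroup (Fin m)) = List.range m :=
  List.ext_getElem (by simp [code]) fun i h1 h2 => by simp [code]

theorem code_mul (g h : alternatingGroup (Fin m)) : code (g * h) = comp (code g) (code h) :=
  List.ext_getElem (by simp [code, comp]) fun i h1 h2 => by simp [code, comp]

theorem code_pow (g : alternatingGroup (Fin m)) : ∀ n, code (g ^ n) = powL (code g) n
  | 0 => by rw [pow_zero, code_one, powL]; simp [code]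
  | n + 1 => by rw [pow_succ', code_mul, code_pow g n]; rfl

theorem code_injective : Function.Injective (code (m := m)) := fun g h e => by
  refine Subtype.ext (Equiv.ext fun i => Fin.ext ?_)
  simpa [code] using congrArg (fun l => l.getD (i : ℕ) 0) e

/-- Induction along a generated subgroup of a finite group. -/
theorem closure_induction_left' {A : Type v} [Group A] [Finite A] (G : List A) {P : A → Prop}
    (h1 : P 1) (hmul : ∀ g ∈ G, ∀ y, P y → P (g * y)) :
    ∀ r ∈ Subgroup.closure {x | x ∈ G}, P r := by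
  intro r hr
  have h : r ∈ Submonoid.closure {x | x ∈ G} := by
    induction hr using Subgroup.closure_induction with
    | mem x hx => exact Submonoid.subset_closure hx
    | one => exact one_mem _
    | mul x y _ _ hx hy => exact mul_mem hx hy
    | inv x _ hx =>
      rw [show x⁻¹ = x ^ (orderOf x - 1) by
        rw [inv_eq_iff_mul_eq_one, ← pow_succ', Nat.sub_add_cancel (orderOf_pos x),
          pow_orderOf_eq_one]]
      exact pow_mem hx _
  clear hr
  induction h using Submonoid.closure_induction_left with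
  | one => exact h1
  | mul_left x hx y _ hy => exact hmul x hx y hy

/-- A listed subgroup without elements of order `ℓ` has order prime to `ℓ`. -/
theorem coprime_of_list {ℓ : ℕ} [hℓ : Fact ℓ.Prime] (G : List (alternatingGroup (Fin m)))
    (L : List (List ℕ)) (h1 : L.contains (List.range m) = true)
    (hclosed : ((G.map code).all fun g => L.all fun l => L.contains (comp g l)) = true)
    (hno : (L.all fun l => powL l ℓ != List.range m || l == List.range m) = true) :
    Nat.Coprime ℓ (Nat.card (Subgroup.closure {x | x ∈ G})) := by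
  simp only [List.contains_iff_mem] at h1
  simp only [List.all_eq_true, List.contains_iff_mem, List.mem_map, forall_exists_index, and_imp,
    forall_apply_eq_imp_iff₂] at hclosed
  simp only [List.all_eq_true, Bool.or_eq_true, bne_iff_ne, beq_iff_eq] at hno
  have hmem : ∀ r ∈ Subgroup.closure {x | x ∈ G}, code r ∈ L :=
    closure_induction_left' G (by rwa [code_one]) fun g hg y hy => by
      rw [code_mul]; exact hclosed g hg _ hy
  refine hℓ.out.coprime_iff_not_dvd.2 fun hd => ?_
  obtain ⟨r, hr⟩ := exists_prime_orderOf_dvd_card' ℓ hd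
  have h2 : (r : alternatingGroup (Fin m)) ^ ℓ = 1 := by
    rw [← Subgroup.coe_pow, ← hr, pow_orderOf_eq_one]; rfl
  rcases hno _ (hmem r r.2) with h | h
  · exact h (by rw [← code_pow, h2, code_one])
  · have : (r : alternatingGroup (Fin m)) = 1 := code_injective (h.trans code_one.symm)
    rw [show r = 1 from Subtype.ext this, orderOf_one] at hr
    exact hℓ.out.one_lt.ne hr

/-- A check on lists giving the conjugates of some elements by generators. -/
theorem monomial_of_lists {ℓ n : ℕ} (G : List (alternatingGroup (Fin m)))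
    (x : Fin n → alternatingGroup (Fin m))
    (h : ((G.map code).all fun g => ((List.finRange n).map fun i => code (x i)).all fun y =>
      ((List.finRange n).map fun i => code (x i)).any fun z =>
        (List.range ℓ).any fun a => comp g y == comp (powL z a) g) = true) :
    ∀ g ∈ G, ∀ i, ∃ j, ∃ a : ℕ, g * x i * g⁻¹ = x j ^ a := by
  simp only [List.all_eq_true, List.any_eq_true, beq_iff_eq, List.mem_map, List.mem_finRange,
    true_and, forall_exists_index, and_imp, forall_apply_eq_imp_iff₂] at h
  intro g hg i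
  obtain ⟨z, ⟨j, rfl⟩, a, -, e⟩ := h g hg _ i rfl
  refine ⟨j, a, mul_inv_eq_iff_eq_mul.2 (code_injective ?_)⟩
  rw [code_mul, code_mul, code_pow, e]

variable {A : Type v} [Group A]

/-- Conjugation by generated elements permutes the powers of some elements. -/
theorem monomial_of_gens [Finite A] (G : List A) {n : ℕ} (x : Fin n → A)
    (h : ∀ g ∈ G, ∀ i, ∃ j, ∃ a : ℕ, g * x i * g⁻¹ = x j ^ a) :
    ∀ r ∈ Subgroup.closure {x | x ∈ G}, ∀ i, ∃ j, ∃ a : ℕ, r * x i * r⁻¹ = x j ^ a := by
  refine closure_induction_left' G (fun i => ⟨i, 1, by simp⟩) fun g hg y hy i => ?_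
  obtain ⟨j, a, e⟩ := hy i
  obtain ⟨l, b, e'⟩ := h g hg j
  refine ⟨l, b * a, ?_⟩
  rw [pow_mul, ← e', conj_pow, ← e]
  group

theorem closure_range_comm {n : ℕ} {x : Fin n → A} (hc : ∀ i j, x i * x j = x j * x i) :
    ∀ a ∈ Subgroup.closure (Set.range x), ∀ b ∈ Subgroup.closure (Set.range x), a * b = b * a := by
  intro a ha b hb
  refine Subgroup.closure_induction₂ (p := fun u v _ _ => u * v = v * u) ?_ (fun x _ => by simp)
    (fun x _ => by simp) (fun a b c _ _ _ h1 h2 => (Commute.mul_left h1 h2))
    (fun a b c _ _ _ h1 h2 => (Commute.mul_right h1 h2))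
    (fun a b _ _ h => Commute.inv_left h) (fun a b _ _ h => Commute.inv_right h) ha hb
  rintro _ _ ⟨i, rfl⟩ ⟨j, rfl⟩
  exact hc i j

theorem closure_range_pow {n ℓ : ℕ} {x : Fin n → A} (hc : ∀ i j, x i * x j = x j * x i)
    (hx : ∀ i, x i ^ ℓ = 1) : ∀ a ∈ Subgroup.closure (Set.range x), a ^ ℓ = 1 := by
  intro a ha
  induction ha using Subgroup.closure_induction with
  | mem a ha => obtain ⟨i, rfl⟩ := ha; exact hx i
  | one => exact one_pow _
  | mul a b ha hb h1 h2 =>
    rw [(show Commute a b from closure_range_comm hc a ha b hb).mul_pow, h1, h2, one_mul]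
  | inv a _ h => rw [inv_pow, h, inv_one]

theorem closure_range_conj {n : ℕ} {x : Fin n → A} {R : Subgroup A}
    (hmon : ∀ r ∈ R, ∀ i, ∃ j, ∃ a : ℕ, r * x i * r⁻¹ = x j ^ a) :
    ∀ r ∈ R, ∀ y ∈ Subgroup.closure (Set.range x), r * y * r⁻¹ ∈ Subgroup.closure (Set.range x) := by
  intro r hr y hy
  induction hy using Subgroup.closure_induction with
  | mem a ha =>
    obtain ⟨i, rfl⟩ := ha
    obtain ⟨j, b, e⟩ := hmon r hr i
    rw [e]; exact pow_mem (Subgroup.subset_closure (Set.mem_range_self j)) _
  | one => simp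
  | mul a b _ _ h1 h2 =>
    rw [show r * (a * b) * r⁻¹ = r * a * r⁻¹ * (r * b * r⁻¹) by group]; exact mul_mem h1 h2
  | inv a _ h => rw [show r * a⁻¹ * r⁻¹ = (r * a * r⁻¹)⁻¹ by group]; exact inv_mem h

/-- A power prime to the order generates. -/
theorem mem_of_pow_mem {ℓ : ℕ} (hℓ : ℓ.Prime) {x : A} (hx : x ^ ℓ = 1) {S : Subgroup A} {a : ℕ}
    (ha : ¬ ℓ ∣ a) (h : x ^ a ∈ S) : x ∈ S := by
  obtain ⟨y, hy⟩ := Nat.exists_mul_mod_eq_one_of_coprime ((hℓ.coprime_iff_not_dvd.2 ha).symm)
    hℓ.one_lt
  have : x ^ (a * y) = x := by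
    rw [← Nat.div_add_mod (a * y) ℓ, hy.2, pow_add, pow_mul, hx, one_pow, one_mul, pow_one]
  rw [← this, pow_mul]
  exact pow_mem h y

end Cfsg.Agent.AltSec.E7
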