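import Cfsg.Agent.AltSec.E7.Setting
import Cfsg.Agent.AltSec.E7.Combine
import Cfsg.Agent.AltSec.E7.Group

/-!
The lifted elements lie in one torus.
-/

set_option autoImplicit false

namespace Cfsg.Agent.AltSec.E7

open Cfsg.Lie Cfsg.Agent.Chev Cfsg.Agent.Chev.SS Cfsg.Agent.AltSec.E7.Check
open scoped MatrixGroups

universe u v

variable {D : ChevalleyDatum} (hF : Facts.{u} D) {C : Alcove D} (hC : C.Valid) {S : Sys}
  {A : Type v} [Group A] {R : Subgroup A} {n : ℕ} {x : Fin n → A} {k : Type u} [Field k]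
  [IsAlgClosed k]

include hF hC in
/-- All lifted elements are torus elements. -/
theorem Lifted.all_torus (hS : tableOK D C S = true) (hℓ : S.ℓ.Prime) (hk : (S.ℓ : k) ≠ 0)
    (hW : ¬ S.ℓ * S.ℓ ∣ Nat.card ↥(weyl hF))
    {Am P : List (List ℕ)} {free : List ℕ} {T : List (List ℕ)} {j : ℕ}
    (hc : S.fixCheck Am P free T [j] = true) {w0 : List (Fin D.rank)}
    (hA : Am = List.ofFn fun i : Fin D.rank =>
      S.rows.getD (img D (w0.map Fin.val) (D.simple i)) [])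
    (h0 : orderOf (pWord hF w0) = S.ℓ) (L : Lifted D S R x k)
    (hxo : ∀ i, orderOf (x i) = S.ℓ)
    (hxi : ∀ i j, ∀ a b : ℕ, x i ^ a = x j ^ b → i = j ∨ (S.ℓ ∣ a ∧ S.ℓ ∣ b))
    (hpair : ∀ i l, ∃ r ∈ R, r * x i * r⁻¹ = x i ^ j ∧ r * x l * r⁻¹ = x l ^ j)
    (h2 : ∀ i : Fin n, ∃ l, l ≠ i) :
    ∀ i, ∃ c : Fin D.rank → kˣ, torusHom c = L.w i := by
  intro l
  by_contra hl
  have hl' : L.w l ∉ D.diagonalSubgroup k := fun h => hl (exists_torus hF h)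
  obtain ⟨i, hi⟩ := h2 l
  obtain ⟨a, -, hz⟩ := L.step i l hl'
  haveI : NeZero (S.ℓ : k) := ⟨hk⟩
  obtain ⟨ζ₀, hζ₀⟩ := HasEnoughRootsOfUnity.exists_primitiveRoot k S.ℓ
  obtain ⟨ζ, rfl⟩ := hζ₀.isUnit hℓ.ne_zero
  have hζ : IsPrimitiveRoot ζ S.ℓ := IsPrimitiveRoot.coe_units_iff.1 hζ₀
  obtain ⟨r, hr, hr1, hr2⟩ := hpair i l
  obtain ⟨g, -, hg⟩ := L.conj r hr
  have hcm : Commute (L.w i) (L.w l ^ a) := Commute.pow_right (L.comm i l) a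
  refine fixed_false hF hC hS hζ hc hA hℓ h0 hW (z := L.w i * L.w l ^ a) (n := L.w l) (g := g)
    (a := 1) hz ?_ ?_ (L.mon l) hl' ?_ ?_ ?_
  · intro h
    have h' := L.indep i l hi 1 a (by rwa [pow_one])
    have hxl : x l ^ S.ℓ = 1 := hxo l ▸ pow_orderOf_eq_one _
    have h'' : x i ^ 1 = x l ^ ((S.ℓ - 1) * a) := by
      rw [eq_inv_of_mul_eq_one_left h', inv_eq_iff_mul_eq_one, ← pow_add,
        show a + (S.ℓ - 1) * a = S.ℓ * a by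
          obtain ⟨e, he⟩ : ∃ e, S.ℓ = e + 1 := ⟨S.ℓ - 1, by have := hℓ.pos; omega⟩
          rw [he, Nat.add_sub_cancel]; ring, pow_mul, hxl, one_pow]
    rcases hxi i l _ _ h'' with h3 | ⟨h3, -⟩
    · exact hi h3
    · exact hℓ.one_lt.ne' (Nat.dvd_one.1 h3)
  · rw [hcm.mul_pow, ← pow_mul, mul_comm a, pow_mul, L.pow, L.pow, one_pow, one_mul]
  · rw [pow_one]; exact L.pow l
  · exact Commute.mul_right (L.comm l i) (Commute.pow_right rfl a)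
  · rw [show g * (L.w i * L.w l ^ a) * g⁻¹ = g * L.w i * g⁻¹ * (g * L.w l * g⁻¹) ^ a by
      rw [conj_pow]; group, hg i i j hr1, hg l l j hr2, hcm.mul_pow, ← pow_mul, ← pow_mul,
      mul_comm a]

/-- The conjugate of the pair given by a relation. -/
theorem Lifted.conj_pair (L : Lifted D S R x k) {i l : Fin n} {c d : Fin D.rank → kˣ}
    (hc : torusHom c = L.w i) (hd : torusHom d = L.w l) {m : ℕ × ℕ × ℕ × ℕ}
    (h : ∃ r ∈ R,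
      ((m.2.1 = 0 ∧ r * x i * r⁻¹ = x i ^ m.1) ∨ (m.1 = 0 ∧ r * x i * r⁻¹ = x l ^ m.2.1)) ∧
      ((m.2.2.2 = 0 ∧ r * x l * r⁻¹ = x i ^ m.2.2.1) ∨
        (m.2.2.1 = 0 ∧ r * x l * r⁻¹ = x l ^ m.2.2.2))) :
    ∃ g : GL D.Idx k,
      g * torusHom c * g⁻¹ = torusHom c ^ m.1 * torusHom d ^ m.2.1 ∧
      g * torusHom d * g⁻¹ = torusHom c ^ m.2.2.1 * torusHom d ^ m.2.2.2 := by
  obtain ⟨r, hr, h1, h2⟩ := h
  obtain ⟨g, -, hg⟩ := L.conj r hr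
  rw [hc, hd]
  refine ⟨g, ?_, ?_⟩
  · rcases h1 with ⟨e, h⟩ | ⟨e, h⟩ <;> rw [hg _ _ _ h, e] <;> simp
  · rcases h2 with ⟨e, h⟩ | ⟨e, h⟩ <;> rw [hg _ _ _ h, e] <;> simp

end Cfsg.Agent.AltSec.E7
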