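import Cfsg.Agent.AltSec.E7.Sound

/-!
The searches for root values of invariant commuting elements.
-/

set_option autoImplicit false

namespace Cfsg.Agent.AltSec.E7.Check

open Cfsg.Agent.AltSec.TorusTest (simplex)

abbrev Move := List ℕ × List (List ℕ)

namespace Sys

variable (S : Sys)

/-- Single values invariant under the multiplications. -/
def Inv1 (js : List ℕ) (x : List ℕ) : Prop :=
  ∀ w : ℕ → ℕ, ∀ j ∈ js, inv w (mulT S.ℓ j) x = true

/-- Every point of the simplex is trivial, not invariant or moved to a representative. -/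
def check1 (marks js : List ℕ) (moves : List Move) (reps : List (List ℕ)) : Bool :=
  S.ok && (moves.all fun mv => S.moveOK mv) &&
  (simplex marks S.ℓ).all fun a =>
    (a.all fun x => x % S.ℓ == 0) || (js.any fun j => !inv full (mulT S.ℓ j) (S.V a)) ||
      moves.any fun mv => reps.contains (app S.ℓ mv.2 a)

/-- The data of a representative. -/
structure Loc where
  a : List ℕ
  J : List ℕ
  rest : List ℕ
  moves : List Move
  d : ℕ
  m : ℕ × ℕ × ℕ × ℕ

/-- The merging of the parts of a vector. -/
def merge (P : Loc) (x y : List ℕ) : List ℕ :=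
  (List.range S.n).map fun i =>
    if P.J.contains i then x.getD (P.J.idxOf i) 0 else y.getD (P.rest.idxOf i) 0

/-- The roots vanishing at the representative. -/
def zeroRoots (P : Loc) : List ℕ :=
  (List.range S.rows.length).filter fun s => (S.V P.a).getD s 0 == 0

/-- The weight of the pairs with vanishing first value. -/
def sliceW (c : ℕ) : ℕ := bif Nat.beq (c % S.ℓ) 0 then 256 ^ (c / S.ℓ) else 0

/-- The local data are consistent. -/
def locOK (P : Loc) : Bool :=
  (P.moves.all fun mv => S.moveOK mv && app S.ℓ mv.2 P.a == P.a &&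
    (P.J.all fun i => (List.range S.n).all fun l => P.J.contains l ||
      ((mv.2.getD i []).getD l 0 == 0))) &&
  Nat.beq P.a.length S.n && (P.a.all fun x => Nat.blt x S.ℓ) &&
  ((List.range S.n).all fun i => P.J.contains i || P.rest.contains i) &&
  ((P.J ++ P.rest).all fun i => Nat.blt i S.n) &&
  ((S.zeroRoots P).all fun s => (List.range S.n).all fun l => P.J.contains l ||
    ((S.rows.getD s []).getD l 0 == 0)) &&
  ((List.range (S.ℓ * S.ℓ)).all fun c =>
    (if c % S.ℓ == 0 then linT2 S.ℓ P.m c == S.ℓ * mulT S.ℓ P.d (c / S.ℓ)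
      else linT2 S.ℓ P.m c % S.ℓ != 0))

/-- A move lowers the local part. -/
def lower (P : Loc) (x : List ℕ) : Bool :=
  P.moves.any fun mv =>
    Nat.blt (num S.ℓ (pick P.J (app S.ℓ mv.2 (S.merge P x (P.rest.map fun _ => 0))))) (num S.ℓ x)

/-- The local part is not invariant. -/
def sliceFail (P : Loc) (x : List ℕ) : Bool :=
  let b := S.merge P x (P.rest.map fun _ => 0)
  !inv full (mulT S.ℓ P.d) ((S.zeroRoots P).map fun s => valN S.ℓ (S.rows.getD s []) b)

/-- The full vector is excluded. -/
def pairFail (P : Loc) (Ts : List (ℕ × ℕ × ℕ × ℕ)) (S2 : List (List ℕ)) (b : List ℕ) : Bool :=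
  (Ts.any fun m => !inv full (linT2 S.ℓ m) (code2 S.ℓ (S.V P.a) (S.V b))) ||
    dep2 S.ℓ (S.V P.a) (S.V b) || S2.contains b

/-- Every second value is excluded. -/
def check2 (P : Loc) (Ts : List (ℕ × ℕ × ℕ × ℕ)) (S2 : List (List ℕ)) : Bool :=
  S.ok && S.locOK P && Ts.contains P.m &&
  (S2.all fun x => P.moves.all fun mv =>
    S2.contains (app S.ℓ mv.2 x)) &&
  (P.moves.all fun mv => mv.1.map (fun s => mv.1.getD s 0) == List.range S.rows.length) &&
  (allVecs S.ℓ P.J.length).all fun x =>
    S.lower P x || S.sliceFail P x ||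
      (allVecs S.ℓ P.rest.length).all fun y => S.pairFail P Ts S2 (S.merge P x y)

/-- Every triple from the pairs is excluded. -/
def check3 (P : Loc) (Ts : List ((ℕ × ℕ × ℕ) × (ℕ × ℕ × ℕ) × (ℕ × ℕ × ℕ)))
    (S2 reps2 : List (List ℕ)) : Bool :=
  (S2.all fun b => reps2.contains b ||
    P.moves.any fun mv => Nat.blt (num S.ℓ (app S.ℓ mv.2 b)) (num S.ℓ b)) &&
  reps2.all fun b => S2.all fun c =>
    dep3 S.ℓ (S.V P.a) (S.V b) (S.V c) ||
      Ts.any fun m => !inv full (linT3 S.ℓ m) (code3 S.ℓ (S.V P.a) (S.V b) (S.V c))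

variable {S}

theorem V_length (b : List ℕ) : (S.V b).length = S.rows.length := by simp [V, vals]

theorem code2_perm {x y P : List ℕ} (hx : x.length = y.length) (hP : ∀ s ∈ P, s < x.length) :
    code2 S.ℓ (P.map fun s => x.getD s 0) (P.map fun s => y.getD s 0) =
      P.map fun s => (code2 S.ℓ x y).getD s 0 := by
  simp only [code2, List.zipWith_map, List.zipWith_self]
  refine List.map_congr_left fun s hs => ?_
  have h1 := hP s hs
  simp [h1, hx ▸ h1]

theorem code3_perm {x y z P : List ℕ} (hx : x.length = y.length) (hy : y.length = z.length)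
    (hP : ∀ s ∈ P, s < x.length) :
    code3 S.ℓ (P.map fun s => x.getD s 0) (P.map fun s => y.getD s 0) (P.map fun s => z.getD s 0) =
      P.map fun s => (code3 S.ℓ x y z).getD s 0 := by
  simp only [code3, code2, List.zipWith_map, List.zipWith_self]
  refine List.map_congr_left fun s hs => ?_
  have h1 := hP s hs
  simp [h1, hx ▸ h1, hy ▸ hx ▸ h1]

theorem moveOK_parts {mv : Move} (hm : S.moveOK mv = true) :
    mv.1.length = S.rows.length ∧ (∀ s ∈ mv.1, s < S.rows.length) ∧ mv.1.Nodup := by
  simp only [moveOK, Bool.and_eq_true, Nat.beq_eq, List.all_eq_true, decide_eq_true_eq,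
    Nat.blt_eq] at hm
  exact ⟨hm.1.1.1.1.1, hm.1.1.1.1.2, hm.1.1.1.2⟩

theorem inv2_move (h : S.ok = true) {mv : Move} (hm : S.moveOK mv = true)
    {Ts : List (ℕ × ℕ × ℕ × ℕ)} {a b : List ℕ} (ha : S.Valid a) (hb : S.Valid b)
    (hi : S.Inv2 Ts (S.V a) (S.V b)) :
    S.Inv2 Ts (S.V (app S.ℓ mv.2 a)) (S.V (app S.ℓ mv.2 b)) := by
  obtain ⟨hlen, hlt, hnd⟩ := moveOK_parts hm
  intro w m hmT
  rw [(move_V h hm ha).2, (move_V h hm hb).2,
    code2_perm (by simp [V_length]) (by simpa [V_length] using hlt)]
  exact inv_map_perm (by simp [code2, V_length, hlen]) (by simpa [code2, V_length] using hlt) hnd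
    (hi w m hmT)

theorem dep2_perm {x y P : List ℕ} (hy : y.length = x.length) (hPall : ∀ i < x.length, i ∈ P)
    (hP : ∀ s ∈ P, s < x.length)
    (h : dep2 S.ℓ (P.map fun s => x.getD s 0) (P.map fun s => y.getD s 0) = true) :
    dep2 S.ℓ x y = true := by
  simp only [dep2, List.any_eq_true, List.mem_range, beq_iff_eq, List.map_map] at h ⊢
  obtain ⟨t, ht, e⟩ := h
  refine ⟨t, ht, List.ext_getElem (by simp [hy]) fun i h1 h2 => ?_⟩
  rw [List.map_inj_left] at e
  have := e i (hPall i (hy ▸ h1))
  simpa [h1, hy ▸ h1] using this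

theorem dep3_perm {x y z P : List ℕ} (hy : y.length = x.length) (hz : z.length = x.length)
    (hPall : ∀ i < x.length, i ∈ P)
    (h : dep3 S.ℓ (P.map fun s => x.getD s 0) (P.map fun s => y.getD s 0)
      (P.map fun s => z.getD s 0) = true) :
    dep3 S.ℓ x y z = true := by
  simp only [dep3, List.any_eq_true, List.mem_range, beq_iff_eq, List.zipWith_map,
    List.zipWith_self] at h ⊢
  obtain ⟨s, hs, t, ht, e⟩ := h
  refine ⟨s, hs, t, ht, List.ext_getElem (by simp [hy, hz]) fun i h1 h2 => ?_⟩
  rw [List.map_inj_left] at e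
  have := e i (hPall i (hz ▸ h1))
  simpa [h1, hz ▸ h1, (hy.trans hz.symm) ▸ h1] using this

theorem mem_of_full {P : List ℕ} {m : ℕ} (hlen : P.length = m) (hlt : ∀ s ∈ P, s < m)
    (hnd : P.Nodup) : ∀ i < m, i ∈ P := fun _ hi =>
  ((List.subperm_of_subset hnd fun s hs => List.mem_range.2 (hlt s hs)).perm_of_length_le
    (by simp [hlen])).mem_iff.2 (List.mem_range.2 hi)

theorem exists_rep {marks js : List ℕ} {moves : List Move} {reps : List (List ℕ)}
    (hc : S.check1 marks js moves reps = true) {a : List ℕ} (ha : a ∈ simplex marks S.ℓ)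
    (hne : ∃ x ∈ a, x % S.ℓ ≠ 0) (hi : S.Inv1 js (S.V a)) :
    ∃ mv : Move, S.moveOK mv = true ∧ app S.ℓ mv.2 a ∈ reps := by
  simp only [check1, Bool.and_eq_true, List.all_eq_true, Bool.or_eq_true, List.any_eq_true,
    beq_iff_eq, List.contains_iff_mem, Bool.not_eq_true'] at hc
  rcases hc.2 a ha with (h | ⟨j, hj, h⟩) | ⟨mv, hmv, h⟩
  · obtain ⟨x, hx, hx'⟩ := hne
    exact absurd (h x hx) hx'
  · rw [hi full j hj] at h; cases h
  · exact ⟨mv, hc.1.2 mv hmv, h⟩

theorem valid_merge {P : Loc} (h : S.ok = true) {x y : List ℕ} (hx : ∀ v ∈ x, v < S.ℓ)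
    (hy : ∀ v ∈ y, v < S.ℓ) : S.Valid (S.merge P x y) := by
  simp only [ok, Bool.and_eq_true, Nat.ble_eq] at h
  refine ⟨by simp [merge], fun v hv => ?_⟩
  simp only [merge, List.mem_map] at hv
  obtain ⟨i, -, rfl⟩ := hv
  split
  · rw [List.getD_eq_getElem?_getD]
    rcases e : x[P.J.idxOf i]? with _ | u
    · exact h.1.1.1
    · exact hx u (List.mem_of_getElem? e)
  · rw [List.getD_eq_getElem?_getD]
    rcases e : y[P.rest.idxOf i]? with _ | u
    · exact h.1.1.1
    · exact hy u (List.mem_of_getElem? e)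

/-- A second value invariant with a representative lies in the list or is proportional to it. -/
theorem mem_of_inv2 {P : Loc} {Ts : List (ℕ × ℕ × ℕ × ℕ)} {S2 : List (List ℕ)}
    (hc : S.check2 P Ts S2 = true) {b : List ℕ} (hb : S.Valid b)
    (hi : S.Inv2 Ts (S.V P.a) (S.V b)) :
    b ∈ S2 ∨ dep2 S.ℓ (S.V P.a) (S.V b) = true := by
  simp only [check2, Bool.and_eq_true, List.all_eq_true, List.contains_iff_mem, beq_iff_eq] at hc
  obtain ⟨⟨⟨⟨⟨hok, hloc⟩, hm⟩, hS2⟩, hinvol⟩, hall⟩ := hc
  simp only [locOK, Bool.and_eq_true, List.all_eq_true, Nat.beq_eq, Nat.blt_eq, List.mem_range,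
    Bool.or_eq_true, List.contains_iff_mem, beq_iff_eq] at hloc
  obtain ⟨⟨⟨⟨⟨⟨hmv, halen⟩, hav⟩, hcov⟩, hJ⟩, hzero⟩, hslice⟩ := hloc
  have haV : S.Valid P.a := ⟨halen, hav⟩
  induction hn : num S.ℓ (pick P.J b) using Nat.strong_induction_on generalizing b with
  | _ N ih =>
  subst hn
  have hbi : ∀ i, b.getD i 0 < S.ℓ := fun i => by
    rw [List.getD_eq_getElem?_getD]
    rcases e : b[i]? with _ | u
    · simp only [ok, Bool.and_eq_true, Nat.ble_eq] at hok
      exact hok.1.1.1
    · exact hb.2 u (List.mem_of_getElem? e)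
  set x := pick P.J b with hx
  set y := pick P.rest b with hy
  have hxy : S.merge P x y = b := by
    refine List.ext_getElem (by simp [merge, hb.1]) fun i h1 h2 => ?_
    have hin : i < S.n := hb.1 ▸ h2
    simp only [merge, List.getElem_map, List.getElem_range]
    split
    · next h =>
      rw [List.contains_iff_mem] at h
      have hi' := List.idxOf_lt_length_iff.2 h
      simp [hx, pick, hi', List.getElem_idxOf hi', h2]
    · next h =>
      rw [List.contains_iff_mem] at h
      have h' : i ∈ P.rest := (hcov i hin).resolve_left h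
      have hi' := List.idxOf_lt_length_iff.2 h'
      simp [hy, pick, hi', List.getElem_idxOf hi', h2]
  -- functions supported on `J` only see the first part
  have hsupp : ∀ row : List ℕ, row.length = S.n → (∀ l < S.n, l ∈ P.J ∨ row.getD l 0 = 0) →
      valN S.ℓ row (S.merge P x (P.rest.map fun _ => 0)) = valN S.ℓ row b := by
    intro row hrow hs
    rw [valN_eq_sum hrow (by simp [merge]), valN_eq_sum hrow hb.1]
    refine congrArg (· % S.ℓ) (Finset.sum_congr rfl fun l _ => ?_)
    rcases hs l l.2 with h | h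
    · have hb' : b.getD l 0 = (S.merge P x y).getD l 0 := by rw [hxy]
      rw [hb']
      simp [merge, h]
    · rw [h]; simp
  have hx' : ∀ v ∈ x, v < S.ℓ := by
    intro v hv
    obtain ⟨i, -, rfl⟩ := List.mem_map.1 hv
    exact hbi i
  rcases Bool.or_eq_true .. ▸ hall x (mem_allVecs (by simp [hx, pick]) hx') with h | h
  · rcases Bool.or_eq_true .. ▸ h with h | h
    · -- a move lowers the first part
      simp only [lower, List.any_eq_true, Nat.blt_eq] at h
      obtain ⟨mv, hmem, hlt⟩ := h
      obtain ⟨⟨hmok, hfix⟩, hsup⟩ := hmv mv hmem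
      obtain ⟨hb', hVb'⟩ := move_V hok hmok hb
      set b' := app S.ℓ mv.2 b with hb'def
      have hLlen : mv.2.length = S.n ∧ ∀ row ∈ mv.2, row.length = S.n := by
        simp only [moveOK, Bool.and_eq_true, Nat.beq_eq, List.all_eq_true] at hmok
        exact ⟨hmok.1.1.2, hmok.1.2⟩
      have hpick : pick P.J (app S.ℓ mv.2 (S.merge P x (P.rest.map fun _ => 0))) = pick P.J b' := by
        refine List.map_congr_left fun i hiJ => ?_
        have hin : i < S.n := hJ i (List.mem_append_left _ hiJ)
        have hil : i < mv.2.length := hLlen.1.symm ▸ hin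
        simp only [hb'def, app, List.getD_eq_getElem?_getD, List.getElem?_map,
          List.getElem?_eq_getElem hil, Option.map_some, Option.getD_some]
        refine hsupp _ (hLlen.2 _ (List.getElem_mem _)) fun l hl => ?_
        have := hsup i hiJ l hl
        rwa [List.getD_eq_getElem _ _ hil] at this
      have hinv' : S.Inv2 Ts (S.V P.a) (S.V b') := by
        have := inv2_move hok hmok haV hb hi
        rwa [hfix] at this
      obtain ⟨hlen, hPlt, hPnd⟩ := moveOK_parts hmok
      rcases ih _ (hpick ▸ hlt) hb' hinv' rfl with h' | h'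
      · left
        have h2 := hS2 b' h' mv hmem
        suffices app S.ℓ mv.2 b' = b by rwa [this] at h2
        obtain ⟨hb'', hV''⟩ := move_V hok hmok hb'
        rw [eq_of_V hok hb'', hV'', hVb']
        conv_rhs => rw [eq_of_V hok hb]
        refine List.map_congr_left fun s hs => ?_
        have hsl : s < S.rows.length := by
          simp only [ok, Bool.and_eq_true, List.all_eq_true, Nat.beq_eq, Nat.blt_eq,
            List.mem_range] at hok
          obtain ⟨i, hi', rfl⟩ := List.getElem_of_mem hs
          have := (hok.2 i (hok.1.2 ▸ hi')).1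
          rwa [List.getD_eq_getElem _ _ hi'] at this
        have hs1 : s < mv.1.length := hlen ▸ hsl
        have hs2 : mv.1[s] < mv.1.length := hlen.symm ▸ hPlt _ (List.getElem_mem _)
        have e := congrArg (fun l => l.getD s 0) (hinvol mv hmem)
        simp [hs1, hsl, hs2] at e
        simp [hs1, hsl, hs2, e]
      · right
        have h2 : dep2 S.ℓ (S.V (app S.ℓ mv.2 P.a)) (S.V b') = true := by rw [hfix]; exact h'
        rw [(move_V hok hmok haV).2, hVb'] at h2
        exact dep2_perm (by simp [V_length]) (fun i hi' => mem_of_full hlen hPlt hPnd i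
          (by simpa [V_length] using hi')) (by simpa [V_length] using hPlt) h2
    · -- the first part is not invariant
      exfalso
      simp only [sliceFail, Bool.not_eq_true'] at h
      have hcs : ((S.zeroRoots P).map fun s =>
          valN S.ℓ (S.rows.getD s []) (S.merge P x (P.rest.map fun _ => 0))) =
          (S.zeroRoots P).map fun s => (S.V b).getD s 0 := by
        refine List.map_congr_left fun s hs => ?_
        have hs' : s < S.rows.length := List.mem_range.1 (List.mem_filter.1 hs).1
        rw [hsupp _ (S.rowLen hok hs') (hzero s hs)]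
        simp [V, vals, hs']
      rw [hcs] at h
      have h2 := hi S.sliceW P.m hm
      have hcode : code2 S.ℓ (S.V P.a) (S.V b) = (List.range S.rows.length).map fun s =>
          (S.V P.a).getD s 0 + S.ℓ * (S.V b).getD s 0 := by
        refine List.ext_getElem (by simp [code2, V_length]) fun i h3 h4 => ?_
        simp only [List.length_map, List.length_range] at h4
        simp [code2, V, vals, h4]
      have hlt : ∀ (c : List ℕ) (s : ℕ), S.Valid c → s < S.rows.length → (S.V c).getD s 0 < S.ℓ := by
        intro c s _ hs'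
        simp only [V, vals, List.getD_eq_getElem?_getD, List.getElem?_map,
          List.getElem?_eq_getElem hs', Option.map_some, Option.getD_some]
        simp only [ok, Bool.and_eq_true, Nat.ble_eq] at hok
        exact Nat.mod_lt _ hok.1.1.1
      have key : ∀ (T T' : ℕ → ℕ), (∀ u v, u < S.ℓ → v < S.ℓ → S.sliceW (T (u + S.ℓ * v)) =
          bif u == 0 then 256 ^ T' v else 0) →
          hsum S.sliceW ((code2 S.ℓ (S.V P.a) (S.V b)).map T) =
            hsum full (((S.zeroRoots P).map fun s => (S.V b).getD s 0).map T') := by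
        intro T T' hT
        rw [hcode, zeroRoots]
        suffices ∀ l : List ℕ, (∀ s ∈ l, s < S.rows.length) →
            hsum S.sliceW ((l.map fun s => (S.V P.a).getD s 0 + S.ℓ * (S.V b).getD s 0).map T) =
            hsum full (((l.filter fun s => (S.V P.a).getD s 0 == 0).map
              fun s => (S.V b).getD s 0).map T') from this _ fun s hs => List.mem_range.1 hs
        intro l hl
        induction l with
        | nil => rfl
        | cons s l ihl =>
          have hs := hl s (List.mem_cons_self ..)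
          have e := ihl fun t ht => hl t (List.mem_cons_of_mem _ ht)
          simp only [hsum] at e ⊢
          rw [List.map_cons, List.map_cons, List.map_cons, List.sum_cons, e,
            hT _ _ (hlt _ _ haV hs) (hlt _ _ hb hs), List.filter_cons]
          cases hz : ((S.V P.a).getD s 0 == 0) <;> simp [full]
      have hℓ0 : 0 < S.ℓ := lt_of_le_of_lt (Nat.zero_le _) (hbi 0)
      have h3 := key id id fun u v hu _ => by
        simp only [id, sliceW, Nat.add_mul_mod_self_left, Nat.mod_eq_of_lt hu,
          Nat.add_mul_div_left _ _ hℓ0, Nat.div_eq_of_lt hu, zero_add]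
        cases u <;> rfl
      have h4 := key (linT2 S.ℓ P.m) (mulT S.ℓ P.d) fun u v hu hv => by
        have hc : u + S.ℓ * v < S.ℓ * S.ℓ := by
          calc u + S.ℓ * v < S.ℓ + S.ℓ * v := Nat.add_lt_add_right hu _
            _ = S.ℓ * (v + 1) := by ring
            _ ≤ S.ℓ * S.ℓ := Nat.mul_le_mul_left _ hv
        have := hslice _ hc
        simp only [Nat.add_mul_mod_self_left, Nat.mod_eq_of_lt hu,
          Nat.add_mul_div_left _ _ hℓ0, Nat.div_eq_of_lt hu, zero_add] at this
        rcases Nat.eq_zero_or_pos u with rfl | hu0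
        · simp only [BEq.rfl, if_true] at this
          rw [beq_iff_eq] at this
          have hb1 : Nat.beq (linT2 S.ℓ P.m (0 + S.ℓ * v) % S.ℓ) 0 = true := by
            rw [Nat.beq_eq, this, Nat.mul_mod_right]
          simp only [sliceW, hb1, cond_true, BEq.rfl]
          rw [this, Nat.mul_div_cancel_left _ hℓ0]
        · rw [if_neg (by simpa using hu0.ne'), bne_iff_ne] at this
          have hb1 : Nat.beq (linT2 S.ℓ P.m (u + S.ℓ * v) % S.ℓ) 0 = false := by
            rw [← Bool.not_eq_true, Nat.beq_eq]; exact this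
          have hb2 : (u == 0) = false := beq_false_of_ne hu0.ne'
          simp only [sliceW, hb1, hb2, cond_false]
      simp only [List.map_id] at h3
      rw [inv, Nat.beq_eq, h3, h4, ← Nat.beq_eq] at h2
      rw [inv, h2] at h
      cases h
  · simp only [List.all_eq_true] at h
    have h2 := h y (mem_allVecs (by simp [hy, pick]) (by
      intro v hv
      obtain ⟨i, -, rfl⟩ := List.mem_map.1 hv
      exact hbi i))
    rw [hxy] at h2
    simp only [pairFail, Bool.or_eq_true, List.any_eq_true, Bool.not_eq_true',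
      List.contains_iff_mem] at h2
    rcases h2 with (⟨m, hmT, h2⟩ | h2) | h2
    · rw [hi full m hmT] at h2; cases h2
    · exact Or.inr h2
    · exact Or.inl h2

/-- No independent invariant triple. -/
theorem dep_of_inv3 {P : Loc} {Ts2 : List (ℕ × ℕ × ℕ × ℕ)}
    {Ts : List ((ℕ × ℕ × ℕ) × (ℕ × ℕ × ℕ) × (ℕ × ℕ × ℕ))} {S2 reps2 : List (List ℕ)}
    (hc2 : S.check2 P Ts2 S2 = true) (hc : S.check3 P Ts S2 reps2 = true)
    {b c : List ℕ} (hbv : S.Valid b) (hcv : S.Valid c) (hb : b ∈ S2) (hcS : c ∈ S2)
    (hi : S.Inv3 Ts (S.V P.a) (S.V b) (S.V c)) :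
    dep3 S.ℓ (S.V P.a) (S.V b) (S.V c) = true := by
  simp only [check2, Bool.and_eq_true, List.all_eq_true, List.contains_iff_mem, beq_iff_eq] at hc2
  obtain ⟨⟨⟨⟨⟨hok, hloc⟩, -⟩, hS2⟩, -⟩, -⟩ := hc2
  simp only [locOK, Bool.and_eq_true, List.all_eq_true, Nat.beq_eq, Nat.blt_eq, beq_iff_eq] at hloc
  obtain ⟨⟨⟨⟨⟨⟨hmv, halen⟩, hav⟩, -⟩, -⟩, -⟩, -⟩ := hloc
  have haV : S.Valid P.a := ⟨halen, hav⟩
  simp only [check3, Bool.and_eq_true, List.all_eq_true, Bool.or_eq_true, List.any_eq_true,
    List.contains_iff_mem, Nat.blt_eq, Bool.not_eq_true'] at hc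
  induction hn : num S.ℓ b using Nat.strong_induction_on generalizing b c with
  | _ N ih =>
  subst hn
  rcases hc.1 b hb with h | ⟨mv, hmem, hlt⟩
  · rcases hc.2 b h c hcS with h2 | ⟨m, hm, h2⟩
    · exact h2
    · rw [hi full m hm] at h2; cases h2
  obtain ⟨⟨hmok, hfix⟩, -⟩ := hmv mv hmem
  obtain ⟨hlen, hPlt, hPnd⟩ := moveOK_parts hmok
  have hinv : S.Inv3 Ts (S.V P.a) (S.V (app S.ℓ mv.2 b)) (S.V (app S.ℓ mv.2 c)) := by
    intro w m hm
    rw [show S.V P.a = mv.1.map fun s => (S.V P.a).getD s 0 by
      conv_lhs => rw [← hfix, (move_V hok hmok haV).2], (move_V hok hmok hbv).2,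
      (move_V hok hmok hcv).2,
      code3_perm (by simp [V_length]) (by simp [V_length]) (by simpa [V_length] using hPlt)]
    exact inv_map_perm (by simp [code3, code2, V_length, hlen])
      (by simpa [code3, code2, V_length] using hPlt) hPnd (hi w m hm)
  have h3 := ih _ hlt (move_V hok hmok hbv).1 (move_V hok hmok hcv).1
    (hS2 b hb mv hmem) (hS2 c hcS mv hmem) hinv rfl
  rw [show S.V P.a = mv.1.map fun s => (S.V P.a).getD s 0 by
      conv_lhs => rw [← hfix, (move_V hok hmok haV).2], (move_V hok hmok hbv).2,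
      (move_V hok hmok hcv).2] at h3
  exact dep3_perm (by simp [V_length]) (by simp [V_length])
    (fun i hi' => mem_of_full hlen hPlt hPnd i (by simpa [V_length] using hi')) h3

end Sys

end Cfsg.Agent.AltSec.E7.Check
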