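import Cfsg.Agent.AltSec.TorusTest
import Mathlib.Algebra.BigOperators.Group.List.Basic
import Mathlib.Data.Fintype.Sum

/-!
Checks on root values of commuting torus elements of prime order.
-/

set_option autoImplicit false

namespace Cfsg.Agent.AltSec.E7.Check

/-- The value of a root given by its coordinates modulo `ℓ`. -/
def valN (ℓ : ℕ) (row b : List ℕ) : ℕ := (List.zipWith (· * ·) row b).sum % ℓ

/-- The values of all roots. -/
def vals (ℓ : ℕ) (rows : List (List ℕ)) (b : List ℕ) : List ℕ := rows.map fun row => valN ℓ row b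

/-- All vectors of length `n` with entries below `ℓ`. -/
def allVecs (ℓ : ℕ) : ℕ → List (List ℕ)
  | 0 => [[]]
  | n + 1 => (List.range ℓ).flatMap fun x => (allVecs ℓ n).map (x :: ·)

theorem mem_allVecs {ℓ : ℕ} : ∀ {n : ℕ} {b : List ℕ}, b.length = n → (∀ x ∈ b, x < ℓ) →
    b ∈ allVecs ℓ n
  | 0, b, hb, _ => by simp [allVecs, List.length_eq_zero_iff.1 hb]
  | n + 1, [], hb, _ => by simp at hb
  | n + 1, x :: b, hb, h => by
    simp only [allVecs, List.mem_flatMap, List.mem_range, List.mem_map]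
    exact ⟨x, h x (List.mem_cons_self ..), b,
      mem_allVecs (by simpa using hb) fun y hy => h y (List.mem_cons_of_mem _ hy), rfl⟩

/-- The total weight of a list of codes. -/
def hsum (w : ℕ → ℕ) (cs : List ℕ) : ℕ := (cs.map w).sum

/-- The weight is invariant under a map of the codes. -/
def inv (w : ℕ → ℕ) (T : ℕ → ℕ) (cs : List ℕ) : Bool :=
  Nat.beq (hsum w cs) (hsum w (cs.map T))

/-- The weight separating the codes. -/
def full : ℕ → ℕ := fun c => 256 ^ c

/-- Multiplication of the codes of single values. -/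
def mulT (ℓ j : ℕ) (c : ℕ) : ℕ := j * c % ℓ

/-- The code of two values. -/
def code2 (ℓ : ℕ) (x y : List ℕ) : List ℕ := List.zipWith (fun a b => a + ℓ * b) x y

/-- A linear map of the codes of two values. -/
def linT2 (ℓ : ℕ) (m : ℕ × ℕ × ℕ × ℕ) (c : ℕ) : ℕ :=
  (m.1 * (c % ℓ) + m.2.1 * (c / ℓ)) % ℓ + ℓ * ((m.2.2.1 * (c % ℓ) + m.2.2.2 * (c / ℓ)) % ℓ)

/-- The code of three values. -/
def code3 (ℓ : ℕ) (x y z : List ℕ) : List ℕ :=
  List.zipWith (fun a b => a + ℓ * b) x (code2 ℓ y z)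

/-- A linear map of the codes of three values. -/
def linT3 (ℓ : ℕ) (m : (ℕ × ℕ × ℕ) × (ℕ × ℕ × ℕ) × (ℕ × ℕ × ℕ)) (c : ℕ) : ℕ :=
  (m.1.1 * (c % ℓ) + m.1.2.1 * (c / ℓ % ℓ) + m.1.2.2 * (c / ℓ / ℓ)) % ℓ +
    ℓ * ((m.2.1.1 * (c % ℓ) + m.2.1.2.1 * (c / ℓ % ℓ) + m.2.1.2.2 * (c / ℓ / ℓ)) % ℓ +
      ℓ * ((m.2.2.1 * (c % ℓ) + m.2.2.2.1 * (c / ℓ % ℓ) + m.2.2.2.2 * (c / ℓ / ℓ)) % ℓ))

/-- Weights of the values of a family permuted compatibly with a map agree. -/
theorem inv_of_perm {ι : Type} [Fintype ι] {n : ℕ} (w : ℕ → ℕ) (T : ℕ → ℕ)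
    (f : Fin n → ℕ) (σ : Equiv.Perm (ι ⊕ Fin n)) (hT : T 0 = 0)
    (h : ∀ a, Sum.elim (fun _ : ι => 0) f (σ a) = T (Sum.elim (fun _ : ι => 0) f a)) :
    inv w T (List.ofFn f) = true := by
  have key : ∀ g : Fin n → ℕ, hsum w (List.ofFn g) = ∑ s, w (g s) := fun g => by
    rw [hsum, List.map_ofFn, List.sum_ofFn]; rfl
  rw [inv, Nat.beq_eq, List.map_ofFn, key, key]
  have h1 := Equiv.sum_comp σ fun a => w (Sum.elim (fun _ : ι => 0) f a)
  simp only [h, Fintype.sum_sum_type, Sum.elim_inl, Sum.elim_inr, hT] at h1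
  simp only [Function.comp_apply]
  omega

theorem perm_ofFn {n : ℕ} (f : Fin n → ℕ) (π : Equiv.Perm (Fin n)) (w : ℕ → ℕ) :
    hsum w (List.ofFn fun s => f (π s)) = hsum w (List.ofFn f) := by
  simp only [hsum, List.map_ofFn, List.sum_ofFn, Function.comp_apply]
  exact Equiv.sum_comp π fun s => w (f s)

/-- Two values are proportional. -/
def dep2 (ℓ : ℕ) (x y : List ℕ) : Bool :=
  (List.range ℓ).any fun s => y == x.map fun a => s * a % ℓ

/-- A value is a combination of two others. -/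
def dep3 (ℓ : ℕ) (x y z : List ℕ) : Bool :=
  (List.range ℓ).any fun s => (List.range ℓ).any fun t =>
    z == List.zipWith (fun a b => (s * a + t * b) % ℓ) x y

/-- The number given by the digits of a vector. -/
def num (ℓ : ℕ) : List ℕ → ℕ
  | [] => 0
  | x :: xs => x + ℓ * num ℓ xs

/-- The entries of a vector at chosen places. -/
def pick (J : List ℕ) (b : List ℕ) : List ℕ := J.map fun i => b.getD i 0

/-- The image of a vector under a linear map given by its rows. -/
def app (ℓ : ℕ) (L : List (List ℕ)) (b : List ℕ) : List ℕ := L.map fun row => valN ℓ row b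

/-- A vector with chosen entries at chosen places. -/
def place (n : ℕ) (J : List ℕ) (x : List ℕ) : List ℕ :=
  (List.range n).map fun i => if J.contains i then x.getD (J.idxOf i) 0 else 0

end Cfsg.Agent.AltSec.E7.Check
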