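import Cfsg.Agent.AltSec.E7.Lift
import Mathlib.Algebra.Group.Subgroup.Basic
import Mathlib.Algebra.BigOperators.Group.Finset.Basic

/-!
Monomial bases lift through an abelian minimal invariant subgroup.
-/

set_option autoImplicit false

namespace Cfsg.Agent.AltSec.E7.Lift

universe u v

variable {K : Type u} [Group K] [Finite K] {A : Type v} [Group A]

/-- A power map from the minimal subgroup whose values have order dividing `ℓ`. -/
theorem exists_power {φ : K →* A} {ℓ : ℕ} [Fact ℓ.Prime] {E : Subgroup A} (hEne : E ≠ ⊥)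
    {Q R' : Subgroup K} (hQ : IsPGroup ℓ Q)
    (hQn : ∀ g ∈ R', ∀ y ∈ Q, g * y * g⁻¹ ∈ Q) (hQim : Q.map φ = E)
    (hmin : ∀ Q' : Subgroup K, Q' ≤ Q → (∀ g ∈ R', ∀ y ∈ Q', g * y * g⁻¹ ∈ Q') →
      Q' = Q ∨ ∀ y ∈ Q', φ y = 1)
    (hQc : ∀ a ∈ Q, ∀ b ∈ Q, a * b = b * a) :
    ∃ m : ℕ, (∀ y ∈ Q, y ^ (m * ℓ) = 1) ∧ ∀ y ∈ Q, y ^ m = 1 → φ y = 1 := by
  classical
  have hex : ∃ n, ∀ y ∈ Q, y ^ ℓ ^ n = 1 := by
    obtain ⟨n, hn⟩ := IsPGroup.iff_card.1 hQ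
    exact ⟨n, fun y hy => by
      rw [← hn]
      exact congrArg Subtype.val (pow_card_eq_one' (x := (⟨y, hy⟩ : ↥Q)))⟩
  have hspec := Nat.find_spec hex
  rcases h : Nat.find hex with _ | n
  · exfalso
    rw [h] at hspec
    refine hEne ?_
    rw [← hQim, Subgroup.map_eq_bot_iff]
    intro y hy
    have := hspec y hy
    rw [pow_zero, pow_one] at this
    rw [this]; exact one_mem _
  rw [h] at hspec
  refine ⟨ℓ ^ n, fun y hy => by rw [← pow_succ]; exact hspec y hy, fun y hy hy1 => ?_⟩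
  let Qm : Subgroup K :=
    { carrier := {y | y ∈ Q ∧ y ^ ℓ ^ n = 1}
      one_mem' := ⟨one_mem _, one_pow _⟩
      mul_mem' := fun {a b} ha hb => ⟨mul_mem ha.1 hb.1, by
        rw [(show Commute a b from hQc a ha.1 b hb.1).mul_pow, ha.2, hb.2, one_mul]⟩
      inv_mem' := fun {a} ha => ⟨inv_mem ha.1, by rw [inv_pow, ha.2, inv_one]⟩ }
  rcases hmin Qm (fun y hy => hy.1) (fun g hg y hy => ⟨hQn g hg y hy.1, by
    rw [conj_pow, hy.2, mul_one, mul_inv_cancel]⟩) with h1 | h1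
  · have := Nat.find_min hex (show n < Nat.find hex by omega)
    exact absurd (fun y hy => (h1.ge hy).2) this
  · exact h1 y ⟨hy, hy1⟩

/-- A basis permuted up to powers lifts equivariantly. -/
theorem exists_eigen {φ : K →* A} {ℓ : ℕ} [hℓ : Fact ℓ.Prime] {E R : Subgroup A} (hEne : E ≠ ⊥)
    {Q R' : Subgroup K} (hQ : IsPGroup ℓ Q) (hcop : Nat.Coprime ℓ (Nat.card R'))
    (hQn : ∀ g ∈ R', ∀ y ∈ Q, g * y * g⁻¹ ∈ Q) (hQim : Q.map φ = E)
    (hact' : ∀ g ∈ R', ∃ r ∈ R, ∀ y ∈ E, φ g * y * (φ g)⁻¹ = r * y * r⁻¹)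
    (hmin : ∀ Q' : Subgroup K, Q' ≤ Q → (∀ g ∈ R', ∀ y ∈ Q', g * y * g⁻¹ ∈ Q') →
      Q' = Q ∨ ∀ y ∈ Q', φ y = 1)
    (hQc : ∀ a ∈ Q, ∀ b ∈ Q, a * b = b * a) {k : ℕ} (x : Fin k → A) (hxE : ∀ i, x i ∈ E)
    (hxo : ∀ i, orderOf (x i) = ℓ)
    (hxi : ∀ i j, ∀ a b : ℕ, x i ^ a = x j ^ b → i = j ∨ (ℓ ∣ a ∧ ℓ ∣ b))
    (hmon : ∀ r ∈ R, ∀ i, ∃ j, ∃ a : ℕ, r * x i * r⁻¹ = x j ^ a) :
    ∃ m : ℕ, ∃ v : Fin k → K, (∀ i, v i ∈ Q) ∧ (∀ y ∈ Q, y ^ (m * ℓ) = 1) ∧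
      (∀ i, ∃ u ∈ Q, v i = u ^ m ∧ φ u = x i) ∧ (∀ y ∈ Q, y ^ m = 1 → φ y = 1) ∧
      ∀ g ∈ R', ∀ i j, ∀ a : ℕ, φ g * x i * (φ g)⁻¹ = x j ^ a →
        g * v i * g⁻¹ = v j ^ a := by
  classical
  obtain ⟨m, hm1, hm2⟩ := exists_power hEne hQ hQn hQim hmin hQc
  have hwe : ∀ i, ∃ w ∈ Q, φ w = x i := fun i => hQim.ge (hxE i)
  choose w hwQ hwx using hwe
  have hmon' : ∀ g ∈ R', ∀ i, ∃ j, ∃ a : ℕ, φ g * x i * (φ g)⁻¹ = x j ^ a := by
    intro g hg i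
    obtain ⟨r, hr, hrg⟩ := hact' g hg
    obtain ⟨j, a, e⟩ := hmon r hr i
    exact ⟨j, a, (hrg _ (hxE i)).trans e⟩
  -- terms of the average
  haveI : Fintype ↥R' := Fintype.ofFinite _
  choose J Aexp hJA using fun (h : ↥R') (i : Fin k) => hmon' (h : K)⁻¹ (inv_mem h.2) i
  letI : CommGroup ↥Q := { (inferInstance : Group ↥Q) with
    mul_comm := fun a b => Subtype.ext (hQc a a.2 b b.2) }
  let term : Fin k → ↥R' → ↥Q := fun i h =>
    ⟨(h : K) * (w (J h i) ^ Aexp h i) * (h : K)⁻¹, hQn h h.2 _ (pow_mem (hwQ _) _)⟩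
  obtain ⟨c, hc⟩ : ∃ c : ℕ, Fintype.card ↥R' * c ≡ 1 [MOD ℓ] := by
    rw [← Nat.card_eq_fintype_card]
    obtain ⟨y, hy⟩ := Nat.exists_mul_mod_eq_one_of_coprime hcop.symm hℓ.out.one_lt
    exact ⟨y, by rw [Nat.ModEq, hy.2, Nat.mod_eq_of_lt hℓ.out.one_lt]⟩
  let u : Fin k → ↥Q := fun i => (∏ h : ↥R', term i h) ^ c
  have hux : ∀ i, φ (u i : K) = x i := by
    intro i
    have h1 : ∀ h : ↥R', φ (term i h : K) = x i := fun h => by
      show φ ((h : K) * (w (J h i) ^ Aexp h i) * (h : K)⁻¹) = x i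
      simp only [map_mul, map_pow, map_inv, hwx]
      rw [← hJA h i, map_inv]
      group
    let ψ : ↥Q →* A := φ.comp Q.subtype
    have h2 : ψ (u i) = (x i) ^ (Fintype.card ↥R' * c) := by
      simp only [u, map_pow, pow_mul]
      congr 1
      rw [← Finset.card_univ]
      induction (Finset.univ : Finset ↥R') using Finset.induction_on with
      | empty => simp
      | @insert a s ha ih =>
        rw [Finset.prod_insert ha, map_mul, ih, Finset.card_insert_of_notMem ha, pow_succ']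
        congr 1
        exact h1 a
    show ψ (u i) = x i
    rw [h2]
    conv_rhs => rw [← pow_one (x i)]
    rw [pow_eq_pow_iff_modEq, hxo]
    exact hc
  refine ⟨m, fun i => (u i : K) ^ m, fun i => pow_mem (u i).2 m, hm1,
    fun i => ⟨_, (u i).2, rfl, hux i⟩, hm2, fun g hg i j a hga => ?_⟩
  -- powers depend only on the residue
  have hres : ∀ (y : K), y ∈ Q → ∀ {a b : ℕ}, a ≡ b [MOD ℓ] → (y ^ m) ^ a = (y ^ m) ^ b := by
    intro y hy a b hab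
    refine pow_eq_pow_iff_modEq.2 (hab.of_dvd (orderOf_dvd_of_pow_eq_one ?_))
    rw [← pow_mul]; exact hm1 y hy
  let conjg : ↥Q →* ↥Q :=
    ((MulAut.conj g).toMonoidHom.comp Q.subtype).codRestrict Q fun y => hQn g hg y y.2
  suffices e : conjg (u i) ^ m = (u j ^ a) ^ m by
    have := congrArg Subtype.val e
    simp only [SubgroupClass.coe_pow] at this
    rw [← conj_pow, ← pow_mul, mul_comm m a, pow_mul]
    exact this
  simp only [u, map_pow, map_prod, ← Finset.prod_pow]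
  refine Fintype.prod_equiv (Equiv.mulLeft (⟨g, hg⟩ : ↥R')) _ _ fun h => ?_
  set h' : ↥R' := ⟨g, hg⟩ * h with hh'
  have e1 : x (J h i) ^ Aexp h i = x (J h' j) ^ (Aexp h' j * a) := by
    rw [← hJA h i, pow_mul, ← hJA h' j]
    simp only [hh', Subgroup.coe_mul, map_inv, map_mul, inv_inv]
    have hc2 : ∀ (p q : A) (n : ℕ), (p⁻¹ * q * p) ^ n = p⁻¹ * q ^ n * p := fun p q n => by
      have := conj_pow (i := n) (a := p⁻¹) (b := q)
      rwa [inv_inv] at this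
    rw [hc2, ← hga]
    group
  apply Subtype.ext
  simp only [SubgroupClass.coe_pow]
  show (((g * ((h : K) * (w (J h i) ^ Aexp h i) * (h : K)⁻¹) * g⁻¹) ^ c) ^ m) =
    ((((h' : K) * (w (J h' j) ^ Aexp h' j) * (h' : K)⁻¹) ^ c) ^ a) ^ m
  have e2 : (w (J h i) ^ m) ^ Aexp h i = (w (J h' j) ^ m) ^ (Aexp h' j * a) := by
    rcases hxi _ _ _ _ e1 with e | ⟨d1, d2⟩
    · rw [← e] at e1 ⊢
      refine hres _ (hwQ _) ?_
      rw [← hxo (J h i)]
      exact pow_eq_pow_iff_modEq.1 e1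
    · rw [hres _ (hwQ _) (Nat.modEq_zero_iff_dvd.2 d1), hres _ (hwQ _) (Nat.modEq_zero_iff_dvd.2 d2),
        pow_zero, pow_zero]
  rw [show g * ((h : K) * (w (J h i) ^ Aexp h i) * (h : K)⁻¹) * g⁻¹ =
      (h' : K) * (w (J h i) ^ Aexp h i) * (h' : K)⁻¹ by
    rw [hh', Subgroup.coe_mul]; group]
  simp only [← pow_mul, conj_pow]
  congr 2
  rw [← pow_mul, ← pow_mul] at e2
  calc w (J h i) ^ (Aexp h i * c * m) = (w (J h i) ^ (m * Aexp h i)) ^ c := by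
        rw [← pow_mul]; ring_nf
    _ = _ := by rw [e2, ← pow_mul]; ring_nf

end Cfsg.Agent.AltSec.E7.Lift
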