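import Cfsg.Agent.AltSec.E7.Cert
import Mathlib.Data.Nat.Bitwise
import Mathlib.Tactic.Linarith

/-!
Packed evaluation of the searches.
-/

set_option autoImplicit false

namespace Cfsg.Agent.AltSec.E7.Check

/-- The number with the given digits. -/
def pk (X : ℕ) : List ℕ → ℕ
  | [] => 0
  | a :: l => a + X * pk X l

theorem pk_append (X : ℕ) : ∀ l l' : List ℕ, pk X (l ++ l') = pk X l + X ^ l.length * pk X l'
  | [], l' => by simp [pk]
  | a :: l, l' => by rw [List.cons_append, pk, pk, pk_append X l l', List.length_cons]; ring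

theorem mul_pk_le {X M a : ℕ} (ha : a ≤ M) : ∀ {l : List ℕ}, (∀ x ∈ l, x ≤ M) →
    a * pk X l ≤ M * M * pk X (List.replicate l.length 1)
  | [], _ => by simp [pk]
  | b :: l, h => by
    have h1 := mul_pk_le (X := X) ha (l := l) fun x hx => h x (List.mem_cons_of_mem _ hx)
    have h2 : a * b ≤ M * M := Nat.mul_le_mul ha (h b (List.mem_cons_self ..))
    have h3 : X * (a * pk X l) ≤ X * (M * M * pk X (List.replicate l.length 1)) :=
      Nat.mul_le_mul_left _ h1
    simp only [List.length_cons, List.replicate_succ, pk]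
    calc a * (b + X * pk X l) = a * b + X * (a * pk X l) := by ring
      _ ≤ M * M + X * (M * M * pk X (List.replicate l.length 1)) := Nat.add_le_add h2 h3
      _ = _ := by ring

theorem pk_mul_spec {X M : ℕ} : ∀ (r b : List ℕ) (_ : r.length = b.length) (_ : 0 < r.length)
    (_ : ∀ x ∈ r, x ≤ M) (_ : ∀ x ∈ b, x ≤ M), ∃ low high,
    pk X r * pk X b.reverse = low + X ^ (r.length - 1) * (List.zipWith (· * ·) r b).sum +
      X ^ r.length * high ∧ low ≤ r.length * (M * M) * pk X (List.replicate (r.length - 1) 1) := by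
  intro r
  induction r with
  | nil => intro b _ h; simp at h
  | cons r0 r ih =>
    intro b hlen _ hr hb
    obtain ⟨b0, b, rfl⟩ : ∃ b0 b', b = b0 :: b' := by
      cases b with
      | nil => simp at hlen
      | cons b0 b => exact ⟨b0, b, rfl⟩
    simp only [List.length_cons, Nat.add_right_cancel_iff] at hlen
    simp only [List.length_cons, Nat.add_sub_cancel, List.zipWith_cons_cons, List.sum_cons,
      List.reverse_cons, pk_append, List.length_reverse, ← hlen, pk, mul_zero, add_zero]
    rcases Nat.eq_zero_or_pos r.length with h0 | hpos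
    · obtain rfl := List.length_eq_zero_iff.1 h0
      obtain rfl := List.length_eq_zero_iff.1 (hlen.symm.trans h0)
      exact ⟨0, 0, by simp [pk], Nat.zero_le _⟩
    obtain ⟨low, high, e, hlow⟩ := ih b hlen hpos (fun x hx => hr x (List.mem_cons_of_mem _ hx))
      fun x hx => hb x (List.mem_cons_of_mem _ hx)
    obtain ⟨n, hn⟩ : ∃ n, r.length = n + 1 := ⟨r.length - 1, by omega⟩
    rw [hn] at e hlow ⊢
    simp only [Nat.add_sub_cancel] at e hlow
    refine ⟨r0 * pk X b.reverse + X * low, high + pk X r * b0, ?_, ?_⟩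
    · calc (r0 + X * pk X r) * (pk X b.reverse + X ^ (n + 1) * b0)
          = r0 * pk X b.reverse + X * (pk X r * pk X b.reverse) + X ^ (n + 1) * (r0 * b0) +
              X ^ (n + 1 + 1) * (pk X r * b0) := by ring
        _ = _ := by rw [e]; ring
    · have h1 := mul_pk_le (X := X) (hr r0 (List.mem_cons_self ..)) (l := b.reverse)
        fun x hx => hb x (List.mem_cons_of_mem _ (List.mem_reverse.1 hx))
      rw [List.length_reverse, ← hlen, hn, List.replicate_succ, pk] at h1
      rw [List.replicate_succ, pk]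
      nlinarith [Nat.mul_le_mul_left X hlow]

theorem replicate_pk_lt {X : ℕ} (hX : 1 < X) : ∀ n, (X - 1) * pk X (List.replicate n 1) + 1 = X ^ n
  | 0 => by simp [pk]
  | n + 1 => by
    have h := replicate_pk_lt hX n
    rw [List.replicate_succ, pk, pow_succ]
    have : (X - 1) * (1 + X * pk X (List.replicate n 1)) + 1 =
        X * ((X - 1) * pk X (List.replicate n 1) + 1) := by
      obtain ⟨Y, rfl⟩ : ∃ Y, X = Y + 1 := ⟨X - 1, by omega⟩
      simp only [Nat.add_sub_cancel]
      ring
    rw [this, h, mul_comm]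

/-- The product of two packed vectors, read in the middle. -/
noncomputable def dotK (ℓ S R B : ℕ) : ℕ := Nat.mod (Nat.mod (Nat.div (Nat.mul R B) S) 65536) ℓ

theorem dotK_eq {ℓ M n : ℕ} {r b : List ℕ} (hr : r.length = n + 1) (hb : b.length = n + 1)
    (hrM : ∀ x ∈ r, x ≤ M) (hbM : ∀ x ∈ b, x ≤ M) (hM : (n + 1) * (M * M) < 65536) :
    dotK ℓ (65536 ^ n) (pk 65536 r) (pk 65536 b.reverse) = valN ℓ r b := by
  obtain ⟨low, high, e, hlow⟩ := pk_mul_spec (X := 65536) r b (hr.trans hb.symm) (by omega) hrM hbM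
  rw [hr, Nat.add_sub_cancel] at e hlow
  set s := (List.zipWith (· * ·) r b).sum with hs
  have hlt : low < 65536 ^ n := by
    have h1 := replicate_pk_lt (X := 65536) (by norm_num) n
    have h2 : (n + 1) * (M * M) * pk 65536 (List.replicate n 1) ≤
        (65536 - 1) * pk 65536 (List.replicate n 1) := Nat.mul_le_mul_right _ (by omega)
    omega
  have hsb : s < 65536 := by
    refine lt_of_le_of_lt (le_trans (List.sum_le_card_nsmul _ (M * M) fun x hx => ?_) ?_) hM
    · obtain ⟨i, hi, rfl⟩ := List.getElem_of_mem hx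
      simp only [List.length_zipWith] at hi
      rw [List.getElem_zipWith]
      exact Nat.mul_le_mul (hrM _ (List.getElem_mem _)) (hbM _ (List.getElem_mem _))
    · simp [hr, hb]
  show ((pk 65536 r * pk 65536 b.reverse) / 65536 ^ n % 65536) % ℓ = _
  rw [e, show low + 65536 ^ n * s + 65536 ^ (n + 1) * high =
      low + 65536 ^ n * (s + 65536 * high) by ring, Nat.add_mul_div_left _ _ (by positivity),
    Nat.div_eq_of_lt hlt, zero_add, Nat.add_mul_mod_self_left, Nat.mod_eq_of_lt hsb]
  rfl

/-- The sum of the weights. -/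
noncomputable def sumW (code : ℕ → ℕ) (l : List ℕ) : ℕ :=
  List.rec (motive := fun _ => ℕ) 0
    (fun z _ ih => Nat.add (Nat.shiftLeft 1 (Nat.mul 8 (code z))) ih) l

/-- The sum of the weights of the images under a table. -/
noncomputable def sumT (tab : ℕ) (code : ℕ → ℕ) (l : List ℕ) : ℕ :=
  List.rec (motive := fun _ => ℕ) 0
    (fun z _ ih => Nat.add (Nat.shiftLeft 1
      (Nat.mul 8 (Nat.mod (Nat.shiftRight tab (Nat.mul 8 (code z))) 256))) ih) l

theorem full_eq (c : ℕ) : Nat.shiftLeft 1 (Nat.mul 8 c) = full c := by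
  show (1 : ℕ) <<< (8 * c) = 256 ^ c
  rw [Nat.shiftLeft_eq, one_mul, pow_mul]; norm_num

theorem sumW_eq (code : ℕ → ℕ) : ∀ l : List ℕ, sumW code l = hsum full (l.map code)
  | [] => rfl
  | z :: l => by
    show Nat.add (Nat.shiftLeft 1 (Nat.mul 8 (code z))) (sumW code l) = _
    rw [full_eq, sumW_eq code l, hsum, hsum, List.map_cons, List.map_cons, List.sum_cons]
    rfl

/-- The table of a map of the codes. -/
def table (N : ℕ) (T : ℕ → ℕ) : ℕ := pk 256 ((List.range N).map T)

theorem pk_digit : ∀ (l : List ℕ) (_ : ∀ x ∈ l, x < 256) (i : ℕ),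
    pk 256 l / 256 ^ i % 256 = l.getD i 0
  | [], _, i => by simp [pk]
  | a :: l, h, 0 => by
    simp [pk, Nat.add_mul_mod_self_left, Nat.mod_eq_of_lt (h a (List.mem_cons_self ..))]
  | a :: l, h, i + 1 => by
    rw [pk, pow_succ', ← Nat.div_div_eq_div_mul, Nat.add_mul_div_left _ _ (by norm_num),
      Nat.div_eq_of_lt (h a (List.mem_cons_self ..)), zero_add,
      pk_digit l (fun x hx => h x (List.mem_cons_of_mem _ hx)) i]
    simp

theorem table_get {N : ℕ} {T : ℕ → ℕ} (hT : ∀ c < N, T c < 256) {c : ℕ} (hc : c < N) :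
    Nat.mod (Nat.shiftRight (table N T) (Nat.mul 8 c)) 256 = T c := by
  show table N T >>> (8 * c) % 256 = T c
  rw [Nat.shiftRight_eq_div_pow, show 2 ^ (8 * c) = 256 ^ c by rw [pow_mul]; norm_num, table, pk_digit _ ?_ c]
  · simp [hc]
  · intro x hx
    obtain ⟨d, hd, rfl⟩ := List.mem_map.1 hx
    exact hT d (List.mem_range.1 hd)

theorem sumT_eq {N : ℕ} {T : ℕ → ℕ} (hT : ∀ c < N, T c < 256) (code : ℕ → ℕ) :
    ∀ l : List ℕ, (∀ z ∈ l, code z < N) →
      sumT (table N T) code l = hsum full ((l.map code).map T)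
  | [], _ => rfl
  | z :: l, h => by
    show Nat.add (Nat.shiftLeft 1 (Nat.mul 8
      (Nat.mod (Nat.shiftRight (table N T) (Nat.mul 8 (code z))) 256))) (sumT _ code l) = _
    rw [table_get hT (h z (List.mem_cons_self ..)), full_eq,
      sumT_eq hT code l (fun y hy => h y (List.mem_cons_of_mem _ hy))]
    simp only [hsum, List.map_cons, List.sum_cons]
    rfl

end Cfsg.Agent.AltSec.E7.Check
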