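import Cfsg.Agent.AltSec.E7.Fast

/-!
The searches on packed data.
-/

set_option autoImplicit false

namespace Cfsg.Agent.AltSec.E7.Check.Sys

variable (S : Sys)

/-- A packed vector, reversed. -/
def pkRev (b : List ℕ) : ℕ := pk 65536 b.reverse

/-- Evaluation of a packed row at a packed vector. -/
noncomputable def dt (R B : ℕ) : ℕ := dotK S.ℓ (65536 ^ (S.n - 1)) R B

/-- The packed data of a representative. -/
structure Packed where
  moveJ : List (List ℕ)
  zero : List ℕ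
  all : List ℕ

/-- The packed data are right, and small enough. -/
def packedOK (P : Loc) (K : Packed) : Bool :=
  Nat.ble 1 S.n && Nat.blt (S.n * (S.ℓ * S.ℓ)) 65536 && Nat.blt (S.ℓ * S.ℓ) 256 &&
  (S.rows.all fun r => r.all fun x => Nat.blt x S.ℓ) &&
  (P.moves.all fun mv => mv.2.all fun r => r.all fun x => Nat.blt x S.ℓ) &&
  (P.J.all fun i => P.moves.all fun mv => Nat.blt i mv.2.length) &&
  (P.moves.all fun mv => mv.2.all fun r => Nat.beq r.length S.n) &&
  (K.moveJ == P.moves.map fun mv => P.J.map fun i => pk 65536 (mv.2.getD i [])) &&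
  (K.zero == (S.zeroRoots P).map fun s => pk 65536 (S.rows.getD s [])) &&
  (K.all == List.zipWith (fun r x => pk 65536 r * 256 + x) S.rows (S.V P.a))

/-- The local part is lowered, on packed data. -/
noncomputable def lowerF (P : Loc) (K : Packed) (x : List ℕ) : Bool :=
  let B := pkRev (S.merge P x (P.rest.map fun _ => 0))
  K.moveJ.any fun rs => Nat.blt (num S.ℓ (rs.map fun R => S.dt R B)) (num S.ℓ x)

/-- The slice is not invariant, on packed data. -/
noncomputable def sliceF (P : Loc) (K : Packed) (td : ℕ) (x : List ℕ) : Bool :=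
  let B := pkRev (S.merge P x (P.rest.map fun _ => 0))
  !Nat.beq (sumW (fun R => S.dt R B) K.zero) (sumT td (fun R => S.dt R B) K.zero)

/-- The code of an item and a packed vector. -/
noncomputable def itemCode (M B z : ℕ) : ℕ :=
  Nat.add (Nat.mod z 256) (Nat.mul M (S.dt (Nat.div z 256) B))

/-- A pair is not invariant, on packed data. -/
noncomputable def pairF (K : Packed) (tabs : List ℕ) (B : ℕ) : Bool :=
  tabs.any fun t => !Nat.beq (sumW (S.itemCode S.ℓ B) K.all) (sumT t (S.itemCode S.ℓ B) K.all)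

/-- The tables of the maps of pairs. -/
def tables2 (Ts : List (ℕ × ℕ × ℕ × ℕ)) : List ℕ :=
  Ts.map fun m => table (S.ℓ * S.ℓ) (linT2 S.ℓ m)

/-- The tables of the maps of triples. -/
def tables3 (Ts : List ((ℕ × ℕ × ℕ) × (ℕ × ℕ × ℕ) × (ℕ × ℕ × ℕ))) : List ℕ :=
  Ts.map fun m => table (S.ℓ * (S.ℓ * S.ℓ)) (linT3 S.ℓ m)

/-- The search for one local part. -/
noncomputable def bodyF (P : Loc) (K : Packed) (tabs : List ℕ) (Ts : List (ℕ × ℕ × ℕ × ℕ))
    (S2 : List (List ℕ)) (x : List ℕ) : Bool :=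
  S.lowerF P K x || S.sliceF P K (table S.ℓ (mulT S.ℓ P.d)) x ||
    (allVecs S.ℓ P.rest.length).all fun y =>
      S.pairF K tabs (pkRev (S.merge P x y)) || S.pairFail P Ts S2 (S.merge P x y)

/-- The conditions of the search for pairs other than the search itself. -/
def frame2 (P : Loc) (K : Packed) (Ts : List (ℕ × ℕ × ℕ × ℕ)) (S2 : List (List ℕ)) : Bool :=
  S.ok && S.locOK P && Ts.contains P.m && S.packedOK P K && Nat.ble 1 P.J.length &&
  (S2.all fun x => P.moves.all fun mv =>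
    S2.contains (app S.ℓ mv.2 x)) &&
  (P.moves.all fun mv => mv.1.map (fun s => mv.1.getD s 0) == List.range S.rows.length)

/-- The part of the search with given first entries. -/
noncomputable def chunk (P : Loc) (K : Packed) (Ts : List (ℕ × ℕ × ℕ × ℕ)) (S2 : List (List ℕ))
    (x0 : ℕ) : Bool :=
  (allVecs S.ℓ (P.J.length - 1)).all fun x => S.bodyF P K (S.tables2 Ts) Ts S2 (x0 :: x)

/-- A packed item of a triple. -/
def items3 (K : Packed) (vb : List ℕ) : List ℕ :=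
  List.zipWith (fun z y => z + S.ℓ * y) K.all vb

/-- The search for triples, on packed data. -/
noncomputable def check3F (P : Loc) (K : Packed)
    (Ts : List ((ℕ × ℕ × ℕ) × (ℕ × ℕ × ℕ) × (ℕ × ℕ × ℕ))) (S2 reps2 : List (List ℕ)) : Bool :=
  (S2.all fun b => Nat.beq b.length S.n && (b.all fun x => Nat.blt x S.ℓ) && (reps2.contains b ||
    P.moves.any fun mv => Nat.blt (num S.ℓ (app S.ℓ mv.2 b)) (num S.ℓ b))) &&
  reps2.all fun b =>
    let items := S.items3 K (S.V b)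
    S2.all fun c =>
      let B := pkRev c
      ((S.tables3 Ts).any fun t =>
        !Nat.beq (sumW (S.itemCode (S.ℓ * S.ℓ) B) items) (sumT t (S.itemCode (S.ℓ * S.ℓ) B) items)) ||
      dep3 S.ℓ (S.V P.a) (S.V b) (S.V c)

variable {S}

theorem packedOK_parts {P : Loc} {K : Packed} (h : S.packedOK P K = true) :
    1 ≤ S.n ∧ S.n * (S.ℓ * S.ℓ) < 65536 ∧ S.ℓ * S.ℓ < 256 ∧
    (∀ r ∈ S.rows, ∀ x ∈ r, x < S.ℓ) ∧ (∀ mv ∈ P.moves, ∀ r ∈ mv.2, ∀ x ∈ r, x < S.ℓ) ∧
    (∀ i ∈ P.J, ∀ mv ∈ P.moves, i < mv.2.length) ∧ (∀ mv ∈ P.moves, ∀ r ∈ mv.2, r.length = S.n) ∧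
    (K.moveJ = P.moves.map fun mv => P.J.map fun i => pk 65536 (mv.2.getD i [])) ∧
    (K.zero = (S.zeroRoots P).map fun s => pk 65536 (S.rows.getD s [])) ∧
    K.all = List.zipWith (fun r x => pk 65536 r * 256 + x) S.rows (S.V P.a) := by
  simp only [packedOK, Bool.and_eq_true, Nat.ble_eq, Nat.blt_eq, List.all_eq_true, Nat.beq_eq,
    beq_iff_eq] at h
  obtain ⟨⟨⟨⟨⟨⟨⟨⟨⟨h1, h2⟩, h3⟩, h4⟩, h5⟩, h6⟩, h7⟩, h8⟩, h9⟩, h10⟩ := h
  exact ⟨h1, h2, h3, h4, h5, h6, h7, h8, h9, h10⟩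

theorem dt_eq {P : Loc} {K : Packed} (h : S.packedOK P K = true) {r b : List ℕ}
    (hr : r.length = S.n) (hrv : ∀ x ∈ r, x < S.ℓ) (hb : S.Valid b) :
    S.dt (pk 65536 r) (pkRev b) = valN S.ℓ r b := by
  obtain ⟨hn, hsmall, -⟩ := packedOK_parts h
  obtain ⟨n, hn'⟩ : ∃ n, S.n = n + 1 := ⟨S.n - 1, by omega⟩
  rw [dt, pkRev, hn', Nat.add_sub_cancel]
  exact dotK_eq (M := S.ℓ) (hr.trans hn') (hb.1.trans hn') (fun x hx => (hrv x hx).le)
    (fun x hx => (hb.2 x hx).le) (hn' ▸ hsmall)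

theorem rows_facts {P : Loc} {K : Packed} (hok : S.ok = true) (h : S.packedOK P K = true) {s : ℕ}
    (hs : s < S.rows.length) :
    (S.rows.getD s []).length = S.n ∧ ∀ x ∈ S.rows.getD s [], x < S.ℓ := by
  obtain ⟨-, -, -, hR, -⟩ := packedOK_parts h
  refine ⟨S.rowLen hok hs, ?_⟩
  rw [List.getD_eq_getElem _ _ hs]
  exact hR _ (List.getElem_mem _)

theorem lowerF_eq {P : Loc} {K : Packed} (h : S.packedOK P K = true) {x : List ℕ}
    (hv : S.Valid (S.merge P x (P.rest.map fun _ => 0))) : S.lowerF P K x = S.lower P x := by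
  obtain ⟨-, -, -, -, hmv, hJ, hlen, hK, -, -⟩ := packedOK_parts h
  simp only [lowerF, lower, hK, List.any_map]
  rw [Bool.eq_iff_iff]
  simp only [List.any_eq_true, Function.comp_apply, List.map_map]
  refine exists_congr fun mv => and_congr_right fun hmem => ?_
  suffices e : (P.J.map fun i => S.dt (pk 65536 (mv.2.getD i [])) (pkRev
      (S.merge P x (P.rest.map fun _ => 0)))) =
      pick P.J (app S.ℓ mv.2 (S.merge P x (P.rest.map fun _ => 0))) by rw [Function.comp_def, e]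
  refine List.map_congr_left fun i hi => ?_
  have hil := hJ i hi mv hmem
  rw [List.getD_eq_getElem _ _ hil, dt_eq h (hlen mv hmem _ (List.getElem_mem _))
    (hmv mv hmem _ (List.getElem_mem _)) hv]
  simp [app, hil]

theorem dt_lt {P : Loc} {K : Packed} (hok : S.ok = true) (R B : ℕ) (_ : S.packedOK P K = true) :
    S.dt R B < S.ℓ := by
  simp only [ok, Bool.and_eq_true, Nat.ble_eq] at hok
  exact Nat.mod_lt _ hok.1.1.1

theorem sliceF_eq {P : Loc} {K : Packed} (hok : S.ok = true) (h : S.packedOK P K = true)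
    {x : List ℕ} (hv : S.Valid (S.merge P x (P.rest.map fun _ => 0))) :
    S.sliceF P K (table S.ℓ (mulT S.ℓ P.d)) x = S.sliceFail P x := by
  obtain ⟨-, -, hℓ3, -, -, -, -, -, hK, -⟩ := packedOK_parts h
  have hℓ0 : 0 < S.ℓ := lt_of_le_of_lt (Nat.zero_le _) (dt_lt hok 0 0 h)
  have hℓ : S.ℓ < 256 := lt_of_le_of_lt (Nat.le_mul_of_pos_right _ hℓ0) hℓ3
  simp only [sliceF, sliceFail, inv]
  rw [sumW_eq, sumT_eq (T := mulT S.ℓ P.d) (fun c _ => lt_trans (Nat.mod_lt _ hℓ0) hℓ) _ _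
    (fun z _ => dt_lt hok _ _ h), hK, List.map_map]
  have e : ((S.zeroRoots P).map ((fun R => S.dt R (pkRev (S.merge P x (P.rest.map fun _ => 0)))) ∘
      fun s => pk 65536 (S.rows.getD s []))) =
      (S.zeroRoots P).map fun s => valN S.ℓ (S.rows.getD s []) (S.merge P x (P.rest.map fun _ => 0)) := by
    refine List.map_congr_left fun s hs => ?_
    have hs' : s < S.rows.length := List.mem_range.1 (List.mem_filter.1 hs).1
    exact dt_eq h (rows_facts hok h hs').1 (rows_facts hok h hs').2 hv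
  rw [e]

theorem itemCode_map {P : Loc} {K : Packed} (hok : S.ok = true) (h : S.packedOK P K = true)
    {b u : List ℕ} (hb : S.Valid b) (hu : u.length = S.rows.length) (hu' : ∀ x ∈ u, x < 256) (M : ℕ) :
    (List.zipWith (fun r x => pk 65536 r * 256 + x) S.rows u).map (S.itemCode M (pkRev b)) =
      List.zipWith (fun x y => x + M * y) u (S.V b) := by
  refine List.ext_getElem (by simp [V, vals, hu]) fun i h1 h2 => ?_
  have hi : i < S.rows.length := by simpa [hu] using h1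
  have hf := rows_facts hok h hi
  rw [List.getD_eq_getElem _ _ hi] at hf
  have hx := hu' (u[i]'(hu ▸ hi)) (List.getElem_mem _)
  simp only [List.getElem_map, List.getElem_zipWith, V, vals, itemCode]
  show Nat.add ((pk 65536 S.rows[i] * 256 + u[i]'(hu ▸ hi)) % 256)
    (Nat.mul M (S.dt ((pk 65536 S.rows[i] * 256 + u[i]'(hu ▸ hi)) / 256) (pkRev b))) = _
  rw [Nat.mul_comm (pk 65536 S.rows[i]) 256, Nat.mul_add_mod, Nat.mod_eq_of_lt hx,
    Nat.mul_add_div (by norm_num), Nat.div_eq_of_lt hx, add_zero, dt_eq h hf.1 hf.2 hb]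
  rfl

theorem pairF_sound {P : Loc} {K : Packed} (hok : S.ok = true) (h : S.packedOK P K = true)
    {Ts : List (ℕ × ℕ × ℕ × ℕ)} {b : List ℕ} (hb : S.Valid b)
    (hp : S.pairF K (S.tables2 Ts) (pkRev b) = true) :
    ∃ m ∈ Ts, inv full (linT2 S.ℓ m) (code2 S.ℓ (S.V P.a) (S.V b)) = false := by
  obtain ⟨-, -, hℓ2, -, -, -, -, -, -, hK⟩ := packedOK_parts h
  have hℓ0 : 0 < S.ℓ := lt_of_le_of_lt (Nat.zero_le _) (dt_lt hok 0 0 h)
  have hℓ1 : S.ℓ < 256 := lt_of_le_of_lt (Nat.le_mul_of_pos_right _ hℓ0) hℓ2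
  have hVa : ∀ x ∈ S.V P.a, x < S.ℓ := fun x hx => by
    obtain ⟨r, -, rfl⟩ := List.mem_map.1 hx; exact Nat.mod_lt _ hℓ0
  have hcodes : K.all.map (S.itemCode S.ℓ (pkRev b)) = code2 S.ℓ (S.V P.a) (S.V b) := by
    rw [hK, itemCode_map hok h hb (by simp [V, vals]) (fun x hx => (hVa x hx).trans hℓ1)]
    rfl
  have hlt : ∀ c ∈ code2 S.ℓ (S.V P.a) (S.V b), c < S.ℓ * S.ℓ := by
    intro c hc
    obtain ⟨i, hi, rfl⟩ := List.getElem_of_mem hc
    simp only [code2, List.getElem_zipWith]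
    have h1 := hVa _ (List.getElem_mem (l := S.V P.a) (by simp [code2] at hi; exact hi.1))
    have h2 : (S.V b)[i]'(by simp [code2] at hi; exact hi.2) < S.ℓ := by
      simp only [V, vals, List.getElem_map]; exact Nat.mod_lt _ hℓ0
    calc _ < S.ℓ + S.ℓ * (S.V b)[i]'(by simp [code2] at hi; exact hi.2) := Nat.add_lt_add_right h1 _
      _ ≤ S.ℓ * S.ℓ := by rw [add_comm, ← Nat.mul_succ]; exact Nat.mul_le_mul_left _ h2
  simp only [pairF, List.any_eq_true, tables2, List.mem_map] at hp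
  obtain ⟨_, ⟨m, hm, rfl⟩, hp⟩ := hp
  refine ⟨m, hm, ?_⟩
  have hT : ∀ c < S.ℓ * S.ℓ, linT2 S.ℓ m c < 256 := by
    intro c _
    refine lt_of_lt_of_le ?_ hℓ2.le
    simp only [linT2]
    have h1 := Nat.mod_lt (m.1 * (c % S.ℓ) + m.2.1 * (c / S.ℓ)) hℓ0
    have h2 := Nat.mod_lt (m.2.2.1 * (c % S.ℓ) + m.2.2.2 * (c / S.ℓ)) hℓ0
    calc _ < S.ℓ + S.ℓ * ((m.2.2.1 * (c % S.ℓ) + m.2.2.2 * (c / S.ℓ)) % S.ℓ) := Nat.add_lt_add_right h1 _
      _ ≤ S.ℓ * S.ℓ := by rw [add_comm, ← Nat.mul_succ]; exact Nat.mul_le_mul_left _ h2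
  rw [sumW_eq, sumT_eq hT _ _ (fun z hz => hlt _ (hcodes ▸ List.mem_map_of_mem hz)), hcodes] at hp
  simp only [inv]
  simpa using hp

theorem check2_of_chunks {P : Loc} {K : Packed} {Ts : List (ℕ × ℕ × ℕ × ℕ)} {S2 : List (List ℕ)}
    (hfr : S.frame2 P K Ts S2 = true)
    (hch : ∀ x0 < S.ℓ, S.chunk P K Ts S2 x0 = true) : S.check2 P Ts S2 = true := by
  simp only [frame2, Bool.and_eq_true, Nat.ble_eq] at hfr
  obtain ⟨⟨⟨⟨⟨⟨hok, hloc⟩, hm⟩, hpk⟩, hJ⟩, hS2⟩, hinv⟩ := hfr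
  simp only [check2, Bool.and_eq_true]
  refine ⟨⟨⟨⟨⟨hok, hloc⟩, hm⟩, hS2⟩, hinv⟩, List.all_eq_true.2 fun x hx => ?_⟩
  obtain ⟨n, hn⟩ : ∃ n, P.J.length = n + 1 := ⟨P.J.length - 1, by omega⟩
  rw [hn, allVecs, List.mem_flatMap] at hx
  obtain ⟨x0, hx0, hx⟩ := hx
  obtain ⟨x', hx', rfl⟩ := List.mem_map.1 hx
  have hc := hch x0 (List.mem_range.1 hx0)
  simp only [chunk, hn, Nat.add_sub_cancel, List.all_eq_true] at hc
  have hb := hc x' hx'
  have hzero : ∀ v ∈ P.rest.map (fun _ => 0), v < S.ℓ := fun v hv => by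
    obtain ⟨_, -, rfl⟩ := List.mem_map.1 hv
    exact lt_of_le_of_lt (Nat.zero_le _) (dt_lt hok 0 0 hpk)
  have hall : ∀ {n : ℕ} {y : List ℕ}, y ∈ allVecs S.ℓ n → ∀ v ∈ y, v < S.ℓ := by
    intro n
    induction n with
    | zero => intro y hy; simp [allVecs] at hy; simp [hy]
    | succ n ih =>
      intro y hy
      simp only [allVecs, List.mem_flatMap, List.mem_range, List.mem_map] at hy
      obtain ⟨u, hu, z, hz, rfl⟩ := hy
      intro v hv
      rcases List.mem_cons.1 hv with rfl | hv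
      · exact hu
      · exact ih hz v hv
  have hxv : ∀ v ∈ x0 :: x', v < S.ℓ := hall (n := n + 1) (by
    simp only [allVecs, List.mem_flatMap, List.mem_map]; exact ⟨x0, hx0, x', hx', rfl⟩)
  simp only [bodyF, lowerF_eq hpk (valid_merge hok hxv hzero),
    sliceF_eq hok hpk (valid_merge hok hxv hzero), Bool.or_eq_true, List.all_eq_true] at hb ⊢
  refine hb.imp id fun h y hy => ?_
  rcases h y hy with h' | h'
  · obtain ⟨m, hm', hinv'⟩ := pairF_sound hok hpk (valid_merge hok hxv (hall hy)) h'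
    simp only [pairFail, Bool.or_eq_true, List.any_eq_true, Bool.not_eq_true']
    exact Or.inl (Or.inl ⟨m, hm', hinv'⟩)
  · exact h'

theorem check3_of_fast {P : Loc} {K : Packed}
    {Ts : List ((ℕ × ℕ × ℕ) × (ℕ × ℕ × ℕ) × (ℕ × ℕ × ℕ))} {S2 reps2 : List (List ℕ)}
    (hok : S.ok = true) (hpk : S.packedOK P K = true) (hℓ3 : S.ℓ * S.ℓ * S.ℓ < 256) (hsub : reps2.all (S2.contains ·) = true)
    (h : S.check3F P K Ts S2 reps2 = true) :
    S.check3 P Ts S2 reps2 = true ∧ ∀ b ∈ S2, S.Valid b := by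
  simp only [check3F, Bool.and_eq_true, List.all_eq_true, Nat.beq_eq, Nat.blt_eq] at h
  simp only [List.all_eq_true, List.contains_iff_mem] at hsub
  obtain ⟨h1, h2⟩ := h
  have hval : ∀ b ∈ S2, S.Valid b := fun b hb => ⟨(h1 b hb).1.1, (h1 b hb).1.2⟩
  refine ⟨?_, hval⟩
  simp only [check3, Bool.and_eq_true, List.all_eq_true]
  refine ⟨fun b hb => (h1 b hb).2, fun b hb c hc => ?_⟩
  rcases Bool.or_eq_true .. ▸ h2 b hb c hc with h' | h'
  swap
  · simp [h']
  obtain ⟨-, -, -, -, -, -, -, -, -, hK⟩ := packedOK_parts hpk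
  have hℓ0 : 0 < S.ℓ := lt_of_le_of_lt (Nat.zero_le _) (dt_lt hok 0 0 hpk)
  have hV : ∀ (d : List ℕ) (i : ℕ) (hi : i < (S.V d).length), (S.V d)[i] < S.ℓ := fun d i hi => by
    simp only [V, vals, List.getElem_map]; exact Nat.mod_lt _ hℓ0
  have hitems : (S.items3 K (S.V b)).map (S.itemCode (S.ℓ * S.ℓ) (pkRev c)) =
      code3 S.ℓ (S.V P.a) (S.V b) (S.V c) := by
    have e : S.items3 K (S.V b) = List.zipWith (fun r x => pk 65536 r * 256 + x) S.rows
        (List.zipWith (fun x y => x + S.ℓ * y) (S.V P.a) (S.V b)) := by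
      rw [items3, hK]
      refine List.ext_getElem (by simp [V, vals]) fun i h3 h4 => ?_
      simp only [List.getElem_zipWith]
      ring
    rw [e, itemCode_map hok hpk (hval c hc) (by simp [V, vals]) (fun x hx => ?_)]
    · refine List.ext_getElem (by simp [code3, code2, V, vals]) fun i h3 h4 => ?_
      simp only [code3, code2, List.getElem_zipWith]
      ring
    · obtain ⟨i, hi, rfl⟩ := List.getElem_of_mem hx
      simp only [List.getElem_zipWith]
      refine lt_of_lt_of_le ?_ (le_trans (Nat.le_mul_of_pos_right (S.ℓ * S.ℓ) hℓ0) hℓ3.le)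
      simp only [List.length_zipWith, lt_min_iff] at hi
      calc _ < S.ℓ + S.ℓ * (S.V b)[i]'hi.2 := Nat.add_lt_add_right (hV _ _ hi.1) _
        _ ≤ S.ℓ * S.ℓ := by rw [add_comm, ← Nat.mul_succ]; exact Nat.mul_le_mul_left _ (hV _ _ hi.2)
  simp only [List.any_eq_true, tables3, List.mem_map] at h'
  obtain ⟨_, ⟨m, hm, rfl⟩, hp⟩ := h'
  have h3lt : ∀ u v w, u < S.ℓ → v < S.ℓ → w < S.ℓ → u + S.ℓ * (v + S.ℓ * w) < S.ℓ * (S.ℓ * S.ℓ) := by
    intro u v w hu hv hw
    have h5 : v + S.ℓ * w < S.ℓ * S.ℓ := by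
      calc _ < S.ℓ + S.ℓ * w := Nat.add_lt_add_right hv _
        _ ≤ S.ℓ * S.ℓ := by rw [add_comm, ← Nat.mul_succ]; exact Nat.mul_le_mul_left _ hw
    calc _ < S.ℓ + S.ℓ * (v + S.ℓ * w) := Nat.add_lt_add_right hu _
      _ ≤ _ := by rw [add_comm, ← Nat.mul_succ]; exact Nat.mul_le_mul_left _ h5
  have hT : ∀ d < S.ℓ * (S.ℓ * S.ℓ), linT3 S.ℓ m d < 256 := fun d _ =>
    lt_of_lt_of_le (h3lt _ _ _ (Nat.mod_lt _ hℓ0) (Nat.mod_lt _ hℓ0) (Nat.mod_lt _ hℓ0))
      (by rw [← mul_assoc]; exact hℓ3.le)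
  rw [sumW_eq, sumT_eq hT _ _ (fun z hz => by
    obtain ⟨i, hi, e⟩ := List.getElem_of_mem (hitems ▸ List.mem_map_of_mem (f := S.itemCode _ _) hz)
    rw [← e]
    simp only [code3, code2, List.length_zipWith, lt_min_iff] at hi
    simp only [code3, code2, List.getElem_zipWith]
    exact h3lt _ _ _ (hV _ _ hi.1) (hV _ _ hi.2.1) (hV _ _ hi.2.2)), hitems] at hp
  simp only [Bool.or_eq_true, List.any_eq_true]
  exact Or.inr ⟨m, hm, by simpa [inv] using hp⟩

end Cfsg.Agent.AltSec.E7.Check.Sys
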