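import Cfsg.Agent.AltSec.E7.Cert
import Mathlib.Data.ZMod.Basic

/-!
The search among the values fixed by one Weyl element.
-/

set_option autoImplicit false

namespace Cfsg.Agent.AltSec.E7.Check.Sys

variable (S : Sys)

/-- No non-zero vector fixed by the map has values invariant under the multiplications. -/
def fixCheck (A P : List (List ℕ)) (free : List ℕ) (T : List (List ℕ)) (js : List ℕ) : Bool :=
  S.ok && Nat.beq A.length S.n && (A.all fun r => Nat.beq r.length S.n) &&
  Nat.beq T.length S.n && (T.all fun r => Nat.beq r.length free.length) &&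
  (free.all fun f => Nat.blt f S.n) &&
  ((List.range S.n).all fun i => (List.range S.n).all fun l => Nat.beq
    ((((List.range S.n).map fun m =>
        (P.getD i []).getD m 0 * ((A.getD m []).getD l 0 + (S.ℓ - 1) * (if m = l then 1 else 0))).sum +
      ((List.range free.length).map fun f =>
        (T.getD i []).getD f 0 * (if free.getD f 0 = l then 1 else 0)).sum) % S.ℓ)
    ((if i = l then 1 else 0) % S.ℓ)) &&
  (allVecs S.ℓ free.length).all fun y =>
    ((app S.ℓ T y).all fun x => x == 0) || js.any fun j => !inv full (mulT S.ℓ j) (S.V (app S.ℓ T y))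

variable {S}

theorem sum_range_cast {R : Type} [AddCommMonoidWithOne R] (n : ℕ) (f : ℕ → ℕ) :
    ((((List.range n).map f).sum : ℕ) : R) = ∑ i : Fin n, ((f i : ℕ) : R) := by
  rw [← Nat.cast_sum, ← List.sum_ofFn]
  congr 2
  exact List.ext_getElem (by simp) fun i h1 h2 => by simp

theorem eq_zero_of_fixed {A P : List (List ℕ)} {free : List ℕ} {T : List (List ℕ)} {js : List ℕ}
    (hc : S.fixCheck A P free T js = true) {b : List ℕ} (hb : S.Valid b) (hfix : app S.ℓ A b = b)
    (hi : S.Inv1 js (S.V b)) : ∀ x ∈ b, x = 0 := by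
  simp only [fixCheck, Bool.and_eq_true, Nat.beq_eq, List.all_eq_true, Nat.blt_eq, List.mem_range,
    Bool.or_eq_true, List.any_eq_true, Bool.not_eq_true', beq_iff_eq] at hc
  obtain ⟨⟨⟨⟨⟨⟨⟨hok, hAl⟩, hAr⟩, hTl⟩, hTr⟩, hfree⟩, hid⟩, hall⟩ := hc
  have hℓ : 0 < S.ℓ := by
    simp only [ok, Bool.and_eq_true, Nat.ble_eq] at hok
    exact hok.1.1.1
  set y := pick free b with hy
  have hyv : ∀ x ∈ y, x < S.ℓ := by
    intro x hx
    obtain ⟨i, hi', rfl⟩ := List.mem_map.1 hx
    rw [List.getD_eq_getElem _ _ (by rw [hb.1]; exact hfree i hi')]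
    exact hb.2 _ (List.getElem_mem _)
  have hby : app S.ℓ T y = b := by
    refine List.ext_getElem (by simp [app, hTl, hb.1]) fun i h1 h2 => ?_
    have hin : i < S.n := hb.1 ▸ h2
    have hiT : i < T.length := hTl.symm ▸ hin
    have e : (app S.ℓ T y)[i]'h1 = valN S.ℓ (T.getD i []) y := by simp [app, hiT]
    rw [e, valN_eq_sum (n := free.length) (by rw [List.getD_eq_getElem _ _ hiT]; exact hTr _ (List.getElem_mem _)) (by simp [hy, pick])]
    have hA : ∀ m : Fin S.n, ((b.getD m 0 : ℕ) : ZMod S.ℓ) =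
        ∑ l : Fin S.n, ((A.getD m []).getD l 0 : ZMod S.ℓ) * (b.getD l 0 : ℕ) := by
      intro m
      have hm : (m : ℕ) < A.length := hAl.symm ▸ m.2
      have e2 : (app S.ℓ A b).getD m 0 = valN S.ℓ (A.getD m []) b := by simp [app, hm]
      conv_lhs => rw [← hfix, e2, valN_eq_sum (n := S.n)
        (by rw [List.getD_eq_getElem _ _ hm]; exact hAr _ (List.getElem_mem _)) hb.1]
      rw [ZMod.natCast_mod, Nat.cast_sum]
      exact Finset.sum_congr rfl fun l _ => Nat.cast_mul _ _
    have hid' : ∀ l : Fin S.n,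
        (∑ m : Fin S.n, ((P.getD i []).getD m 0 : ZMod S.ℓ) *
          (((A.getD m []).getD l 0 : ZMod S.ℓ) - (if m = l then 1 else 0))) +
        (∑ f : Fin free.length, ((T.getD i []).getD f 0 : ZMod S.ℓ) *
          (if free.getD f 0 = (l : ℕ) then 1 else 0)) = if i = (l : ℕ) then 1 else 0 := by
      intro l
      have h := (ZMod.natCast_eq_natCast_iff _ _ S.ℓ).2 (hid i hin l l.2)
      rw [Nat.cast_add, sum_range_cast, sum_range_cast] at h
      have hm1 : ((S.ℓ - 1 : ℕ) : ZMod S.ℓ) = -1 := by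
        rw [Nat.cast_sub hℓ, ZMod.natCast_self, Nat.cast_one, zero_sub]
      simp only [Nat.cast_mul, Nat.cast_add, hm1, Nat.cast_ite, Nat.cast_one, Nat.cast_zero,
        Fin.val_inj] at h
      have hneg : ∀ m : Fin S.n, (-1 : ZMod S.ℓ) * (if m = l then 1 else 0) =
          -(if m = l then 1 else 0) := fun m => neg_one_mul _
      simpa only [hneg, ← sub_eq_add_neg] using h
    have e3 : ((b.getD i 0 : ℕ) : ZMod S.ℓ) =
        ∑ f : Fin free.length, ((T.getD i []).getD f 0 : ZMod S.ℓ) * (y.getD f 0 : ℕ) := by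
      have h0 : ∀ m : Fin S.n, ∑ l : Fin S.n, (((A.getD m []).getD l 0 : ZMod S.ℓ) -
          (if m = l then 1 else 0)) * (b.getD l 0 : ℕ) = 0 := fun m => by
        simp only [sub_mul, Finset.sum_sub_distrib, ite_mul, one_mul, zero_mul, Finset.sum_ite_eq,
          Finset.mem_univ, if_true, ← hA m, sub_self]
      have h2 : ∑ l : Fin S.n, (if i = (l : ℕ) then 1 else 0 : ZMod S.ℓ) * (b.getD l 0 : ℕ) =
          (b.getD i 0 : ℕ) := by
        rw [Finset.sum_eq_single ⟨i, hin⟩ (fun l _ hl => by
          rw [if_neg fun e => hl (Fin.ext e.symm), zero_mul]) (by simp), if_pos rfl, one_mul]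
      rw [← h2]
      simp only [← hid', add_mul, Finset.sum_add_distrib, Finset.sum_mul, mul_assoc]
      rw [Finset.sum_comm]
      simp only [← Finset.mul_sum, h0, mul_zero, Finset.sum_const_zero, zero_add]
      rw [Finset.sum_comm]
      refine Finset.sum_congr rfl fun f _ => ?_
      rw [← Finset.mul_sum]
      congr 1
      have hf : free.getD f 0 < S.n := by
        rw [List.getD_eq_getElem _ _ f.2]; exact hfree _ (List.getElem_mem _)
      rw [Finset.sum_eq_single ⟨_, hf⟩ (fun l _ hl => by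
        rw [if_neg fun e => hl (Fin.ext e.symm), zero_mul]) (by simp), if_pos rfl, one_mul]
      simp [hy, pick]
    have := hb.2 _ (List.getElem_mem h2)
    rw [← Nat.mod_eq_of_lt this, ← List.getD_eq_getElem _ 0 h2]
    refine (ZMod.natCast_eq_natCast_iff' _ _ S.ℓ).1 ?_
    rw [e3, Nat.cast_sum]
    exact Finset.sum_congr rfl fun f _ => Nat.cast_mul _ _
  rcases hall y (mem_allVecs (by simp [hy, pick]) hyv) with h | ⟨j, hj, h⟩
  · rwa [hby] at h
  · rw [hby, hi full j hj] at h; cases h

end Cfsg.Agent.AltSec.E7.Check.Sys
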