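import Cfsg.Agent.AltSec.E7.Cert
import Cfsg.Agent.Chev.CentralizerTorus
import Mathlib.LinearAlgebra.Matrix.NonsingularInverse
import Mathlib.RingTheory.RootsOfUnity.AlgebraicallyClosed

/-!
Root values of commuting torus elements of prime order.
-/

set_option autoImplicit false

namespace Cfsg.Agent.AltSec.E7.Check

open Cfsg.Lie Cfsg.Agent.Chev Cfsg.Agent.Chev.SS Cfsg.Agent.AltSec.TorusTest
open scoped MatrixGroups

universe u

/-- An invertible matrix intertwining diagonal matrices gives a permutation of the entries. -/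
theorem exists_perm_of_intertwine {ι : Type} [Fintype ι] [DecidableEq ι] {k : Type u} [Field k]
    (g : GL ι k) :
    ∃ σ : Equiv.Perm ι, ∀ d d' : ι → k, (g : Matrix ι ι k) * Matrix.diagonal d =
      Matrix.diagonal d' * (g : Matrix ι ι k) → ∀ a, d' (σ a) = d a := by
  have h : (g : Matrix ι ι k).det ≠ 0 := IsUnit.ne_zero ((Matrix.isUnit_iff_isUnit_det _).1 g.isUnit)
  rw [Matrix.det_apply] at h
  obtain ⟨σ, -, hσ⟩ := Finset.exists_ne_zero_of_sum_ne_zero h
  refine ⟨σ, fun d d' e a => ?_⟩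
  have hne : (g : Matrix ι ι k) (σ a) a ≠ 0 := fun h0 => hσ ((congrArg (Equiv.Perm.sign σ • ·)
    (Finset.prod_eq_zero (f := fun i => (g : Matrix ι ι k) (σ i) i) (Finset.mem_univ a) h0)).trans
      (smul_zero _))
  have e' := congrFun (congrFun e (σ a)) a
  rw [Matrix.mul_diagonal, Matrix.diagonal_mul, mul_comm (d' _)] at e'
  exact (mul_left_cancel₀ hne e').symm

/-- The table comes from the datum and its alcove. -/
def tableOK (D : ChevalleyDatum) (C : Alcove D) (S : Sys) : Bool :=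
  S.ok && Nat.beq S.n D.rank &&
  (S.rows == List.ofFn fun s : Fin D.nroots => List.ofFn fun i : Fin D.rank =>
    (C.coord s i % (S.ℓ : ℤ)).toNat) &&
  (S.sIdx == List.ofFn fun i : Fin D.rank => D.simple i) &&
  Nat.beq (Int.gcd S.ℓ C.e) 1

/-- The logarithms of the root values. -/
def Logs {D : ChevalleyDatum} {k : Type u} [Field k] (S : Sys) (ζ : kˣ) (c : Fin D.rank → kˣ)
    (b : List ℕ) : Prop :=
  S.Valid b ∧ ∀ s : Fin D.nroots, chiU c (s : ℕ) = ζ ^ (S.V b).getD s 0

variable {D : ChevalleyDatum} {k : Type u} [Field k]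

theorem tableOK_parts {C : Alcove D} {S : Sys} (h : tableOK D C S = true) :
    S.ok = true ∧ S.n = D.rank ∧ S.rows = (List.ofFn fun s : Fin D.nroots =>
      List.ofFn fun i : Fin D.rank => (C.coord s i % (S.ℓ : ℤ)).toNat) ∧
    (S.sIdx = List.ofFn fun i : Fin D.rank => D.simple i) ∧ Int.gcd S.ℓ C.e = 1 := by
  simp only [tableOK, Bool.and_eq_true, Nat.beq_eq, beq_iff_eq] at h
  exact ⟨h.1.1.1.1, h.1.1.1.2, h.1.1.2, h.1.2, h.2⟩

theorem V_getD {C : Alcove D} {S : Sys} (h : tableOK D C S = true) {b : List ℕ} (hb : S.Valid b)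
    (s : Fin D.nroots) : ((S.V b).getD s 0 : ℤ) =
      (∑ i : Fin D.rank, C.coord s i * (b.getD i 0 : ℤ)) % (S.ℓ : ℤ) := by
  obtain ⟨hok, hn, hR, -, -⟩ := tableOK_parts h
  have hs : (s : ℕ) < S.rows.length := by rw [hR, List.length_ofFn]; exact s.2
  have hℓ : 0 < S.ℓ := by
    simp only [Sys.ok, Bool.and_eq_true, Nat.ble_eq] at hok
    exact hok.1.1.1
  have e : (S.V b).getD s 0 = valN S.ℓ (S.rows.getD s []) b := by
    simp [Sys.V, vals, hs]
  have hrow : S.rows.getD s [] = List.ofFn fun i : Fin D.rank =>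
      (C.coord s i % (S.ℓ : ℤ)).toNat := by
    rw [List.getD_eq_getElem _ _ hs]; simp [hR]
  rw [e, valN_eq_sum (n := D.rank) (by rw [hrow]; simp) (by rw [hb.1, hn]), hrow,
    Int.natCast_emod, Nat.cast_sum, Finset.sum_int_mod]
  conv_rhs => rw [Finset.sum_int_mod]
  refine congrArg (· % (S.ℓ : ℤ)) (Finset.sum_congr rfl fun i _ => ?_)
  have hi : (List.ofFn fun i : Fin D.rank => (C.coord s i % (S.ℓ : ℤ)).toNat).getD i 0 =
      (C.coord s i % (S.ℓ : ℤ)).toNat := by simp
  rw [hi]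
  push_cast
  rw [Int.toNat_of_nonneg (Int.emod_nonneg _ (by omega)), Int.mul_emod]
  conv_rhs => rw [Int.mul_emod]
  rw [Int.emod_emod]

variable [IsAlgClosed k] (hF : Facts.{u} D) {C : Alcove D} (hC : C.Valid) {S : Sys}
  (hS : tableOK D C S = true) {ζ : kˣ} (hζ : IsPrimitiveRoot ζ S.ℓ)
include hF hC hS hζ

theorem exists_logs {c : Fin D.rank → kˣ} (hc : ∀ s : Fin D.nroots, chiU c (s : ℕ) ^ S.ℓ = 1) :
    ∃ b, Logs S ζ c b := by
  obtain ⟨hok, hn, -, -, -⟩ := tableOK_parts hS
  have hℓ : 0 < S.ℓ := by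
    simp only [Sys.ok, Bool.and_eq_true, Nat.ble_eq] at hok
    exact hok.1.1.1
  haveI : NeZero S.ℓ := ⟨hℓ.ne'⟩
  have hlog : ∀ i : Fin D.rank, ∃ a : ℕ, a < S.ℓ ∧ chiU c (D.simple i) = ζ ^ a := fun i => by
    obtain ⟨a, ha, e⟩ := (IsPrimitiveRoot.coe_units_iff.2 hζ).eq_pow_of_pow_eq_one
      (ξ := ((chiU c (D.simple i) : kˣ) : k))
      (by rw [← Units.val_pow_eq_pow_val, hc ⟨D.simple i, hF.simple_lt i i.2⟩]; rfl)
    exact ⟨a, ha, Units.ext (by rw [Units.val_pow_eq_pow_val, e])⟩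
  choose a hal ha using hlog
  have hv : S.Valid (List.ofFn a) := ⟨by simp [hn], fun x hx => by
    obtain ⟨i, rfl⟩ := List.mem_ofFn.1 hx; exact hal i⟩
  refine ⟨_, hv, fun s => ?_⟩
  have e : chiU c (s : ℕ) = ζ ^ (∑ i : Fin D.rank, C.coord s i * (a i : ℤ)) := by
    rw [zpow_sum']
    simp only [mul_comm (C.coord (s : ℕ) _), zpow_mul, zpow_natCast, ← ha]
    simp only [chiU, ← Finset.prod_zpow, ← zpow_mul]
    rw [Finset.prod_comm]
    refine Finset.prod_congr rfl fun i _ => ?_
    rw [← zpow_sum', hC.coord_spec s i]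
    exact congrArg _ (Finset.sum_congr rfl fun l _ => mul_comm _ _)
  rw [e, ← zpow_natCast, zpow_iff hζ, V_getD hS hv]
  simp only [List.getD_eq_getElem?_getD, List.getElem?_ofFn, Fin.is_lt, dite_true, Fin.eta,
    Option.getD_some]
  exact (Int.dvd_self_sub_emod)

theorem logs_unique {c : Fin D.rank → kˣ} {b b' : List ℕ} (h : Logs S ζ c b) (h' : Logs S ζ c b') :
    S.V b = S.V b' := by
  obtain ⟨hok, -, hR, -, -⟩ := tableOK_parts hS
  have hℓ : 0 < S.ℓ := by
    simp only [Sys.ok, Bool.and_eq_true, Nat.ble_eq] at hok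
    exact hok.1.1.1
  refine List.ext_getElem (by simp [Sys.V, vals]) fun i h1 h2 => ?_
  have hi : i < D.nroots := by simpa [Sys.V, vals, hR] using h1
  have e := (h.2 ⟨i, hi⟩).symm.trans (h'.2 ⟨i, hi⟩)
  simp only [List.getD_eq_getElem _ _ h1, List.getD_eq_getElem _ _ h2] at e
  exact hζ.pow_inj (by simp only [Sys.V, vals, List.getElem_map]; exact Nat.mod_lt _ hℓ)
    (by simp only [Sys.V, vals, List.getElem_map]; exact Nat.mod_lt _ hℓ) e

/-- A word moves a torus element of order dividing `ℓ` into the alcove. -/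
theorem exists_alcove_point {marks : List ℕ}
    (hmarks : ((List.ofFn fun i : Fin D.rank => -C.coord C.low i) ==
      marks.map fun m => ((m : ℕ) : ℤ)) = true) (hMpos : (marks.all fun m => 0 < m) = true)
    {c : Fin D.rank → kˣ} {b : List ℕ} (hb : Logs S ζ c b) :
    ∃ (u : List (Fin D.rank)) (a : List ℕ), a ∈ simplex marks S.ℓ ∧
      Logs S ζ (wordC D u c) (a.map (· % S.ℓ)) ∧ S.V a = S.V (a.map (· % S.ℓ)) := by
  obtain ⟨hok, hn, hR, -, hgcd⟩ := tableOK_parts hS
  have hℓ : 0 < S.ℓ := by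
    simp only [Sys.ok, Bool.and_eq_true, Nat.ble_eq] at hok
    exact hok.1.1.1
  rw [beq_iff_eq] at hmarks
  obtain ⟨e', he'⟩ : ∃ e' : ℤ, (S.ℓ : ℤ) ∣ e' * C.e - 1 := by
    refine ⟨Int.gcdB S.ℓ C.e, -Int.gcdA S.ℓ C.e, ?_⟩
    have h := Int.gcd_eq_gcd_ab S.ℓ C.e
    rw [hgcd] at h
    push_cast at h
    linear_combination -h
  set v : Fin D.rank → ℤ := fun b' => e' * ∑ i : Fin D.rank, C.mat b' i * (b.getD i 0 : ℤ) with hv
  have hvs : ∀ l : Fin D.rank, (S.ℓ : ℤ) ∣ ip D v (D.simple l) - (b.getD l 0 : ℤ) := by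
    intro l
    have h : ip D v (D.simple l) = e' * C.e * (b.getD l 0 : ℤ) := by
      simp only [ip, hv, Finset.mul_sum, Finset.sum_mul]
      rw [Finset.sum_comm]
      have e : ∀ i : Fin D.rank, ∑ x : Fin D.rank, e' * (C.mat x i * (b.getD i 0 : ℤ)) *
          D.cartan x (D.simple l) = e' * (b.getD i 0 : ℤ) * (if l = i then C.e else 0) := fun i => by
        have hI : (∑ a : Fin D.rank, C.mat a i * D.cartan a (D.simple l)) =
            if l = i then C.e else 0 := by
          let M : Matrix (Fin D.rank) (Fin D.rank) ℚ := Matrix.of fun a i => (C.mat a i : ℚ) / C.e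
          let N : Matrix (Fin D.rank) (Fin D.rank) ℚ :=
            Matrix.of fun i j => (D.cartan j (D.simple i) : ℚ)
          have he : (C.e : ℚ) ≠ 0 := by exact_mod_cast hC.e_pos.ne'
          have hMN : M * N = 1 := by
            ext a j
            simp only [M, N, Matrix.mul_apply, Matrix.of_apply, Matrix.one_apply]
            rw [Finset.sum_congr rfl fun i _ => div_mul_eq_mul_div _ _ _, ← Finset.sum_div]
            have := hC.inv a j
            rw [show (∑ i : Fin D.rank, (C.mat a i : ℚ) * (D.cartan j (D.simple i) : ℚ)) =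
              (((if a = j then C.e else 0) : ℤ) : ℚ) by rw [← this]; push_cast; rfl]
            split <;> simp [he]
          have hNM : (N * M) l i = (1 : Matrix (Fin D.rank) (Fin D.rank) ℚ) l i := by
            rw [mul_eq_one_comm.1 hMN]
          simp only [M, N, Matrix.mul_apply, Matrix.of_apply, Matrix.one_apply] at hNM
          rw [Finset.sum_congr rfl fun a _ => (mul_div_assoc _ _ _).symm, ← Finset.sum_div,
            div_eq_iff he] at hNM
          have h2 : ((∑ a : Fin D.rank, C.mat a i * D.cartan a (D.simple l) : ℤ) : ℚ) =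
              (((if l = i then C.e else 0) : ℤ) : ℚ) := by
            push_cast
            rw [Finset.sum_congr rfl fun a _ => mul_comm _ _, hNM]
            split <;> simp
          exact_mod_cast h2
        rw [← hI, Finset.mul_sum]
        exact Finset.sum_congr rfl fun x _ => by ring
      simp only [e, mul_ite, mul_zero, Finset.sum_ite_eq, Finset.mem_univ, if_true]
      ring
    rw [h]
    exact dvd_trans he' ⟨(b.getD l 0 : ℤ), by ring⟩
  have hval : ∀ s : Fin D.nroots, chiU c (s : ℕ) = ζ ^ ip D v (s : ℕ) := by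
    intro s
    rw [hb.2 s, ← zpow_natCast, zpow_iff hζ, V_getD hS hb.1, ip_eq_coord hF hC]
    refine dvd_sub_comm.1 ?_
    have h1 := Int.dvd_self_sub_emod (x := ∑ i : Fin D.rank, C.coord s i * (b.getD i 0 : ℤ))
      (m := (S.ℓ : ℤ))
    have h2 : (S.ℓ : ℤ) ∣ (∑ i : Fin D.rank, C.coord s i * ip D v (D.simple i)) -
        ∑ i : Fin D.rank, C.coord s i * (b.getD i 0 : ℤ) := by
      rw [← Finset.sum_sub_distrib]
      exact Finset.dvd_sum fun i _ => by rw [← mul_sub]; exact Dvd.dvd.mul_left (hvs i) _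
    simpa using dvd_add h2 h1
  have hHpos : 0 < C.e * C.h := by
    obtain ⟨h1, h2⟩ := hC.rho_spec (sRoot hF ⟨0, hF.rank_pos⟩)
    simp only [offs] at h1 h2
    split at h1 <;> simp_all <;> omega
  obtain ⟨u, μ, hu⟩ := exists_alcove hF hC (show (0 : ℤ) < S.ℓ by exact_mod_cast hℓ) _ rfl hHpos _ v
    rfl
  set z := Eigen.wordV D u v + (S.ℓ : ℤ) • μ with hz
  have hzval : ∀ s : Fin D.nroots, chiU c (s : ℕ) = ζ ^ ip D z (pWord hF u s : ℕ) := by
    intro s
    rw [hval, hz, ip_add, ip_wordV hF, ip_smul]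
    exact (zpow_iff hζ _ _).2 ⟨-ip D μ (pWord hF u s : ℕ), by ring⟩
  have hz0 : ∀ i : Fin D.rank, 0 ≤ ip D z (D.simple i) := fun i => by
    have := hu (sRoot hF i)
    rwa [show (sRoot hF i : ℕ) = D.simple i from rfl, offs,
      if_neg (not_lt.2 (hF.simple_pos i i.2)), mul_zero, add_zero] at this
  set a' : Fin D.rank → ℕ := fun i => (ip D z (D.simple i)).toNat with ha'
  have ha'v : ∀ i, ((a' i : ℕ) : ℤ) = ip D z (D.simple i) := fun i => Int.toNat_of_nonneg (hz0 i)
  have hzc : ∀ s : Fin D.nroots,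
      ip D z (s : ℕ) = ∑ i : Fin D.rank, C.coord s i * (a' i : ℤ) := fun s => by
    rw [ip_eq_coord hF hC]; simp only [ha'v]
  have hlen : marks.length = D.rank := by
    have := congrArg List.length hmarks
    simpa using this.symm
  have hmk : marks = List.ofFn fun i : Fin D.rank => marks.getD i 0 := by
    refine List.ext_getElem (by simp [hlen]) fun n h1 h2 => ?_
    simp [List.getD_eq_getElem, h1]
  have hmi : ∀ i : Fin D.rank, ((marks.getD i 0 : ℕ) : ℤ) = -C.coord C.low i := fun i => by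
    have := congrArg (fun l => l.getD (i : ℕ) (0 : ℤ)) hmarks
    simp only [List.getD_eq_getElem?_getD, List.getElem?_map, List.getElem?_ofFn, i.2,
      dite_true, Option.getD_some] at this
    rw [this, List.getD_eq_getElem?_getD]
    rcases h : marks[(i : ℕ)]? with _ | m <;> simp [h]
  have hsum : ∑ i : Fin D.rank, marks.getD i 0 * a' i ≤ S.ℓ := by
    have hlow : C.low < D.nroots := lt_of_lt_of_le hC.low_neg (by rw [hF.nroots_even]; omega)
    have h := hu ⟨C.low, hlow⟩
    rw [hzc] at h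
    simp only [offs, if_pos hC.low_neg, mul_one] at h
    have e : ((∑ i : Fin D.rank, marks.getD i 0 * a' i : ℕ) : ℤ) =
        -∑ i : Fin D.rank, C.coord C.low i * (a' i : ℤ) := by
      push_cast
      rw [← Finset.sum_neg_distrib]
      exact Finset.sum_congr rfl fun i _ => by rw [hmi]; ring
    omega
  have hmem : List.ofFn a' ∈ simplex marks S.ℓ := by
    rw [hmk]
    refine mem_simplex _ a' S.ℓ (fun i => ?_) hsum
    rw [List.all_eq_true] at hMpos
    have := hMpos (marks.getD i 0) (by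
      rw [List.getD_eq_getElem _ _ (by rw [hlen]; exact i.2)]; exact List.getElem_mem _)
    simpa using this
  have hav : S.Valid ((List.ofFn a').map (· % S.ℓ)) := ⟨by simp [hn], fun x hx => by
    obtain ⟨y, -, rfl⟩ := List.mem_map.1 hx; exact Nat.mod_lt _ hℓ⟩
  have hVa : S.V (List.ofFn a') = S.V ((List.ofFn a').map (· % S.ℓ)) := by
    simp only [Sys.V, vals]
    refine List.map_congr_left fun row hrow => ?_
    have hr : row.length = S.n := by
      obtain ⟨i, hi, rfl⟩ := List.getElem_of_mem hrow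
      rw [← List.getD_eq_getElem _ [] hi]; exact S.rowLen hok hi
    rw [valN_eq_sum hr (by simp [hn]), valN_eq_sum hr (by simp [hn]), Finset.sum_nat_mod]
    conv_rhs => rw [Finset.sum_nat_mod]
    refine congrArg (· % S.ℓ) (Finset.sum_congr rfl fun l _ => ?_)
    have hl : (l : ℕ) < D.rank := hn ▸ l.2
    simp [hl, Nat.mul_mod]
  refine ⟨u, List.ofFn a', hmem, ⟨hav, fun r => ?_⟩, hVa⟩
  obtain ⟨s, rfl⟩ := (pWord hF u).surjective r
  rw [chiU_wordC hF, hzval, ← zpow_natCast, zpow_iff hζ, V_getD hS hav, hzc]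
  have h2 : (S.ℓ : ℤ) ∣ (∑ i : Fin D.rank, C.coord (pWord hF u s) i * (a' i : ℤ)) -
      ∑ i : Fin D.rank, C.coord (pWord hF u s) i *
        ((((List.ofFn a').map (· % S.ℓ)).getD i 0 : ℕ) : ℤ) := by
    rw [← Finset.sum_sub_distrib]
    refine Finset.dvd_sum fun i _ => ?_
    rw [← mul_sub]
    refine Dvd.dvd.mul_left ?_ _
    simp only [List.getD_eq_getElem?_getD, List.getElem?_map, List.getElem?_ofFn, i.2, dite_true,
      Option.map_some, Option.getD_some, Int.natCast_emod, Fin.eta]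
    exact Int.dvd_self_sub_emod
  have h1 := Int.dvd_self_sub_emod (x := ∑ i : Fin D.rank, C.coord (pWord hF u s) i *
    ((((List.ofFn a').map (· % S.ℓ)).getD i 0 : ℕ) : ℤ)) (m := (S.ℓ : ℤ))
  simpa using dvd_add h2 h1

end Cfsg.Agent.AltSec.E7.Check
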