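import Cfsg.Agent.AltSec.E7.Data5

/-! The search for triples modulo 5. -/

set_option autoImplicit false
set_option maxRecDepth 100000
set_option Elab.async false

namespace Cfsg.Agent.AltSec.E7.Data5

open Cfsg.Agent.AltSec.E7.Check

theorem packed_ok : sys.ok = true ∧ sys.packedOK loc0 packed0 = true := by decide +kernel

theorem triple_fast : sys.check3F loc0 packed0 tripleMaps pairs0 pairReps0 = true := by decide +kernel

theorem triple_sub : pairReps0.all (pairs0.contains ·) = true := by decide +kernel

theorem triple_ok : sys.check3 loc0 tripleMaps pairs0 pairReps0 = true ∧ ∀ b ∈ pairs0, sys.Valid b :=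
  Sys.check3_of_fast packed_ok.1 packed_ok.2 (by decide) triple_sub triple_fast

end Cfsg.Agent.AltSec.E7.Data5
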