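import Cfsg.Agent.AltSec.E7.Apply
import Cfsg.Agent.AltSec.E7.Singles5
import Cfsg.Agent.AltSec.E7.Pairs5a
import Cfsg.Agent.AltSec.E7.Triples5
import Cfsg.Agent.Chev.WeylAll

/-!
The alternating group of degree 15 is no section of the groups of type E7 in characteristic other
than 5.
-/

set_option autoImplicit false
set_option maxRecDepth 100000

namespace Cfsg.Agent.AltSec.E7.Data5

open Cfsg.Lie Cfsg.Agent.Chev Cfsg.Agent.Chev.SS Cfsg.Agent.AltSec.E7 Cfsg.Agent.AltSec.E7.Check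
open scoped MatrixGroups

universe u

/-- A cycle. -/
def c0 : alternatingGroup (Fin 15) :=
  mkP [1, 2, 3, 4, 0, 5, 6, 7, 8, 9, 10, 11, 12, 13, 14]
    [4, 0, 1, 2, 3, 5, 6, 7, 8, 9, 10, 11, 12, 13, 14] (by decide) (by decide) (by decide +kernel)

/-- A cycle. -/
def c1 : alternatingGroup (Fin 15) :=
  mkP [0, 1, 2, 3, 4, 6, 7, 8, 9, 5, 10, 11, 12, 13, 14]
    [0, 1, 2, 3, 4, 9, 5, 6, 7, 8, 10, 11, 12, 13, 14] (by decide) (by decide) (by decide +kernel)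

/-- A cycle. -/
def c2 : alternatingGroup (Fin 15) :=
  mkP [0, 1, 2, 3, 4, 5, 6, 7, 8, 9, 11, 12, 13, 14, 10]
    [0, 1, 2, 3, 4, 5, 6, 7, 8, 9, 14, 10, 11, 12, 13] (by decide) (by decide) (by decide +kernel)

/-- The cycles. -/
def x : Fin 3 → alternatingGroup (Fin 15) := ![c0, c1, c2]

/-- A permutation normalising the cycles. -/
def g0 : alternatingGroup (Fin 15) :=
  mkP [0, 2, 4, 1, 3, 5, 7, 9, 6, 8, 10, 11, 12, 13, 14]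
    [0, 3, 1, 4, 2, 5, 8, 6, 9, 7, 10, 11, 12, 13, 14] (by decide) (by decide) (by decide +kernel)

/-- A permutation normalising the cycles. -/
def g1 : alternatingGroup (Fin 15) :=
  mkP [0, 1, 2, 3, 4, 5, 7, 9, 6, 8, 10, 12, 14, 11, 13]
    [0, 1, 2, 3, 4, 5, 8, 6, 9, 7, 10, 13, 11, 14, 12] (by decide) (by decide) (by decide +kernel)

/-- A permutation normalising the cycles. -/
def g2 : alternatingGroup (Fin 15) :=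
  mkP [0, 2, 4, 1, 3, 5, 6, 7, 8, 9, 10, 12, 14, 11, 13]
    [0, 3, 1, 4, 2, 5, 6, 7, 8, 9, 10, 13, 11, 14, 12] (by decide) (by decide) (by decide +kernel)

/-- A permutation normalising the cycles. -/
def g3 : alternatingGroup (Fin 15) :=
  mkP [5, 6, 7, 8, 9, 10, 11, 12, 13, 14, 0, 1, 2, 3, 4]
    [10, 11, 12, 13, 14, 0, 1, 2, 3, 4, 5, 6, 7, 8, 9] (by decide) (by decide) (by decide +kernel)

/-- A permutation normalising the cycles. -/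
def g4 : alternatingGroup (Fin 15) :=
  mkP [5, 6, 7, 8, 9, 0, 1, 2, 3, 4, 10, 12, 14, 11, 13]
    [5, 6, 7, 8, 9, 0, 1, 2, 3, 4, 10, 13, 11, 14, 12] (by decide) (by decide) (by decide +kernel)

/-- A permutation normalising the cycles. -/
def g5 : alternatingGroup (Fin 15) :=
  mkP [10, 11, 12, 13, 14, 5, 7, 9, 6, 8, 0, 1, 2, 3, 4]
    [10, 11, 12, 13, 14, 5, 8, 6, 9, 7, 0, 1, 2, 3, 4] (by decide) (by decide) (by decide +kernel)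

def elems : List (List ℕ) :=
  [[0, 1, 2, 3, 4, 5, 6, 7, 8, 9, 10, 11, 12, 13, 14], [0, 2, 4, 1, 3, 5, 7, 9, 6, 8, 10, 11, 12, 13, 14], [0, 1, 2, 3, 4, 5, 7, 9, 6, 8, 10, 12, 14, 11, 13], [0, 2, 4, 1, 3, 5, 6, 7, 8, 9, 10, 12, 14, 11, 13], [5, 6, 7, 8, 9, 10, 11, 12, 13, 14, 0, 1, 2, 3, 4], [5, 6, 7, 8, 9, 0, 1, 2, 3, 4, 10, 12, 14, 11, 13], [10, 11, 12, 13, 14, 5, 7, 9, 6, 8, 0, 1, 2, 3, 4], [0, 4, 3, 2, 1, 5, 9, 8, 7, 6, 10, 11, 12, 13, 14], [0, 2, 4, 1, 3, 5, 9, 8, 7, 6, 10, 12, 14, 11, 13], [0, 4, 3, 2, 1, 5, 7, 9, 6, 8, 10, 12, 14, 11, 13], [5, 7, 9, 6, 8, 10, 12, 14, 11, 13, 0, 1, 2, 3, 4], [5, 7, 9, 6, 8, 0, 2, 4, 1, 3, 10, 12, 14, 11, 13], [10, 12, 14, 11, 13, 5, 9, 8, 7, 6, 0, 1, 2, 3, 4], [0, 1, 2, 3, 4, 5, 9, 8, 7, 6, 10, 14, 13, 12, 11], [0, 2, 4, 1, 3, 5, 7, 9, 6, 8, 10, 14, 13, 12,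 11], [5, 6, 7, 8, 9, 10, 12, 14, 11, 13, 0, 2, 4, 1, 3], [5, 6, 7, 8, 9, 0, 2, 4, 1, 3, 10, 14, 13, 12, 11], [10, 11, 12, 13, 14, 5, 9, 8, 7, 6, 0, 2, 4, 1, 3], [0, 4, 3, 2, 1, 5, 6, 7, 8, 9, 10, 14, 13, 12, 11], [5, 7, 9, 6, 8, 10, 11, 12, 13, 14, 0, 2, 4, 1, 3], [5, 7, 9, 6, 8, 0, 1, 2, 3, 4, 10, 14, 13, 12, 11], [10, 12, 14, 11, 13, 5, 7, 9, 6, 8, 0, 2, 4, 1, 3], [10, 11, 12, 13, 14, 0, 1, 2, 3, 4, 5, 6, 7, 8, 9], [0, 1, 2, 3, 4, 10, 12, 14, 11, 13, 5, 6, 7, 8, 9], [5, 7, 9, 6, 8, 0, 1, 2, 3, 4, 10, 11, 12, 13, 14], [10, 11, 12, 13, 14, 5, 6, 7, 8, 9, 0, 2, 4, 1, 3], [0, 1, 2, 3, 4, 5, 6, 7, 8, 9, 10, 14, 13, 12, 11], [10, 12, 14, 11, 13, 0, 2, 4, 1, 3, 5, 6, 7, 8, 9], [0, 1, 2, 3, 4, 5, 9, 8, 7, 6, 10, 11, 12, 13, 14], [0, 3, 1, 4, 2, 5, 8, 6, 9, 7, 10, 11, 12, 13, 14], [0, 4, 3, 2, 1, 5, 8, 6,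 9, 7, 10, 12, 14, 11, 13], [0, 3, 1, 4, 2, 5, 9, 8, 7, 6, 10, 12, 14, 11, 13], [5, 9, 8, 7, 6, 10, 14, 13, 12, 11, 0, 1, 2, 3, 4], [5, 9, 8, 7, 6, 0, 4, 3, 2, 1, 10, 12, 14, 11, 13], [10, 14, 13, 12, 11, 5, 8, 6, 9, 7, 0, 1, 2, 3, 4], [0, 2, 4, 1, 3, 5, 8, 6, 9, 7, 10, 14, 13, 12, 11], [0, 4, 3, 2, 1, 5, 9, 8, 7, 6, 10, 14, 13, 12, 11], [5, 7, 9, 6, 8, 10, 14, 13, 12, 11, 0, 2, 4, 1, 3], [5, 7, 9, 6, 8, 0, 4, 3, 2, 1, 10, 14, 13, 12, 11], [10, 12, 14, 11, 13, 5, 8, 6, 9, 7, 0, 2, 4, 1, 3], [0, 3, 1, 4, 2, 5, 7, 9, 6, 8, 10, 14, 13, 12, 11], [5, 9, 8, 7, 6, 10, 12, 14, 11, 13, 0, 2, 4, 1, 3], [5, 9, 8, 7, 6, 0, 2, 4, 1, 3, 10, 14, 13, 12, 11], [10, 14, 13, 12, 11, 5, 9, 8, 7, 6, 0, 2, 4, 1, 3], [0, 2, 4, 1, 3, 10, 14, 13, 12, 11, 5, 6, 7, 8, 9], [5, 9, 8, 7, 6, 0, 2, 4, 1, 3, 10, 11, 12, 13, 14], [10,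 14, 13, 12, 11, 0, 4, 3, 2, 1, 5, 6, 7, 8, 9], [0, 2, 4, 1, 3, 5, 8, 6, 9, 7, 10, 11, 12, 13, 14], [0, 1, 2, 3, 4, 5, 8, 6, 9, 7, 10, 13, 11, 14, 12], [0, 2, 4, 1, 3, 5, 9, 8, 7, 6, 10, 13, 11, 14, 12], [5, 6, 7, 8, 9, 10, 14, 13, 12, 11, 0, 4, 3, 2, 1], [5, 6, 7, 8, 9, 0, 4, 3, 2, 1, 10, 13, 11, 14, 12], [10, 11, 12, 13, 14, 5, 8, 6, 9, 7, 0, 4, 3, 2, 1], [0, 4, 3, 2, 1, 5, 7, 9, 6, 8, 10, 13, 11, 14, 12], [5, 7, 9, 6, 8, 10, 12, 14, 11, 13, 0, 4, 3, 2, 1], [5, 7, 9, 6, 8, 0, 2, 4, 1, 3, 10, 13, 11, 14, 12], [10, 12, 14, 11, 13, 5, 9, 8, 7, 6, 0, 4, 3, 2, 1], [10, 11, 12, 13, 14, 0, 2, 4, 1, 3, 5, 7, 9, 6, 8], [0, 1, 2, 3, 4, 10, 14, 13, 12, 11, 5, 7, 9, 6, 8], [10, 11, 12, 13, 14, 5, 7, 9, 6, 8, 0, 4, 3, 2, 1], [0, 1, 2, 3, 4, 5, 7, 9, 6, 8, 10, 13, 11, 14, 12], [10, 12, 14, 11, 13, 0, 4, 3, 2,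 1, 5, 7, 9, 6, 8], [0, 1, 2, 3, 4, 5, 8, 6, 9, 7, 10, 12, 14, 11, 13], [0, 3, 1, 4, 2, 5, 6, 7, 8, 9, 10, 13, 11, 14, 12], [5, 9, 8, 7, 6, 10, 11, 12, 13, 14, 0, 4, 3, 2, 1], [5, 9, 8, 7, 6, 0, 1, 2, 3, 4, 10, 13, 11, 14, 12], [10, 14, 13, 12, 11, 5, 7, 9, 6, 8, 0, 4, 3, 2, 1], [10, 12, 14, 11, 13, 0, 1, 2, 3, 4, 5, 7, 9, 6, 8], [0, 2, 4, 1, 3, 10, 12, 14, 11, 13, 5, 7, 9, 6, 8], [5, 9, 8, 7, 6, 0, 1, 2, 3, 4, 10, 12, 14, 11, 13], [10, 12, 14, 11, 13, 5, 6, 7, 8, 9, 0, 4, 3, 2, 1], [0, 2, 4, 1, 3, 5, 6, 7, 8, 9, 10, 13, 11, 14, 12], [10, 14, 13, 12, 11, 0, 2, 4, 1, 3, 5, 7, 9, 6, 8], [10, 12, 14, 11, 13, 5, 6, 7, 8, 9, 0, 1, 2, 3, 4], [0, 1, 2, 3, 4, 10, 11, 12, 13, 14, 5, 7, 9, 6, 8], [5, 6, 7, 8, 9, 0, 2, 4, 1, 3, 10, 11, 12, 13, 14], [5, 6, 7, 8, 9, 10, 14, 13, 12, 11, 0, 1, 2, 3, 4], [5, 9, 8,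 7, 6, 10, 11, 12, 13, 14, 0, 1, 2, 3, 4], [5, 6, 7, 8, 9, 10, 11, 12, 13, 14, 0, 4, 3, 2, 1], [5, 6, 7, 8, 9, 0, 1, 2, 3, 4, 10, 13, 11, 14, 12], [10, 14, 13, 12, 11, 5, 7, 9, 6, 8, 0, 1, 2, 3, 4], [5, 6, 7, 8, 9, 0, 4, 3, 2, 1, 10, 12, 14, 11, 13], [10, 11, 12, 13, 14, 5, 8, 6, 9, 7, 0, 1, 2, 3, 4], [0, 3, 1, 4, 2, 5, 6, 7, 8, 9, 10, 12, 14, 11, 13], [5, 8, 6, 9, 7, 10, 13, 11, 14, 12, 0, 1, 2, 3, 4], [5, 8, 6, 9, 7, 0, 3, 1, 4, 2, 10, 12, 14, 11, 13], [10, 13, 11, 14, 12, 5, 6, 7, 8, 9, 0, 1, 2, 3, 4], [0, 3, 1, 4, 2, 5, 8, 6, 9, 7, 10, 14, 13, 12, 11], [5, 9, 8, 7, 6, 10, 13, 11, 14, 12, 0, 2, 4, 1, 3], [5, 9, 8, 7, 6, 0, 3, 1, 4, 2, 10, 14, 13, 12, 11], [10, 14, 13, 12, 11, 5, 6, 7, 8, 9, 0, 2, 4, 1, 3], [5, 8, 6, 9, 7, 10, 14, 13, 12, 11, 0, 2, 4, 1, 3], [5, 8, 6, 9, 7, 0, 4, 3, 2, 1, 10, 14,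 13, 12, 11], [10, 13, 11, 14, 12, 5, 8, 6, 9, 7, 0, 2, 4, 1, 3], [0, 4, 3, 2, 1, 10, 13, 11, 14, 12, 5, 6, 7, 8, 9], [5, 8, 6, 9, 7, 0, 4, 3, 2, 1, 10, 11, 12, 13, 14], [10, 13, 11, 14, 12, 0, 3, 1, 4, 2, 5, 6, 7, 8, 9], [0, 4, 3, 2, 1, 5, 6, 7, 8, 9, 10, 11, 12, 13, 14], [0, 4, 3, 2, 1, 5, 8, 6, 9, 7, 10, 13, 11, 14, 12], [5, 7, 9, 6, 8, 10, 13, 11, 14, 12, 0, 4, 3, 2, 1], [5, 7, 9, 6, 8, 0, 3, 1, 4, 2, 10, 13, 11, 14, 12], [0, 3, 1, 4, 2, 5, 9, 8, 7, 6, 10, 13, 11, 14, 12], [5, 9, 8, 7, 6, 10, 14, 13, 12, 11, 0, 4, 3, 2, 1], [5, 9, 8, 7, 6, 0, 4, 3, 2, 1, 10, 13, 11, 14, 12], [10, 14, 13, 12, 11, 5, 8, 6, 9, 7, 0, 4, 3, 2, 1], [0, 2, 4, 1, 3, 10, 13, 11, 14, 12, 5, 7, 9, 6, 8], [10, 14, 13, 12, 11, 0, 3, 1, 4, 2, 5, 7, 9, 6, 8], [5, 8, 6, 9, 7, 10, 12, 14, 11, 13, 0, 4, 3, 2, 1], [5, 8, 6, 9, 7,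 0, 2, 4, 1, 3, 10, 13, 11, 14, 12], [10, 13, 11, 14, 12, 5, 9, 8, 7, 6, 0, 4, 3, 2, 1], [0, 4, 3, 2, 1, 10, 14, 13, 12, 11, 5, 7, 9, 6, 8], [5, 8, 6, 9, 7, 0, 2, 4, 1, 3, 10, 12, 14, 11, 13], [10, 13, 11, 14, 12, 0, 4, 3, 2, 1, 5, 7, 9, 6, 8], [5, 7, 9, 6, 8, 0, 4, 3, 2, 1, 10, 11, 12, 13, 14], [5, 7, 9, 6, 8, 10, 13, 11, 14, 12, 0, 1, 2, 3, 4], [5, 8, 6, 9, 7, 10, 12, 14, 11, 13, 0, 1, 2, 3, 4], [10, 13, 11, 14, 12, 5, 9, 8, 7, 6, 0, 1, 2, 3, 4], [5, 7, 9, 6, 8, 0, 3, 1, 4, 2, 10, 12, 14, 11, 13], [5, 6, 7, 8, 9, 10, 13, 11, 14, 12, 0, 3, 1, 4, 2], [5, 6, 7, 8, 9, 0, 3, 1, 4, 2, 10, 11, 12, 13, 14], [10, 11, 12, 13, 14, 5, 6, 7, 8, 9, 0, 3, 1, 4, 2], [5, 7, 9, 6, 8, 10, 14, 13, 12, 11, 0, 3, 1, 4, 2], [10, 12, 14, 11, 13, 5, 8, 6, 9, 7, 0, 3, 1, 4, 2], [10, 11, 12, 13, 14, 0, 4, 3, 2, 1, 5, 9, 8,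 7, 6], [0, 1, 2, 3, 4, 10, 13, 11, 14, 12, 5, 9, 8, 7, 6], [10, 11, 12, 13, 14, 5, 9, 8, 7, 6, 0, 3, 1, 4, 2], [10, 12, 14, 11, 13, 0, 3, 1, 4, 2, 5, 9, 8, 7, 6], [0, 3, 1, 4, 2, 5, 7, 9, 6, 8, 10, 11, 12, 13, 14], [5, 9, 8, 7, 6, 10, 12, 14, 11, 13, 0, 3, 1, 4, 2], [10, 14, 13, 12, 11, 5, 9, 8, 7, 6, 0, 3, 1, 4, 2], [10, 12, 14, 11, 13, 0, 2, 4, 1, 3, 5, 9, 8, 7, 6], [0, 2, 4, 1, 3, 10, 14, 13, 12, 11, 5, 9, 8, 7, 6], [10, 12, 14, 11, 13, 5, 7, 9, 6, 8, 0, 3, 1, 4, 2], [10, 14, 13, 12, 11, 0, 4, 3, 2, 1, 5, 9, 8, 7, 6], [0, 1, 2, 3, 4, 10, 12, 14, 11, 13, 5, 9, 8, 7, 6], [5, 6, 7, 8, 9, 10, 13, 11, 14, 12, 0, 2, 4, 1, 3], [5, 6, 7, 8, 9, 10, 12, 14, 11, 13, 0, 3, 1, 4, 2], [5, 6, 7, 8, 9, 0, 3, 1, 4, 2, 10, 14, 13, 12, 11], [5, 8, 6, 9, 7, 10, 11, 12, 13, 14, 0, 3, 1, 4, 2], [5, 8, 6, 9, 7, 0, 1,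 2, 3, 4, 10, 11, 12, 13, 14], [10, 13, 11, 14, 12, 5, 7, 9, 6, 8, 0, 3, 1, 4, 2], [10, 14, 13, 12, 11, 0, 1, 2, 3, 4, 5, 9, 8, 7, 6], [0, 4, 3, 2, 1, 10, 12, 14, 11, 13, 5, 9, 8, 7, 6], [5, 8, 6, 9, 7, 0, 1, 2, 3, 4, 10, 14, 13, 12, 11], [10, 14, 13, 12, 11, 5, 6, 7, 8, 9, 0, 3, 1, 4, 2], [10, 13, 11, 14, 12, 0, 2, 4, 1, 3, 5, 9, 8, 7, 6], [0, 2, 4, 1, 3, 10, 11, 12, 13, 14, 5, 9, 8, 7, 6], [5, 8, 6, 9, 7, 10, 11, 12, 13, 14, 0, 2, 4, 1, 3], [5, 7, 9, 6, 8, 10, 11, 12, 13, 14, 0, 3, 1, 4, 2], [10, 13, 11, 14, 12, 5, 7, 9, 6, 8, 0, 2, 4, 1, 3], [0, 2, 4, 1, 3, 10, 11, 12, 13, 14, 5, 6, 7, 8, 9], [10, 14, 13, 12, 11, 0, 1, 2, 3, 4, 5, 6, 7, 8, 9], [10, 11, 12, 13, 14, 0, 1, 2, 3, 4, 5, 9, 8, 7, 6], [10, 11, 12, 13, 14, 0, 4, 3, 2, 1, 5, 6, 7, 8, 9], [0, 1, 2, 3, 4, 10, 13, 11, 14, 12, 5, 6, 7, 8, 9],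 [0, 4, 3, 2, 1, 10, 12, 14, 11, 13, 5, 6, 7, 8, 9], [10, 13, 11, 14, 12, 0, 2, 4, 1, 3, 5, 6, 7, 8, 9], [10, 12, 14, 11, 13, 0, 3, 1, 4, 2, 5, 6, 7, 8, 9], [0, 3, 1, 4, 2, 10, 11, 12, 13, 14, 5, 6, 7, 8, 9], [5, 8, 6, 9, 7, 10, 13, 11, 14, 12, 0, 4, 3, 2, 1], [5, 8, 6, 9, 7, 0, 3, 1, 4, 2, 10, 13, 11, 14, 12], [10, 13, 11, 14, 12, 5, 6, 7, 8, 9, 0, 4, 3, 2, 1], [0, 4, 3, 2, 1, 10, 11, 12, 13, 14, 5, 7, 9, 6, 8], [10, 13, 11, 14, 12, 0, 1, 2, 3, 4, 5, 7, 9, 6, 8], [0, 3, 1, 4, 2, 10, 13, 11, 14, 12, 5, 7, 9, 6, 8], [10, 11, 12, 13, 14, 0, 3, 1, 4, 2, 5, 7, 9, 6, 8], [5, 9, 8, 7, 6, 0, 3, 1, 4, 2, 10, 11, 12, 13, 14], [5, 9, 8, 7, 6, 10, 13, 11, 14, 12, 0, 3, 1, 4, 2], [5, 8, 6, 9, 7, 10, 14, 13, 12, 11, 0, 3, 1, 4, 2], [10, 13, 11, 14, 12, 5, 8, 6, 9, 7, 0, 3, 1, 4, 2], [0, 4, 3, 2, 1, 10, 13, 11,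 14, 12, 5, 9, 8, 7, 6], [10, 13, 11, 14, 12, 0, 3, 1, 4, 2, 5, 9, 8, 7, 6], [0, 3, 1, 4, 2, 10, 14, 13, 12, 11, 5, 9, 8, 7, 6], [0, 3, 1, 4, 2, 10, 14, 13, 12, 11, 5, 6, 7, 8, 9], [10, 11, 12, 13, 14, 0, 3, 1, 4, 2, 5, 8, 6, 9, 7], [0, 1, 2, 3, 4, 10, 11, 12, 13, 14, 5, 8, 6, 9, 7], [10, 12, 14, 11, 13, 0, 1, 2, 3, 4, 5, 8, 6, 9, 7], [10, 12, 14, 11, 13, 0, 4, 3, 2, 1, 5, 8, 6, 9, 7], [0, 2, 4, 1, 3, 10, 13, 11, 14, 12, 5, 8, 6, 9, 7], [10, 14, 13, 12, 11, 0, 3, 1, 4, 2, 5, 8, 6, 9, 7], [0, 1, 2, 3, 4, 10, 14, 13, 12, 11, 5, 8, 6, 9, 7], [10, 14, 13, 12, 11, 0, 2, 4, 1, 3, 5, 8, 6, 9, 7], [0, 4, 3, 2, 1, 10, 14, 13, 12, 11, 5, 8, 6, 9, 7], [10, 13, 11, 14, 12, 0, 4, 3, 2, 1, 5, 8, 6, 9, 7], [0, 2, 4, 1, 3, 10, 12, 14, 11, 13, 5, 8, 6, 9, 7], [10, 11, 12, 13, 14, 0, 2, 4, 1, 3, 5, 8, 6, 9, 7], [10,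 13, 11, 14, 12, 0, 1, 2, 3, 4, 5, 8, 6, 9, 7], [0, 3, 1, 4, 2, 10, 12, 14, 11, 13, 5, 8, 6, 9, 7], [0, 4, 3, 2, 1, 10, 11, 12, 13, 14, 5, 8, 6, 9, 7], [0, 3, 1, 4, 2, 10, 12, 14, 11, 13, 5, 7, 9, 6, 8], [0, 3, 1, 4, 2, 10, 11, 12, 13, 14, 5, 9, 8, 7, 6], [0, 3, 1, 4, 2, 10, 13, 11, 14, 12, 5, 8, 6, 9, 7]]

/-- The generators of the normaliser. -/
def gens : List (alternatingGroup (Fin 15)) := [g0, g1, g2, g3, g4, g5]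

theorem coprime_gens : Nat.Coprime 5 (Nat.card (Subgroup.closure {y | y ∈ gens})) :=
  haveI : Fact (Nat.Prime 5) := ⟨by norm_num⟩
  coprime_of_list gens elems (by decide +kernel) (by decide +kernel) (by decide +kernel)

theorem hmon : ∀ r ∈ Subgroup.closure {y | y ∈ gens}, ∀ i, ∃ j, ∃ a : ℕ, r * x i * r⁻¹ = x j ^ a :=
  monomial_of_gens gens x (monomial_of_lists (ℓ := 5) gens x (by decide +kernel))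

theorem x_comm : ∀ i j, x i * x j = x j * x i := by decide +kernel

theorem x_pow : ∀ i, x i ^ 5 = 1 := by decide +kernel

theorem x_ne : ∀ i, x i ≠ 1 := by decide +kernel

theorem x_ord (i : Fin 3) : orderOf (x i) = 5 :=
  haveI : Fact (Nat.Prime 5) := ⟨by norm_num⟩
  orderOf_eq_prime (x_pow i) (x_ne i)

theorem x_indep_dec : ∀ i j, i ≠ j → ∀ a b : Fin 5, x i ^ (a : ℕ) = x j ^ (b : ℕ) → a = 0 ∧ b = 0 := by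
  decide +kernel

theorem x_indep (i j : Fin 3) (a b : ℕ) (h : x i ^ a = x j ^ b) : i = j ∨ (5 ∣ a ∧ 5 ∣ b) := by
  refine or_iff_not_imp_left.2 fun hij => ?_
  rw [pow_eq_pow_mod a (x_pow i), pow_eq_pow_mod b (x_pow j)] at h
  obtain ⟨ha, hb⟩ := x_indep_dec i j hij ⟨a % 5, Nat.mod_lt _ (by norm_num)⟩
    ⟨b % 5, Nat.mod_lt _ (by norm_num)⟩ h
  exact ⟨Nat.dvd_of_mod_eq_zero (congrArg Fin.val ha), Nat.dvd_of_mod_eq_zero (congrArg Fin.val hb)⟩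

/-- The cycles generate an elementary abelian group. -/
noncomputable def E : Subgroup (alternatingGroup (Fin 15)) := Subgroup.closure (Set.range x)

theorem x_mem (i : Fin 3) : x i ∈ E := Subgroup.subset_closure (Set.mem_range_self i)

theorem word_fixed : chkOrd chevE7 e7Cert fixWord 5 = true := by decide +kernel

theorem fixMap_eq : fixMap = List.ofFn fun i : Fin chevE7.rank =>
    sys.rows.getD (img chevE7 fixWord (chevE7.simple i)) [] := by decide +kernel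

theorem marks_ok : ((List.ofFn fun i : Fin chevE7.rank => -alcoveE7.coord alcoveE7.low i) ==
    marks.map fun m => ((m : ℕ) : ℤ)) = true := by decide +kernel

theorem marks_pos : (marks.all fun m => 0 < m) = true := by decide

/-- The word of the fixed point search. -/
def fixWord' : List (Fin chevE7.rank) := fixWord.map fun i => Fin.ofNat 7 i

theorem fixWord_val : fixWord'.map Fin.val = fixWord := by decide +kernel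

theorem card_weyl : Nat.card ↥(weyl facts_chevE7.{u}) = 2903040 :=
  (Cfsg.Agent.Chev.card_weyl e7_weylChecks facts_chevE7).trans e7_weyl_size

theorem diag_split1 : ∀ a b c : Fin 5, g0 * (x 0 ^ (a : ℕ) * x 1 ^ (b : ℕ) * x 2 ^ (c : ℕ)) * g0⁻¹ *
    (x 0 ^ (a : ℕ) * x 1 ^ (b : ℕ) * x 2 ^ (c : ℕ))⁻¹ = x 0 ^ (a : ℕ) * x 1 ^ (b : ℕ) := by
  decide +kernel

theorem diag_split2 : ∀ a b : Fin 5, g2 * (x 0 ^ (a : ℕ) * x 1 ^ (b : ℕ)) * g2⁻¹ *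
    (x 0 ^ (a : ℕ) * x 1 ^ (b : ℕ))⁻¹ = x 0 ^ (a : ℕ) := by decide +kernel

theorem cyc_x : g3 * x 0 * g3⁻¹ = x 1 ∧ g3 * x 1 * g3⁻¹ = x 2 ∧ g3 * x 2 * g3⁻¹ = x 0 := by
  decide +kernel

theorem diag_x : (g0 * x 0 * g0⁻¹ = x 0 ^ 2 ∧ g0 * x 1 * g0⁻¹ = x 1 ^ 2 ∧ g0 * x 2 * g0⁻¹ = x 2 ^ 1) ∧
    (g1 * x 0 * g1⁻¹ = x 0 ^ 1 ∧ g1 * x 1 * g1⁻¹ = x 1 ^ 2 ∧ g1 * x 2 * g1⁻¹ = x 2 ^ 2) ∧
    (g4 * x 0 * g4⁻¹ = x 1 ^ 1 ∧ g4 * x 1 * g4⁻¹ = x 0 ^ 1 ∧ g4 * x 2 * g4⁻¹ = x 2 ^ 2) := by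
  decide +kernel

theorem scal_pair : ∀ i l : Fin 3, ∃ r ∈ gens, r * x i * r⁻¹ = x i ^ 2 ∧ r * x l * r⁻¹ = x l ^ 2 := by
  decide +kernel

theorem pairs_rel : ∀ i ∈ [(1 : Fin 3), 2], ∀ m ∈ pairMaps, ∃ r ∈ gens,
    ((m.2.1 = 0 ∧ r * x 0 * r⁻¹ = x 0 ^ m.1) ∨ (m.1 = 0 ∧ r * x 0 * r⁻¹ = x i ^ m.2.1)) ∧
    ((m.2.2.2 = 0 ∧ r * x i * r⁻¹ = x 0 ^ m.2.2.1) ∨
      (m.2.2.1 = 0 ∧ r * x i * r⁻¹ = x i ^ m.2.2.2)) := by decide +kernel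

theorem no_rel3 : ∀ a b c : Fin 5, x 0 ^ (a : ℕ) * x 1 ^ (b : ℕ) * x 2 ^ (c : ℕ) = 1 →
    a = 0 ∧ b = 0 ∧ c = 0 := by decide +kernel

theorem no_pair : ∀ i ∈ [(1 : Fin 3), 2], ∀ s : Fin 5, x i ^ 1 * x 0 ^ (4 * (s : ℕ)) ≠ 1 := by
  decide +kernel

theorem no_triple : ∀ s t : Fin 5, x 2 ^ 1 * x 0 ^ (4 * (s : ℕ)) * x 1 ^ (4 * (t : ℕ)) ≠ 1 := by
  decide +kernel

theorem E_repr {y : alternatingGroup (Fin 15)} (hy : y ∈ E) :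
    ∃ a b c : Fin 5, y = x 0 ^ (a : ℕ) * x 1 ^ (b : ℕ) * x 2 ^ (c : ℕ) := by
  suffices ∃ a b c : ℕ, y = x 0 ^ a * x 1 ^ b * x 2 ^ c by
    obtain ⟨a, b, c, h⟩ := this
    exact ⟨⟨a % 5, Nat.mod_lt _ (by norm_num)⟩, ⟨b % 5, Nat.mod_lt _ (by norm_num)⟩,
      ⟨c % 5, Nat.mod_lt _ (by norm_num)⟩,
      by rw [h, pow_eq_pow_mod a (x_pow 0), pow_eq_pow_mod b (x_pow 1), pow_eq_pow_mod c (x_pow 2)]⟩
  have hC : ∀ i j, ∀ a b : ℕ, Commute (x i ^ a) (x j ^ b) := fun i j a b =>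
    Commute.pow_pow (x_comm i j) a b
  induction hy using Subgroup.closure_induction with
  | mem a ha =>
    obtain ⟨i, rfl⟩ := ha
    fin_cases i
    · exact ⟨1, 0, 0, by simp⟩
    · exact ⟨0, 1, 0, by simp⟩
    · exact ⟨0, 0, 1, by simp⟩
  | one => exact ⟨0, 0, 0, by simp⟩
  | mul u v _ _ h1 h2 =>
    obtain ⟨a, b, c, rfl⟩ := h1
    obtain ⟨d, e, f, rfl⟩ := h2
    refine ⟨a + d, b + e, c + f, ?_⟩
    rw [(Commute.mul_right (hC 2 0 c d) (hC 2 1 c e)).mul_mul_mul_comm,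
      (hC 1 0 b d).mul_mul_mul_comm, pow_add, pow_add, pow_add]
  | inv u _ h =>
    obtain ⟨a, b, c, rfl⟩ := h
    refine ⟨4 * a, 4 * b, 4 * c, ?_⟩
    rw [inv_eq_iff_mul_eq_one, (Commute.mul_right (hC 2 0 c (4 * a)) (hC 2 1 c (4 * b))).mul_mul_mul_comm,
      (hC 1 0 b (4 * a)).mul_mul_mul_comm, ← pow_add, ← pow_add, ← pow_add,
      show a + 4 * a = 5 * a by ring, show b + 4 * b = 5 * b by ring, show c + 4 * c = 5 * c by ring,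
      pow_mul, pow_mul, pow_mul, x_pow, x_pow, x_pow, one_pow, one_pow, one_pow, one_mul, one_mul]

theorem irred : Lift.Irred E (Subgroup.closure {y | y ∈ gens}) := by
  intro S hS hinv
  by_cases hbot : S = ⊥
  · exact Or.inl hbot
  right
  have hg : ∀ g ∈ gens, ∀ y ∈ S, g * y * g⁻¹ ∈ S := fun g hg =>
    hinv g (Subgroup.subset_closure hg)
  obtain ⟨y, hy, hy1⟩ := (Subgroup.ne_bot_iff_exists_ne_one.1 hbot).elim fun y hy =>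
    (⟨y, y.2, fun h => hy (Subtype.ext h)⟩ : ∃ z, z ∈ S ∧ z ≠ 1)
  obtain ⟨a, b, c, e⟩ := E_repr (hS hy)
  have h5 : Nat.Prime 5 := by norm_num
  have hnd : ∀ c : Fin 5, (c : ℕ) ≠ 0 → ¬ 5 ∣ (c : ℕ) := fun c h hd => by
    have := c.2; omega
  have step : ∀ i j, g3 * x i * g3⁻¹ = x j → x i ∈ S → x j ∈ S := fun i j h hi =>
    h ▸ hg g3 (by simp [gens]) _ hi
  have hx : ∃ i, x i ∈ S := by
    have h := mul_mem (hg g0 (by simp [gens]) y hy) (inv_mem hy)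
    rw [e, diag_split1] at h
    have h' := mul_mem (hg g2 (by simp [gens]) _ h) (inv_mem h)
    rw [diag_split2] at h'
    by_cases ha : (a : ℕ) = 0
    · rw [ha, pow_zero, one_mul] at h
      by_cases hb : (b : ℕ) = 0
      · have hc : (c : ℕ) ≠ 0 := fun h => hy1 (by rw [e, ha, hb, h]; simp)
        refine ⟨2, mem_of_pow_mem h5 (x_pow 2) (hnd c hc) ?_⟩
        rw [e, ha, hb, pow_zero, pow_zero, one_mul, one_mul] at hy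
        exact hy
      · exact ⟨1, mem_of_pow_mem h5 (x_pow 1) (hnd b hb) h⟩
    · exact ⟨0, mem_of_pow_mem h5 (x_pow 0) (hnd a ha) h'⟩
  refine le_antisymm hS ((Subgroup.closure_le _).2 ?_)
  rintro _ ⟨i, rfl⟩
  obtain ⟨j, hj⟩ := hx
  have s0 := step 0 1 cyc_x.1
  have s1 := step 1 2 cyc_x.2.1
  have s2 := step 2 0 cyc_x.2.2
  fin_cases j <;> fin_cases i <;>
    first
      | exact hj
      | exact s0 hj | exact s1 hj | exact s2 hj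
      | exact s1 (s0 hj) | exact s2 (s1 hj) | exact s0 (s2 hj)

/-- No section isomorphic to the alternating group of degree 15. -/
theorem no_alt15 {F : Type u} [Field F] [Finite F] (p : ℕ) [Fact p.Prime] [CharP F p] (hp : p ≠ 5)
    (H : Subgroup ↥(chevE7.group F)) (φ : ↥H →* alternatingGroup (Fin 15))
    (hφ : Function.Surjective φ) : False := by
  have h5 : sys.ℓ.Prime := by show Nat.Prime 5; norm_num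
  have hW : ¬ sys.ℓ * sys.ℓ ∣ Nat.card ↥(weyl facts_chevE7.{u}) := by
    rw [card_weyl]; decide
  have h0 : orderOf (pWord facts_chevE7.{u} fixWord') = sys.ℓ :=
    orderOf_pWord e7_checks facts_chevE7 (by rw [fixWord_val]; exact word_fixed)
  have hA : fixMap = List.ofFn fun i : Fin chevE7.rank =>
      sys.rows.getD (img chevE7 (fixWord'.map Fin.val) (chevE7.simple i)) [] := by
    rw [fixWord_val]; exact fixMap_eq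
  haveI : Fact sys.ℓ.Prime := ⟨h5⟩
  haveI : Fact (Nat.Prime 5) := ⟨by norm_num⟩
  have hcard : 5 ^ 3 ≤ Nat.card E := by
    have h := Nat.card_le_card_of_injective (fun v : Fin 5 × Fin 5 × Fin 5 =>
      (⟨x 0 ^ (v.1 : ℕ) * x 1 ^ (v.2.1 : ℕ) * x 2 ^ (v.2.2 : ℕ),
        mul_mem (mul_mem (pow_mem (x_mem 0) _) (pow_mem (x_mem 1) _)) (pow_mem (x_mem 2) _)⟩ : ↥E))
      (fun v w h => by
        have h' := congrArg Subtype.val h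
        simp only at h'
        have hC : ∀ i j, ∀ a b : ℕ, Commute (x i ^ a) (x j ^ b) := fun i j a b =>
          Commute.pow_pow (x_comm i j) a b
        have key : ∀ (i : Fin 3) (s t : Fin 5), x i ^ (s : ℕ) * x i ^ (5 - (t : ℕ)) =
            x i ^ ((s + (5 - t) : ℕ) % 5) := fun i s t => by
          rw [← pow_add, pow_eq_pow_mod _ (x_pow i)]
        have h1 : x 0 ^ ((v.1 + (5 - w.1) : ℕ) % 5) * x 1 ^ ((v.2.1 + (5 - w.2.1) : ℕ) % 5) *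
            x 2 ^ ((v.2.2 + (5 - w.2.2) : ℕ) % 5) = 1 := by
          rw [← key, ← key, ← key, ← (hC 1 0 v.2.1 (5 - w.1)).mul_mul_mul_comm,
            ← (Commute.mul_right (hC 2 0 v.2.2 (5 - w.1)) (hC 2 1 v.2.2 (5 - w.2.1))).mul_mul_mul_comm,
            h', (Commute.mul_right (hC 2 0 w.2.2 (5 - w.1)) (hC 2 1 w.2.2 (5 - w.2.1))).mul_mul_mul_comm,
            (hC 1 0 w.2.1 (5 - w.1)).mul_mul_mul_comm]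
          simp only [← pow_add, show ∀ t : Fin 5, (t : ℕ) + (5 - t) = 5 from fun t => by omega,
            x_pow, one_mul]
        obtain ⟨e1, e2, e3⟩ := no_rel3 ⟨_, Nat.mod_lt _ (by norm_num)⟩
          ⟨_, Nat.mod_lt _ (by norm_num)⟩ ⟨_, Nat.mod_lt _ (by norm_num)⟩ h1
        simp only [Fin.ext_iff, Fin.val_zero] at e1 e2 e3
        exact Prod.ext (Fin.ext (by omega)) (Prod.ext (Fin.ext (by omega)) (Fin.ext (by omega))))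
    simpa [Nat.card_prod] using h
  have hEp : IsPGroup 5 E := fun a => ⟨1, Subtype.ext (by
    rw [pow_one]; exact closure_range_pow x_comm x_pow a a.2)⟩
  obtain ⟨e, he⟩ := IsPGroup.iff_card.1 hEp
  have he3 : 3 ≤ e := by
    rw [he] at hcard
    exact (Nat.pow_le_pow_iff_right (by norm_num)).1 hcard
  obtain ⟨k, hk1, hk2, hk3, ⟨L⟩⟩ := exists_lifted (R := Subgroup.closure {y | y ∈ gens})
    facts_chevE7 alcoveE7_valid p table_ok h5 hp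
    (by rw [card_weyl]; decide) hW fixed_ok hA h0 H φ hφ
    (closure_range_comm x_comm) (closure_range_pow x_comm x_pow)
    (by show 5 * 5 ∣ Nat.card E; rw [he]; exact pow_dvd_pow 5 (show 2 ≤ e by omega))
    (closure_range_conj hmon) coprime_gens irred
    (fun h => by
      exfalso
      have : 5 ^ 3 ≤ 25 := hcard.trans (le_of_eq h)
      norm_num at this)
    x x_mem x_ord x_indep hmon
  letI := hk1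
  haveI := hk2
  haveI := hk3
  have hk0 : (sys.ℓ : k) ≠ 0 := fun h => hp
    ((Nat.prime_dvd_prime_iff_eq Fact.out h5).1 ((CharP.cast_eq_zero_iff k p _).1 h))
  have htor := L.all_torus facts_chevE7 alcoveE7_valid table_ok h5 hk0 hW fixed_ok hA h0 x_ord
    x_indep (fun i l => by
      obtain ⟨r, hr, h⟩ := scal_pair i l
      exact ⟨r, Subgroup.subset_closure hr, h⟩) (by decide)
  choose c hc using htor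
  haveI : NeZero (sys.ℓ : k) := ⟨hk0⟩
  obtain ⟨ζ₀, hζ₀⟩ := HasEnoughRootsOfUnity.exists_primitiveRoot k sys.ℓ
  obtain ⟨ζ, rfl⟩ := hζ₀.isUnit h5.ne_zero
  have hne : (torusHom (c 0) : GL chevE7.Idx k) ≠ 1 := fun h => by
    have h' := L.indep 0 1 (by decide) 1 0 (by rw [pow_one, ← hc, h, pow_zero, one_mul])
    exact x_ne 0 (by simpa using h')
  obtain ⟨g, -, hg⟩ := L.conj g0 (Subgroup.subset_closure (by simp [gens]))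
  have hmem1 : ∀ i : Fin 3, i ≠ 0 → i ∈ [(1 : Fin 3), 2] := by decide
  obtain ⟨⟨a0, a1, a2⟩, ⟨b0, b1, b2⟩, ⟨d0, d1, d2⟩⟩ := diag_x
  rcases dep_of_triple facts_chevE7 alcoveE7_valid table_ok
    (IsPrimitiveRoot.coe_units_iff.1 hζ₀) (P := loc0) single_ok marks_ok marks_pos pair0 triple_ok.1
    c (fun i => by rw [hc]; exact L.pow i) hne (g := g) (by rw [hc]; exact hg 0 0 2 a0)
    (fun i hi m hm => L.conj_pair (hc 0) (hc i) (by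
      obtain ⟨r, hr, h⟩ := pairs_rel i (hmem1 i hi) m hm
      exact ⟨r, Subgroup.subset_closure hr, h⟩))
    (fun m hm => by
      have conj3 : ∀ r ∈ gens, ∃ g : GL chevE7.Idx k, ∀ i j, ∀ a : ℕ, r * x i * r⁻¹ = x j ^ a →
          g * torusHom (c i) * g⁻¹ = torusHom (c j) ^ a := fun r hr => by
        obtain ⟨g, -, hg⟩ := L.conj r (Subgroup.subset_closure hr)
        exact ⟨g, fun i j a h => by rw [hc, hc]; exact hg i j a h⟩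
      simp only [tripleMaps, List.mem_cons, List.not_mem_nil, or_false] at hm
      rcases hm with rfl | rfl | rfl | rfl
      · obtain ⟨g, hg⟩ := conj3 g0 (by simp [gens])
        refine ⟨g, ?_, ?_, ?_⟩ <;> simp [hg _ _ _ a0, hg _ _ _ a1, hg _ _ _ a2]
      · obtain ⟨g, hg⟩ := conj3 g1 (by simp [gens])
        refine ⟨g, ?_, ?_, ?_⟩ <;> simp [hg _ _ _ b0, hg _ _ _ b1, hg _ _ _ b2]
      · obtain ⟨g, hg⟩ := conj3 g3 (by simp [gens])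
        refine ⟨g, ?_, ?_, ?_⟩ <;> simp [hg 0 1 1 (by rw [pow_one]; exact cyc_x.1),
          hg 1 2 1 (by rw [pow_one]; exact cyc_x.2.1), hg 2 0 1 (by rw [pow_one]; exact cyc_x.2.2)]
      · obtain ⟨g, hg⟩ := conj3 g4 (by simp [gens])
        refine ⟨g, ?_, ?_, ?_⟩ <;> simp [hg _ _ _ d0, hg _ _ _ d1, hg _ _ _ d2]) with
    ⟨i, hi, s, hs, e⟩ | ⟨s, hs, t, ht, e⟩
  · refine no_pair i (hmem1 i hi) ⟨s, hs⟩ (L.indep i 0 hi 1 (4 * s) ?_)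
    rw [pow_one, ← hc, ← hc, e, ← pow_add, show s + 4 * s = sys.ℓ * s by
      show s + 4 * s = 5 * s; ring, pow_mul, hc, L.pow, one_pow]
  · refine no_triple ⟨s, hs⟩ ⟨t, ht⟩ (L.indep3 2 0 1 1 (4 * s) (4 * t) ?_)
    have hC : Commute (L.w 1 ^ t) (L.w 0 ^ (4 * s)) := Commute.pow_pow (L.comm 1 0) _ _
    rw [pow_one, ← hc 2, e, hc, hc, mul_assoc, hC.mul_mul_mul_comm, ← pow_add, ← pow_add,
      show s + 4 * s = sys.ℓ * s by show s + 4 * s = 5 * s; ring,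
      show t + 4 * t = sys.ℓ * t by show t + 4 * t = 5 * t; ring,
      pow_mul, pow_mul, L.pow, L.pow, one_pow, one_pow, one_mul]

end Cfsg.Agent.AltSec.E7.Data5
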