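import Mathlib.GroupTheory.SchurZassenhaus
import Mathlib.GroupTheory.Sylow
import Mathlib.GroupTheory.Commutator.Basic
import Mathlib.Algebra.BigOperators.Group.Finset.Basic

/-!
Lifting an irreducible elementary abelian section with its coprime normaliser to an `ℓ`-subgroup.
-/

set_option autoImplicit false

namespace Cfsg.Agent.AltSec.E7.Lift

universe u v

variable {K : Type u} [Group K] [Finite K] {A : Type v} [Group A]

/-- The only subgroups of `E` invariant under `R` are the trivial ones. -/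
def Irred (E R : Subgroup A) : Prop :=
  ∀ S : Subgroup A, S ≤ E → (∀ r ∈ R, ∀ y ∈ S, r * y * r⁻¹ ∈ S) → S = ⊥ ∨ S = E

/-- An `ℓ`-subgroup over `E`, normalised by a subgroup of order prime to `ℓ` inducing the action
of `R` on `E`, all of whose invariant proper subgroups lie in the kernel. -/
theorem exists_minimal {φ : K →* A} (hφ : Function.Surjective φ) {ℓ : ℕ} [Fact ℓ.Prime]
    {E R : Subgroup A} (hEcomm : ∀ a ∈ E, ∀ b ∈ E, a * b = b * a) (hE : IsPGroup ℓ E)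
    (hEne : E ≠ ⊥) (hRE : ∀ r ∈ R, ∀ y ∈ E, r * y * r⁻¹ ∈ E)
    (hRcop : Nat.Coprime ℓ (Nat.card R)) (hirr : Irred E R) :
    ∃ Q R' : Subgroup K, IsPGroup ℓ Q ∧ Nat.Coprime ℓ (Nat.card R') ∧
      (∀ g ∈ R', ∀ y ∈ Q, g * y * g⁻¹ ∈ Q) ∧ Q.map φ = E ∧
      (∀ r ∈ R, ∃ g ∈ R', ∀ y ∈ E, φ g * y * (φ g)⁻¹ = r * y * r⁻¹) ∧
      (∀ g ∈ R', ∃ r ∈ R, ∀ y ∈ E, φ g * y * (φ g)⁻¹ = r * y * r⁻¹) ∧
      (∀ Q' : Subgroup K, Q' ≤ Q → (∀ g ∈ R', ∀ y ∈ Q', g * y * g⁻¹ ∈ Q') →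
        Q' = Q ∨ ∀ y ∈ Q', φ y = 1) := by
  classical
  haveI : Finite A := Finite.of_surjective φ hφ
  have hℓ : ℓ.Prime := Fact.out
  set M : Subgroup A := E ⊔ R with hM
  have hEn : ∀ g ∈ M, ∀ y ∈ E, g * y * g⁻¹ ∈ E := by
    intro g hg
    have h : M ≤ Subgroup.normalizer (E : Set A) := by
      refine sup_le Subgroup.le_normalizer fun r hr => Subgroup.mem_normalizer_iff.2 fun y =>
        ⟨fun hy => hRE r hr y hy, fun hy => ?_⟩
      have := hRE r⁻¹ (inv_mem hr) _ hy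
      simpa [mul_assoc] using this
    exact fun y hy => (Subgroup.mem_normalizer_iff.1 (h hg) y).1 hy
  set K1 : Subgroup K := M.comap φ with hK1
  let φ1 : ↥K1 →* A := φ.comp K1.subtype
  set T : Subgroup ↥K1 := E.comap φ1 with hT
  haveI hTn : T.Normal := ⟨fun y hy g => by
    rw [hT, Subgroup.mem_comap] at hy ⊢
    rw [map_mul, map_mul, map_inv]
    exact hEn _ g.2 _ hy⟩
  let P0 : Sylow ℓ ↥T := default
  set P : Subgroup ↥K1 := (P0 : Subgroup ↥T).map T.subtype with hP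
  have hfr : Subgroup.normalizer (P : Set ↥K1) ⊔ T = ⊤ := Sylow.normalizer_sup_eq_top P0
  have hPT : P ≤ T := Subgroup.map_subtype_le _
  have hTim : T.map φ1 = E := by
    refine le_antisymm (Subgroup.map_comap_le _ _) fun a ha => ?_
    obtain ⟨x, rfl⟩ := hφ a
    exact ⟨⟨x, Subgroup.mem_sup_left ha⟩, ha, rfl⟩
  have hPim : P.map φ1 = E := by
    refine le_antisymm ((Subgroup.map_mono hPT).trans hTim.le) ?_
    set ψ : ↥T →* ↥E := (φ1.comp T.subtype).codRestrict E fun y => y.2 with hψ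
    have hψs : Function.Surjective ψ := by
      rintro ⟨a, ha⟩
      obtain ⟨x, hx, e⟩ := hTim.ge ha
      exact ⟨⟨x, hx⟩, Subtype.ext e⟩
    haveI : Finite ↥E := Finite.of_surjective ψ hψs
    have hd : ((P0 : Subgroup ↥T).map ψ).index ∣ (P0 : Subgroup ↥T).index :=
      Subgroup.index_map_dvd _ hψs
    obtain ⟨k, hk⟩ := hE.index ((P0 : Subgroup ↥T).map ψ)
    have hk0 : k = 0 := by
      rcases k with _ | k
      · rfl
      exact absurd ((dvd_pow_self ℓ k.succ_ne_zero).trans (hk ▸ hd)) P0.not_dvd_index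
    rw [hk0, pow_zero, Subgroup.index_eq_one] at hk
    intro a ha
    obtain ⟨y, hy, e⟩ := hk.symm ▸ Subgroup.mem_top (⟨a, ha⟩ : ↥E)
    exact ⟨y, ⟨y, hy, rfl⟩, congrArg Subtype.val e⟩
  -- the complement
  set N : Subgroup ↥K1 := Subgroup.normalizer (P : Set ↥K1) with hN
  set PN : Subgroup ↥N := P.subgroupOf N with hPN
  haveI : PN.Normal := by rw [hPN, hN]; exact Subgroup.normal_in_normalizer
  have hcop : Nat.Coprime (Nat.card PN) PN.index := by
    obtain ⟨k, hk⟩ := IsPGroup.iff_card.1 (show IsPGroup ℓ PN from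
      (P0.2.map T.subtype).comap_of_injective N.subtype N.subtype_injective)
    rw [hk]
    refine Nat.Coprime.pow_left _ (hℓ.coprime_iff_not_dvd.2 fun hd => ?_)
    have h2 : PN.index ∣ P.index := Subgroup.relIndex_dvd_index_of_le Subgroup.le_normalizer
    have h3 : P.index = (P0 : Subgroup ↥T).index * T.index := by
      rw [hP, Subgroup.index_map_subtype]
    have h4 : T.index ∣ Nat.card R := by
      rw [hT, Subgroup.index_comap]
      have hr : φ1.range = M := by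
        rw [MonoidHom.range_comp, Subgroup.range_subtype, hK1,
          Subgroup.map_comap_eq_self_of_surjective hφ]
      rw [hr, Subgroup.relIndex]
      haveI : (E.subgroupOf M).Normal := ⟨fun y hy g => hEn g g.2 y hy⟩
      have htop : E.subgroupOf M ⊔ R.subgroupOf M = ⊤ := by
        rw [← Subgroup.subgroupOf_sup le_sup_left le_sup_right, Subgroup.subgroupOf_eq_top]
      rw [← Subgroup.relIndex_top_right, ← htop, Subgroup.relIndex_sup_left,
        ← Nat.card_congr (Subgroup.subgroupOfEquivOfLe (le_sup_right : R ≤ M)).toEquiv]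
      exact Subgroup.relIndex_dvd_card _ _
    rcases (Nat.Prime.dvd_mul hℓ).1 (h3 ▸ hd.trans h2) with h | h
    · exact P0.not_dvd_index h
    · exact hℓ.coprime_iff_not_dvd.1 hRcop (h.trans h4)
  obtain ⟨C, hC⟩ := Subgroup.exists_right_complement'_of_coprime hcop
  set R' : Subgroup K := (C.map N.subtype).map K1.subtype with hR'
  have hR'cop : Nat.Coprime ℓ (Nat.card R') := by
    rw [hR', Subgroup.card_map_of_injective K1.subtype_injective,
      Subgroup.card_map_of_injective N.subtype_injective, ← hC.symm.index_eq_card]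
    refine hℓ.coprime_iff_not_dvd.2 fun hd => ?_
    obtain ⟨k, hk⟩ := IsPGroup.iff_card.1 (show IsPGroup ℓ PN from
      (P0.2.map T.subtype).comap_of_injective N.subtype N.subtype_injective)
    rcases k with _ | k
    · -- the preimage of `E` has an element of order `ℓ`
      rw [pow_zero, Subgroup.card_eq_one] at hk
      have : P = ⊥ := by
        rw [eq_bot_iff]
        intro y hy
        have h := hk.le (show (⟨y, Subgroup.le_normalizer hy⟩ : ↥N) ∈ PN from hy)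
        exact congrArg Subtype.val (Subgroup.mem_bot.1 h)
      rw [this, Subgroup.map_bot] at hPim
      exact hEne hPim.symm
    · rw [hk] at hcop
      exact hℓ.coprime_iff_not_dvd.1 (hcop.coprime_dvd_left (dvd_pow_self ℓ k.succ_ne_zero)) hd
  set P' : Subgroup K := P.map K1.subtype with hP'
  have hP'im : P'.map φ = E := by rw [hP', Subgroup.map_map]; exact hPim
  have hP'n : ∀ g ∈ R', ∀ y ∈ P', g * y * g⁻¹ ∈ P' := by
    rintro _ ⟨_, ⟨g, -, rfl⟩, rfl⟩ _ ⟨y, hy, rfl⟩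
    exact ⟨_, (Subgroup.mem_normalizer_iff.1 g.2 y).1 hy, by simp⟩
  have hact : ∀ r ∈ R, ∃ g ∈ R', ∀ y ∈ E, φ g * y * (φ g)⁻¹ = r * y * r⁻¹ := by
    intro r hr
    obtain ⟨x, rfl⟩ := hφ r
    have hx : x ∈ K1 := Subgroup.mem_sup_right hr
    obtain ⟨n, hn, t, ht, e⟩ := Subgroup.mem_sup_of_normal_right.1
      (hfr.symm ▸ Subgroup.mem_top (⟨x, hx⟩ : ↥K1))
    obtain ⟨c, hc, d, hd, e'⟩ : ∃ c ∈ C, ∃ d ∈ PN, c * d = (⟨n, hn⟩ : ↥N) := by
      obtain ⟨p, hp, c, hc, e'⟩ := Subgroup.mem_sup_of_normal_left.1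
        (hC.sup_eq_top.symm ▸ Subgroup.mem_top (⟨n, hn⟩ : ↥N))
      exact ⟨c, hc, c⁻¹ * p * c, by simpa using Subgroup.Normal.conj_mem inferInstance p hp c⁻¹,
        by rw [← e']; group⟩
    refine ⟨_, ⟨_, ⟨c, hc, rfl⟩, rfl⟩, fun y hy => ?_⟩
    have hd' : φ1 (d : ↥K1) ∈ E := hTim.le ⟨_, hPT hd, rfl⟩
    have ht' : φ1 t ∈ E := ht
    have ex : φ x = φ1 (c : ↥K1) * (φ1 (d : ↥K1) * φ1 t) := by
      rw [← mul_assoc, ← map_mul, ← map_mul, ← Subgroup.coe_mul, e', e]; rfl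
    show φ1 (c : ↥K1) * y * (φ1 (c : ↥K1))⁻¹ = φ x * y * (φ x)⁻¹
    rw [ex]
    have he := hEcomm _ (mul_mem hd' ht') y hy
    calc φ1 (c : ↥K1) * y * (φ1 (c : ↥K1))⁻¹
        = φ1 (c : ↥K1) * (φ1 (d : ↥K1) * φ1 t * y * (φ1 (d : ↥K1) * φ1 t)⁻¹) *
            (φ1 (c : ↥K1))⁻¹ := by rw [he, mul_inv_cancel_right]
      _ = _ := by group
  -- a minimal invariant subgroup covering `E`
  obtain ⟨Q, ⟨hQP, hQn, hQim⟩, hmin⟩ := wellFounded_lt.has_min
    {Q : Subgroup K | Q ≤ P' ∧ (∀ g ∈ R', ∀ y ∈ Q, g * y * g⁻¹ ∈ Q) ∧ Q.map φ = E}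
    ⟨P', le_rfl, hP'n, hP'im⟩
  have hact' : ∀ g ∈ R', ∃ r ∈ R, ∀ y ∈ E, φ g * y * (φ g)⁻¹ = r * y * r⁻¹ := by
    rintro _ ⟨g, -, rfl⟩
    have hg : φ (g : K) ∈ M := g.2
    have hEle : R ≤ Subgroup.normalizer (E : Set A) := fun r hr =>
      Subgroup.mem_normalizer_iff.2 fun y => ⟨hRE r hr y, fun hy => by
        have := hRE r⁻¹ (inv_mem hr) _ hy
        simpa [mul_assoc] using this⟩
    rw [hM, ← SetLike.mem_coe, Subgroup.coe_mul_of_right_le_normalizer_left E R hEle] at hg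
    obtain ⟨e, he, r, hr, her⟩ := hg
    refine ⟨r, hr, fun y hy => ?_⟩
    show φ (g : K) * y * (φ (g : K))⁻¹ = _
    rw [← her]
    calc e * r * y * (e * r)⁻¹ = e * (r * y * r⁻¹) * e⁻¹ := by group
      _ = _ := by rw [hEcomm e he _ (hRE r hr y hy), mul_inv_cancel_right]
  refine ⟨Q, R', ((P0.2.map T.subtype).map K1.subtype).to_le hQP, hR'cop, hQn, hQim, hact, hact',
    fun Q' hQ' hinv => ?_⟩
  by_contra hne
  rw [not_or, not_forall] at hne
  obtain ⟨hne1, y, hy⟩ := hne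
  rw [Classical.not_imp] at hy
  rcases hirr (Q'.map φ) ((Subgroup.map_mono hQ').trans hQim.le) (fun r hr z hz => by
      obtain ⟨z, hz', rfl⟩ := hz
      obtain ⟨g, hg, hga⟩ := hact r hr
      rw [← hga _ (hQim.le (Subgroup.mem_map_of_mem φ (hQ' hz'))), ← map_inv, ← map_mul, ← map_mul]
      exact Subgroup.mem_map_of_mem φ (hinv g hg z hz')) with h | h
  · exact hy.2 (Subgroup.mem_bot.1 (h.le (Subgroup.mem_map_of_mem φ hy.1)))
  · exact hmin Q' ⟨hQ'.trans hQP, hinv, h⟩ (lt_of_le_of_ne hQ' hne1)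

/-- With an abelian subgroup of index dividing `ℓ`, either the group is abelian, or the image has
order at most `ℓ²` and some commutator of order `ℓ` is central. -/
theorem abelian_or_comm {φ : K →* A} {ℓ : ℕ} [Fact ℓ.Prime] {E : Subgroup A}
    (hEcomm : ∀ a ∈ E, ∀ b ∈ E, a * b = b * a) (hE2 : ℓ * ℓ ∣ Nat.card E)
    (hEexp : ∀ a ∈ E, a ^ ℓ = 1) {Q R' : Subgroup K}
    (hQn : ∀ g ∈ R', ∀ y ∈ Q, g * y * g⁻¹ ∈ Q) (hQim : Q.map φ = E)
    (hmin : ∀ Q' : Subgroup K, Q' ≤ Q → (∀ g ∈ R', ∀ y ∈ Q', g * y * g⁻¹ ∈ Q') →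
      Q' = Q ∨ ∀ y ∈ Q', φ y = 1)
    {B : Subgroup K} (hBQ : B ≤ Q) (hBc : ∀ a ∈ B, ∀ b ∈ B, a * b = b * a)
    (hBn : ∀ g ∈ Q, ∀ y ∈ B, g * y * g⁻¹ ∈ B) (hBi : B.relIndex Q ∣ ℓ) :
    (∀ a ∈ Q, ∀ b ∈ Q, a * b = b * a) ∨
    (Nat.card E = ℓ * ℓ ∧ ∃ a ∈ B, ∃ n ∈ Q, n ∉ B ∧ (a * n * a⁻¹ * n⁻¹) ∈ B ∧
      a * n * a⁻¹ * n⁻¹ ≠ 1 ∧ (a * n * a⁻¹ * n⁻¹) ^ ℓ = 1 ∧
      (∀ y ∈ Q, (a * n * a⁻¹ * n⁻¹) * y = y * (a * n * a⁻¹ * n⁻¹)) ∧
      ∀ g ∈ R', ∀ e : ℕ, (∀ y ∈ E, φ g * y * (φ g)⁻¹ = y ^ e) →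
        g * (a * n * a⁻¹ * n⁻¹) * g⁻¹ = (a * n * a⁻¹ * n⁻¹) ^ (e * e)) := by
  classical
  have hℓ : ℓ.Prime := Fact.out
  by_cases hab : ∀ a ∈ Q, ∀ b ∈ Q, a * b = b * a
  · exact Or.inl hab
  right
  set ker : Subgroup K := φ.ker ⊓ Q with hker
  have hkerB : ker.relIndex Q = Nat.card E := by
    rw [hker, Subgroup.inf_relIndex_right, Subgroup.relIndex_ker, hQim]
  have hker0 : ker.relIndex Q ≠ 0 :=
    Subgroup.index_ne_zero_of_finite
  have key : ∀ S : Subgroup K, S ≤ ker → ∀ m : ℕ, S.relIndex Q ≤ m → Nat.card E ≤ m := by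
    intro S hS m hm
    rw [← hkerB]
    refine le_trans (Nat.le_of_dvd ?_ (Subgroup.relIndex_dvd_of_le_left Q hS)) hm
    exact Nat.pos_of_ne_zero Subgroup.index_ne_zero_of_finite
  have hB1 : B.relIndex Q = ℓ := by
    rcases (Nat.dvd_prime hℓ).1 hBi with h | h
    · exact absurd (fun a ha b hb => hBc a (Subgroup.relIndex_eq_one.1 h ha) b
        (Subgroup.relIndex_eq_one.1 h hb)) hab
    · exact h
  -- a conjugate of `B` different from it
  obtain ⟨g, hg, hgB⟩ : ∃ g ∈ R', ∃ y ∈ B, g * y * g⁻¹ ∉ B := by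
    by_contra hinv
    push Not at hinv
    rcases hmin B hBQ hinv with h | h
    · exact hab (h ▸ hBc)
    · have := key B (le_inf (fun y hy => h y hy) hBQ) ℓ hB1.le
      have h2 : ℓ * ℓ ≤ Nat.card E := Nat.le_of_dvd (by rw [← hkerB]; omega) hE2
      nlinarith [hℓ.two_le]
  set B' : Subgroup K := B.map (MulAut.conj g).toMonoidHom with hB'
  have hB'Q : B' ≤ Q := by
    rintro _ ⟨y, hy, rfl⟩; exact hQn g hg y (hBQ hy)
  have hB'c : ∀ a ∈ B', ∀ b ∈ B', a * b = b * a := by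
    rintro _ ⟨a, ha, rfl⟩ _ ⟨b, hb, rfl⟩
    rw [← map_mul, ← map_mul, hBc a ha b hb]
  have hQeq : Q.map (MulAut.conj g).toMonoidHom = Q := by
    refine Subgroup.eq_of_le_of_card_ge ?_
      (Subgroup.card_map_of_injective (MulAut.conj g).injective).ge
    rintro _ ⟨y, hy, rfl⟩; exact hQn g hg y hy
  have hB'1 : B'.relIndex Q = ℓ := by
    rw [← hB1, hB']
    conv_lhs => rw [← hQeq]
    exact Subgroup.relIndex_map_map_of_injective _ _ (MulAut.conj g).injective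
  obtain ⟨y0, hy0, hy0B⟩ := hgB
  have hsup : B ⊔ B' = Q := by
    refine le_antisymm (sup_le hBQ hB'Q) ?_
    have h1 := Subgroup.relIndex_mul_relIndex B (B ⊔ B') Q le_sup_left (sup_le hBQ hB'Q)
    rw [hB1] at h1
    rcases (Nat.dvd_prime hℓ).1 (Dvd.intro_left _ h1) with h | h
    · exact Subgroup.relIndex_eq_one.1 h
    · rw [h] at h1
      have h3 : B.relIndex (B ⊔ B') = 1 :=
        mul_right_cancel₀ hℓ.ne_zero (h1.trans (one_mul ℓ).symm)
      exact absurd (Subgroup.relIndex_eq_one.1 h3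
        (Subgroup.mem_sup_right ⟨y0, hy0, rfl⟩)) hy0B
  have hZc : ∀ z ∈ B ⊓ B', ∀ y ∈ Q, z * y = y * z := by
    intro z hz y hy
    have hle : B ⊔ B' ≤ Subgroup.centralizer {z} := sup_le
      (fun a ha => Subgroup.mem_centralizer_singleton_iff.2 (hBc a ha z hz.1))
      (fun a ha => Subgroup.mem_centralizer_singleton_iff.2 (hB'c a ha z hz.2))
    exact (Subgroup.mem_centralizer_singleton_iff.1 (hle (hsup.ge hy))).symm
  set Z : Subgroup K := Subgroup.centralizer (Q : Set K) ⊓ Q with hZ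
  have hZle : B ⊓ B' ≤ Z := fun z hz =>
    ⟨fun y hy => (hZc z hz y hy).symm, hBQ hz.1⟩
  have hZker : Z ≤ ker := by
    have hinv : ∀ r ∈ R', ∀ z ∈ Z, r * z * r⁻¹ ∈ Z := fun r hr z hz => ⟨fun y hy => by
      have h1 := hz.1 (r⁻¹ * y * r) (by
        have := hQn _ (inv_mem hr) y hy
        rwa [inv_inv] at this)
      calc y * (r * z * r⁻¹) = r * ((r⁻¹ * y * r) * z) * r⁻¹ := by group
        _ = r * (z * (r⁻¹ * y * r)) * r⁻¹ := by rw [h1]
        _ = r * z * r⁻¹ * y := by group, hQn r hr z hz.2⟩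
    rcases hmin Z inf_le_right hinv with h | h
    · exact absurd (fun a ha b hb => ((h.ge ha).1 b hb).symm) hab
    · exact le_inf (fun y hy => h y hy) inf_le_right
  have hZidx : Z.relIndex Q ≤ ℓ * ℓ := by
    refine le_trans (Nat.le_of_dvd (Nat.pos_of_ne_zero Subgroup.index_ne_zero_of_finite)
      (Subgroup.relIndex_dvd_of_le_left Q hZle)) ?_
    exact (Subgroup.relIndex_inf_le).trans (by rw [hB1, hB'1])
  have hcard : Nat.card E = ℓ * ℓ :=
    le_antisymm (key Z hZker _ hZidx) (Nat.le_of_dvd (by rw [← hkerB]; omega) hE2)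
  have hZk : Z = ker := by
    refine le_antisymm hZker ?_
    have h1 := Subgroup.relIndex_mul_relIndex Z ker Q hZker inf_le_right
    rw [hkerB, hcard] at h1
    have h3 : 0 < ℓ * ℓ := Nat.mul_pos hℓ.pos hℓ.pos
    have h4 : Z.relIndex ker ≤ 1 := by
      by_contra h5
      push Not at h5
      have : 2 * (ℓ * ℓ) ≤ Z.relIndex Q := by rw [← h1]; exact Nat.mul_le_mul h5 le_rfl
      omega
    refine Subgroup.relIndex_eq_one.1 (le_antisymm h4 (Nat.pos_of_ne_zero ?_))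
    exact Subgroup.index_ne_zero_of_finite
  refine ⟨hcard, ?_⟩
  obtain ⟨a, ha, n, hn, hne⟩ : ∃ a ∈ B, ∃ n ∈ Q, a * n ≠ n * a := by
    by_contra hall
    push Not at hall
    refine hab fun a ha b hb => ?_
    obtain hle : Q ≤ Subgroup.centralizer {b} := by
      rw [← hsup]
      refine sup_le (fun x hx => Subgroup.mem_centralizer_singleton_iff.2 (hall x hx b hb)) ?_
      intro x hx
      refine Subgroup.mem_centralizer_singleton_iff.2 ?_
      have hle2 : B ⊔ B' ≤ Subgroup.centralizer {x} := sup_le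
        (fun z hz => Subgroup.mem_centralizer_singleton_iff.2 (hall z hz x (hB'Q hx)))
        (fun z hz => Subgroup.mem_centralizer_singleton_iff.2 (hB'c z hz x hx))
      exact (Subgroup.mem_centralizer_singleton_iff.1 (hle2 (hsup.ge hb))).symm
    exact Subgroup.mem_centralizer_singleton_iff.1 (hle ha)
  have hnB : n ∉ B := fun h => hne (hBc a ha n h)
  -- commutators are central
  have hcZ : ∀ x ∈ Q, ∀ y ∈ Q, x * y * x⁻¹ * y⁻¹ ∈ Z := by
    intro x hx y hy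
    rw [hZk]
    refine Subgroup.mem_inf.2 ⟨?_, mul_mem (mul_mem (mul_mem hx hy) (inv_mem hx)) (inv_mem hy)⟩
    show φ (x * y * x⁻¹ * y⁻¹) = 1
    simp only [map_mul, map_inv]
    rw [hEcomm _ (hQim.le (Subgroup.mem_map_of_mem φ hx)) _
      (hQim.le (Subgroup.mem_map_of_mem φ hy))]
    group
  set z := a * n * a⁻¹ * n⁻¹ with hz
  have hcl : ∀ x ∈ Q, z * x = x * z := fun x hx => ((hcZ a (hBQ ha) n hn).1 x hx).symm
  -- multiplicativity
  have hpow : ∀ (i : ℕ), a ^ i * n * (a ^ i)⁻¹ * n⁻¹ = z ^ i := by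
    intro i
    induction i with
    | zero => simp
    | succ i ih =>
      rw [pow_succ' a, pow_succ' z]
      calc a * a ^ i * n * (a * a ^ i)⁻¹ * n⁻¹
          = a * (a ^ i * n * (a ^ i)⁻¹ * n⁻¹) * a⁻¹ * z := by rw [hz]; group
        _ = a * z ^ i * a⁻¹ * z := by rw [ih]
        _ = z ^ i * z := by
          rw [((show Commute z a from hcl a (hBQ ha)).pow_left i).eq.symm, mul_inv_cancel_right]
        _ = z * z ^ i := by rw [← pow_succ, pow_succ']
  refine ⟨a, ha, n, hn, hnB, ?_, ?_, ?_, hcl, ?_⟩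
  · rw [show a * n * a⁻¹ * n⁻¹ = a * (n * a⁻¹ * n⁻¹) by group]
    exact mul_mem ha (hBn n hn _ (inv_mem ha))
  · rw [Ne, mul_inv_eq_one, mul_inv_eq_iff_eq_mul]; exact hne
  · rw [← hpow]
    have haℓ : a ^ ℓ ∈ Z := by
      rw [hZk]
      exact ⟨show φ (a ^ ℓ) = 1 by
        rw [map_pow]; exact hEexp _ (hQim.le (Subgroup.mem_map_of_mem φ (hBQ ha))),
        pow_mem (hBQ ha) ℓ⟩
    rw [← haℓ.1 n hn, mul_inv_cancel_right, mul_inv_cancel]
  · intro r hr e he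
    have hmod : ∀ x ∈ Q, ∃ c ∈ Z, r * x * r⁻¹ = x ^ e * c := by
      intro x hx
      refine ⟨(x ^ e)⁻¹ * (r * x * r⁻¹), ?_, (mul_inv_cancel_left _ _).symm⟩
      rw [hZk]
      refine Subgroup.mem_inf.2 ⟨?_, mul_mem (inv_mem (pow_mem hx e)) (hQn r hr x hx)⟩
      show φ _ = 1
      simp only [map_mul, map_inv, map_pow]
      rw [he _ (hQim.le (Subgroup.mem_map_of_mem φ hx)), inv_mul_cancel]
    obtain ⟨c1, hc1, e1⟩ := hmod a (hBQ ha)
    obtain ⟨c2, hc2, e2⟩ := hmod n hn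
    have hn2 : a ^ e * n ^ e * (a ^ e)⁻¹ * (n ^ e)⁻¹ = z ^ (e * e) := by
      have hzi : ∀ i : ℕ, a ^ e * n ^ i * (a ^ e)⁻¹ * (n ^ i)⁻¹ = z ^ (e * i) := by
        intro i
        induction i with
        | zero => simp
        | succ i ih =>
          rw [pow_succ' n, Nat.mul_succ, pow_add]
          calc a ^ e * (n * n ^ i) * (a ^ e)⁻¹ * (n * n ^ i)⁻¹
              = (a ^ e * n * (a ^ e)⁻¹ * n⁻¹) *
                  (n * (a ^ e * n ^ i * (a ^ e)⁻¹ * (n ^ i)⁻¹) * n⁻¹) := by group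
            _ = z ^ e * (n * z ^ (e * i) * n⁻¹) := by rw [hpow, ih]
            _ = z ^ e * z ^ (e * i) := by
              rw [((show Commute z n from hcl n hn).pow_left (e * i)).eq.symm, mul_inv_cancel_right]
            _ = z ^ (e * i) * z ^ e := by rw [← pow_add, ← pow_add, add_comm]
      exact hzi e
    rw [← hn2]
    calc r * (a * n * a⁻¹ * n⁻¹) * r⁻¹
        = (r * a * r⁻¹) * (r * n * r⁻¹) * (r * a * r⁻¹)⁻¹ * (r * n * r⁻¹)⁻¹ := by group
      _ = (a ^ e * c1) * (n ^ e * c2) * (a ^ e * c1)⁻¹ * (n ^ e * c2)⁻¹ := by rw [e1, e2]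
      _ = _ := by
        have h1 : ∀ x ∈ Q, Commute c1 x := fun x hx => (hc1.1 x hx).symm
        have h2 : ∀ x ∈ Q, Commute c2 x := fun x hx => (hc2.1 x hx).symm
        have q1 := pow_mem (hBQ ha) e
        have q2 := pow_mem hn e
        calc (a ^ e * c1) * (n ^ e * c2) * (a ^ e * c1)⁻¹ * (n ^ e * c2)⁻¹
            = a ^ e * (c1 * (n ^ e * c2)) * c1⁻¹ * ((a ^ e)⁻¹ * c2⁻¹) * (n ^ e)⁻¹ := by group
          _ = a ^ e * ((n ^ e * c2) * c1) * c1⁻¹ * (c2⁻¹ * (a ^ e)⁻¹) * (n ^ e)⁻¹ := by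
            rw [(h1 _ (mul_mem q2 hc2.2)).eq, ((h2 _ (inv_mem q1)).inv_left).eq.symm]
          _ = _ := by group

end Cfsg.Agent.AltSec.E7.Lift
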