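import Cfsg.Agent.Chev.GroupCard
import Cfsg.Agent.Chev.Functorial
import Mathlib.GroupTheory.PGroup
import Mathlib.GroupTheory.GroupAction.Quotient
import Mathlib.FieldTheory.Finite.Extension
import Mathlib.FieldTheory.IsAlgClosed.AlgebraicClosure
import Mathlib.Algebra.Field.ULift
import Mathlib.Algebra.CharP.Algebra

/-!
An `ℓ`-subgroup becomes monomial over an algebraically closed field when `ℓ²` does not divide the
order of the Weyl group.
-/

set_option autoImplicit false

namespace Cfsg.Agent.AltSec.E7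

open Cfsg.Lie Cfsg.Agent.Chev
open scoped MatrixGroups

universe u

variable {D : ChevalleyDatum} (hF : Facts.{u} D)
include hF

/-- Over a field with `1` modulo `ℓ²` elements an `ℓ`-subgroup has a monomial conjugate. -/
theorem exists_conj_monomial {F : Type u} [Field F] [Fintype F] {ℓ : ℕ} [Fact ℓ.Prime]
    (hq : Fintype.card F ≡ 1 [MOD ℓ * ℓ]) (hWd : ℓ ∣ Nat.card ↥(weyl hF))
    (hW : ¬ ℓ * ℓ ∣ Nat.card ↥(weyl hF))
    (P : Subgroup (GL D.Idx F)) (hP : IsPGroup ℓ P) (hPG : P ≤ D.group F) :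
    ∃ g ∈ D.group F, ∀ y ∈ P, g * y * g⁻¹ ∈ D.monomialSubgroup F := by
  classical
  have hℓ : ℓ.Prime := Fact.out
  set N : Subgroup ↥(D.group F) := (D.monomialSubgroup F).subgroupOf (D.group F) with hN
  have hNc : Nat.card N = Nat.card ↥(D.diagonalSubgroup F) * Nat.card ↥(weyl hF) := by
    rw [hN, Nat.card_congr (Subgroup.subgroupOfEquivOfLe (monomial_le_group hF)).toEquiv,
      ← Subgroup.card_mul_index ((D.diagonalSubgroup F).subgroupOf (D.monomialSubgroup F)),
      ← monHom_ker hF, Subgroup.index_ker, monHom_range hF, monHom_ker hF,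
      Nat.card_congr (Subgroup.subgroupOfEquivOfLe
        (show D.diagonalSubgroup F ≤ D.monomialSubgroup F from le_sup_left)).toEquiv]
  have hpoin : poin hF Finset.univ (Fintype.card F) ≡ Nat.card ↥(weyl hF) [MOD ℓ * ℓ] := by
    have h1 : poin hF Finset.univ 1 = Nat.card ↥(weyl hF) := by
      rw [← wJ_univ hF, poin]
      simp only [one_pow, Finset.sum_const, smul_eq_mul, mul_one]
      rw [← Nat.card_eq_card_finite_toFinset]
      rfl
    rw [← h1, poin, poin, Nat.ModEq, Finset.sum_nat_mod]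
    conv_rhs => rw [Finset.sum_nat_mod]
    congr 1
    exact Finset.sum_congr rfl fun π _ => hq.pow _
  have hidx : ¬ ℓ ∣ N.index := by
    intro hd
    have h1 := N.card_mul_index
    rw [hNc, card_group hF] at h1
    have hdiag : 0 < Nat.card ↥(D.diagonalSubgroup F) := Nat.card_pos
    have h2 : Nat.card ↥(weyl hF) * N.index =
        Fintype.card F ^ half D * poin hF Finset.univ (Fintype.card F) := by
      refine Nat.eq_of_mul_eq_mul_left hdiag ?_
      rw [← mul_assoc, h1]; ring
    have h3 : ℓ * ℓ ∣ Fintype.card F ^ half D * poin hF Finset.univ (Fintype.card F) :=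
      h2 ▸ Nat.mul_dvd_mul hWd hd
    have hcq : Nat.Coprime ℓ (Fintype.card F) := by
      refine hℓ.coprime_iff_not_dvd.2 fun hd' => ?_
      have := ((hq.of_dvd (dvd_mul_right ℓ ℓ)).dvd_iff dvd_rfl).1 hd'
      exact hℓ.one_lt.ne' (Nat.dvd_one.1 this)
    have h4 := (Nat.Coprime.mul_left hcq hcq).pow_right (half D) |>.dvd_of_dvd_mul_left h3
    exact hW ((hpoin.dvd_iff dvd_rfl).1 h4)
  haveI : Finite (↥(D.group F) ⧸ N) := inferInstance
  set P0 : Subgroup ↥(D.group F) := P.subgroupOf (D.group F) with hP0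
  have hP0p : IsPGroup ℓ P0 := hP.comap_of_injective _ (D.group F).subtype_injective
  obtain ⟨a, ha⟩ := hP0p.nonempty_fixed_point_of_prime_not_dvd_card (↥(D.group F) ⧸ N) hidx
  obtain ⟨g, rfl⟩ := QuotientGroup.mk_surjective a
  refine ⟨((g⁻¹ : ↥(D.group F)) : GL D.Idx F), (g⁻¹).2, fun y hy => ?_⟩
  have h := ha (⟨⟨y, hPG hy⟩, hy⟩ : ↥P0)
  have h2 : ((⟨y, hPG hy⟩ * g : ↥(D.group F)) : ↥(D.group F) ⧸ N) = (g : ↥(D.group F) ⧸ N) := h
  rw [eq_comm, QuotientGroup.eq] at h2
  have h3 : ((g⁻¹ * (⟨y, hPG hy⟩ * g) : ↥(D.group F)) : GL D.Idx F) ∈ D.monomialSubgroup F := h2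
  simpa [mul_assoc] using h3

/-- An `ℓ`-subgroup of the group over a finite field is monomial over an algebraically closed
field, up to conjugation. -/
theorem exists_monomial_embedding {F : Type u} [Field F] [Finite F] (p : ℕ) [Fact p.Prime]
    [CharP F p] {ℓ : ℕ} [Fact ℓ.Prime] (hpℓ : p ≠ ℓ) (hWd : ℓ ∣ Nat.card ↥(weyl hF))
    (hW : ¬ ℓ * ℓ ∣ Nat.card ↥(weyl hF)) (P : Subgroup ↥(D.group F)) (hP : IsPGroup ℓ P) :
    ∃ (k : Type u) (_ : Field k) (_ : IsAlgClosed k) (_ : CharP k p)
      (Φ : ↥(D.group F) →* GL D.Idx k), Function.Injective Φ ∧ (∀ g, Φ g ∈ D.group k) ∧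
      ∀ y ∈ P, Φ y ∈ D.monomialSubgroup k := by
  classical
  have hℓ : ℓ.Prime := Fact.out
  letI : Fintype F := Fintype.ofFinite F
  set n := Nat.totient (ℓ * ℓ) with hn
  haveI : NeZero n := ⟨(Nat.totient_pos.2 (Nat.mul_pos hℓ.pos hℓ.pos)).ne'⟩
  let F' : Type u := ULift.{u} (FiniteField.Extension F p n)
  let ι : F →+* F' := (ULift.ringEquiv.symm.toRingHom).comp
    (algebraMap F (FiniteField.Extension F p n))
  haveI : Finite F' := inferInstanceAs (Finite (ULift.{u} (FiniteField.Extension F p n)))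
  letI : Fintype F' := Fintype.ofFinite F'
  have hq : Fintype.card F' ≡ 1 [MOD ℓ * ℓ] := by
    have hcard : Nat.card F' = Nat.card F ^ n := by
      rw [← FiniteField.natCard_extension F p n]
      exact Nat.card_congr Equiv.ulift
    rw [← Nat.card_eq_fintype_card, hcard]
    refine Nat.ModEq.pow_totient ?_
    obtain ⟨e, -, he⟩ := FiniteField.card F p
    rw [Nat.card_eq_fintype_card, he]
    have : Nat.Coprime p ℓ := (Nat.coprime_primes Fact.out hℓ).2 hpℓ
    exact (this.mul_right this).pow_left _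
  let emb : ↥(D.group F) →* GL D.Idx F' := (gmap D ι).comp (D.group F).subtype
  obtain ⟨g, hg, hgm⟩ := exists_conj_monomial hF hq hWd hW (P.map emb) (hP.map emb) (by
    rintro _ ⟨y, -, rfl⟩; exact gmap_mem_group hF hF ι y.2)
  let j : F' →+* AlgebraicClosure F' := algebraMap F' _
  haveI : CharP F' p := charP_of_injective_ringHom ι.injective p
  refine ⟨AlgebraicClosure F', inferInstance, inferInstance,
    charP_of_injective_ringHom j.injective p,
    (gmap D j).comp ((MulAut.conj g).toMonoidHom.comp emb), ?_, fun y => ?_, fun y hy => ?_⟩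
  · exact (gmap_injective j).comp ((MulAut.conj g).injective.comp
      ((gmap_injective ι).comp (D.group F).subtype_injective))
  · exact gmap_mem_group hF hF j (Subgroup.mul_mem _ (Subgroup.mul_mem _ hg
      (gmap_mem_group hF hF ι y.2)) (Subgroup.inv_mem _ hg))
  · have h := hgm _ (Subgroup.mem_map_of_mem emb hy)
    obtain ⟨w, c, e⟩ := (mem_monomial_iff hF).1 h
    refine (mem_monomial_iff hF).2 ⟨w, fun i => Units.map j.toMonoidHom (c i), ?_⟩
    show gmap D j (g * emb y * g⁻¹) = _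
    rw [e, map_mul, gmap_nWord hF hF, gmap_torusHom]

end Cfsg.Agent.AltSec.E7
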