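import Cfsg.Agent.AltSec.E7.Eigen
import Cfsg.Agent.AltSec.E7.Monomial
import Cfsg.Agent.AltSec.E7.Torus
import Cfsg.Agent.AltSec.E7.Fixed
import Cfsg.Agent.Chev.WeylCard
import Mathlib.GroupTheory.SpecificGroups.Cyclic

/-!
Elementary abelian sections with monomial normaliser, seen in a maximal torus.
-/

set_option autoImplicit false

namespace Cfsg.Agent.AltSec.E7

open Cfsg.Lie Cfsg.Agent.Chev Cfsg.Agent.Chev.SS Cfsg.Agent.AltSec.E7.Check
open scoped MatrixGroups

universe u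

/-- The image of a root under a word of reflections. -/
def img (D : ChevalleyDatum) (w : List ℕ) (s : ℕ) : ℕ := w.foldr (fun i x => D.reflectRoot i x) s

variable {D : ChevalleyDatum} (hF : Facts.{u} D) {C : Alcove D} (hC : C.Valid) {k : Type u} [Field k]

theorem img_eq (w : List (Fin D.rank)) (s : Fin D.nroots) :
    img D (w.map Fin.val) s = (pWord hF w s : ℕ) := by
  induction w with
  | nil => rfl
  | cons i w ih =>
    rw [pWord_cons, Equiv.Perm.mul_apply, wPerm_val, ← ih]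
    rfl

include hF in
/-- The entries of a torus element. -/
theorem torus_diag (c : Fin D.rank → kˣ) :
    ((torusHom c : GL D.Idx k) : Matrix D.Idx D.Idx k) = Matrix.diagonal
      (Sum.elim (fun _ => (1 : k)) fun s : Fin D.nroots => (chiU c (s : ℕ) : k)) := by
  ext a b
  rw [torusHom_apply, Matrix.diagonal_apply]

include hF in
theorem exists_torus {g : GL D.Idx k} (hg : g ∈ D.diagonalSubgroup k) :
    ∃ c : Fin D.rank → kˣ, torusHom c = g :=
  (mem_diagonal_iff hF).1 hg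

/-- The exponents of the diagonal entries. -/
def expo (S : Sys) (b : List ℕ) : D.Idx → ℕ :=
  Sum.elim (fun _ => 0) fun s : Fin D.nroots => (S.V b).getD s 0

theorem entry_eq {S : Sys} {ζ : kˣ} {c : Fin D.rank → kˣ} {b : List ℕ} (h : Logs S ζ c b) :
    (Sum.elim (fun _ => (1 : k)) fun s : Fin D.nroots => (chiU c (s : ℕ) : k)) =
      fun a => ((ζ ^ expo (D := D) S b a : kˣ) : k) := by
  funext a
  rcases a with i | s
  · simp [expo]
  · simp [expo, h.2 s]

theorem V_lt {S : Sys} (hok : S.ok = true) (b : List ℕ) (s : ℕ) : (S.V b).getD s 0 < S.ℓ := by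
  simp only [Sys.ok, Bool.and_eq_true, Nat.ble_eq] at hok
  rw [List.getD_eq_getElem?_getD]
  rcases e : (S.V b)[s]? with _ | u
  · exact hok.1.1.1
  · obtain ⟨row, -, rfl⟩ := List.mem_map.1 (List.mem_of_getElem? e)
    exact Nat.mod_lt _ hok.1.1.1

variable {S : Sys} (hS : tableOK D C S = true) {ζ : kˣ} (hζ : IsPrimitiveRoot ζ S.ℓ)

include hS in
theorem V_eq_ofFn (b : List ℕ) : S.V b = List.ofFn fun s : Fin D.nroots => (S.V b).getD s 0 := by
  obtain ⟨-, -, hR, -, -⟩ := tableOK_parts hS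
  refine List.ext_getElem (by simp [Sys.V, vals, hR]) fun i h1 h2 => ?_
  simp [List.getElem?_eq_getElem h1]

include hζ in
/-- Exponents of equal powers of the root of unity agree. -/
theorem expo_eq (hok : S.ok = true) {b : List ℕ} (a : D.Idx) {e : ℕ}
    (h : ((ζ ^ e : kˣ) : k) = ((ζ ^ expo (D := D) S b a : kˣ) : k)) :
    expo (D := D) S b a = e % S.ℓ := by
  have h1 := pow_eq_pow_iff_modEq.1 (Units.ext h)
  rw [← hζ.eq_orderOf] at h1
  have hlt : expo (D := D) S b a < S.ℓ := by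
    rcases a with i | s
    · simp only [Sys.ok, Bool.and_eq_true, Nat.ble_eq] at hok
      exact hok.1.1.1
    · exact V_lt hok _ _
  rw [← Nat.mod_eq_of_lt hlt]
  exact h1.symm

include hF hS hζ in
/-- Conjugation to a power permutes the values. -/
theorem inv1_of_conj {c : Fin D.rank → kˣ} {b : List ℕ} (hb : Logs S ζ c b) {g : GL D.Idx k} {j : ℕ}
    (h : g * torusHom c * g⁻¹ = torusHom c ^ j) : S.Inv1 [j] (S.V b) := by
  obtain ⟨hok, -, -, -, -⟩ := tableOK_parts hS
  intro w j' hj'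
  obtain rfl := List.mem_singleton.1 hj'
  rw [mul_inv_eq_iff_eq_mul, ← map_pow] at h
  obtain ⟨σ, hσ⟩ := exists_perm_of_intertwine g
  have e := congrArg Units.val h
  rw [Units.val_mul, Units.val_mul, torus_diag hF, map_pow, Units.val_pow_eq_pow_val, torus_diag hF,
    Matrix.diagonal_pow, entry_eq hb] at e
  have h1 := hσ _ _ e
  rw [V_eq_ofFn hS b]
  refine inv_of_perm (ι := Fin D.rank) w _ _ σ.symm (by simp [mulT]) fun a => ?_
  have h2 := h1 (σ.symm a)
  rw [Equiv.apply_symm_apply, Pi.pow_apply, ← Units.val_pow_eq_pow_val, ← pow_mul] at h2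
  show expo (D := D) S b (σ.symm a) = mulT S.ℓ j' (expo (D := D) S b a)
  rw [expo_eq hζ hok _ h2, mulT, mul_comm]

include hF hS hζ in
/-- Conjugation to monomials permutes the pairs of values. -/
theorem inv2_of_conj {c1 c2 : Fin D.rank → kˣ} {b1 b2 : List ℕ} (hb1 : Logs S ζ c1 b1)
    (hb2 : Logs S ζ c2 b2) {g : GL D.Idx k} {m : ℕ × ℕ × ℕ × ℕ}
    (h1 : g * torusHom c1 * g⁻¹ = torusHom c1 ^ m.1 * torusHom c2 ^ m.2.1)
    (h2 : g * torusHom c2 * g⁻¹ = torusHom c1 ^ m.2.2.1 * torusHom c2 ^ m.2.2.2) :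
    S.Inv2 [m] (S.V b1) (S.V b2) := by
  obtain ⟨hok, -, hR, -, -⟩ := tableOK_parts hS
  intro w m' hm'
  obtain rfl := List.mem_singleton.1 hm'
  obtain ⟨σ, hσ⟩ := exists_perm_of_intertwine g
  have key : ∀ {c : Fin D.rank → kˣ} {b : List ℕ} {i j : ℕ}, Logs S ζ c b →
      g * torusHom c * g⁻¹ = torusHom c1 ^ i * torusHom c2 ^ j → ∀ a,
        expo (D := D) S b (σ.symm a) =
          (i * expo (D := D) S b1 a + j * expo (D := D) S b2 a) % S.ℓ := by
    intro c b i j hb h a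
    rw [mul_inv_eq_iff_eq_mul] at h
    have e := congrArg Units.val h
    rw [Units.val_mul, Units.val_mul, Units.val_mul, Units.val_pow_eq_pow_val,
      Units.val_pow_eq_pow_val, torus_diag hF, torus_diag hF, torus_diag hF, Matrix.diagonal_pow,
      Matrix.diagonal_pow, Matrix.diagonal_mul_diagonal, entry_eq hb, entry_eq hb1, entry_eq hb2] at e
    have h2 := hσ _ _ e (σ.symm a)
    rw [Equiv.apply_symm_apply, Pi.pow_apply, Pi.pow_apply, ← Units.val_pow_eq_pow_val,
      ← Units.val_pow_eq_pow_val, ← Units.val_mul, ← pow_mul, ← pow_mul, ← pow_add] at h2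
    rw [expo_eq hζ hok _ h2, mul_comm i, mul_comm j]
  have hcode : code2 S.ℓ (S.V b1) (S.V b2) = List.ofFn fun s : Fin D.nroots =>
      (S.V b1).getD s 0 + S.ℓ * (S.V b2).getD s 0 := by
    refine List.ext_getElem (by simp [code2, Sys.V, vals, hR]) fun i h3 h4 => ?_
    have hi : i < S.rows.length := by simpa [code2, Sys.V, vals] using h3
    simp [code2, Sys.V, vals, hi]
  rw [hcode]
  refine inv_of_perm (ι := Fin D.rank) w _ _ σ.symm (by simp [linT2]) fun a => ?_
  have e : ∀ a, Sum.elim (fun _ : Fin D.rank => 0) (fun s : Fin D.nroots =>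
      (S.V b1).getD s 0 + S.ℓ * (S.V b2).getD s 0) a =
      expo (D := D) S b1 a + S.ℓ * expo (D := D) S b2 a := by
    rintro (i | s) <;> simp [expo]
  have hℓ : 0 < S.ℓ := by
    simp only [Sys.ok, Bool.and_eq_true, Nat.ble_eq] at hok
    exact hok.1.1.1
  have hlt : expo (D := D) S b1 a < S.ℓ := by
    rcases a with i | s
    · exact hℓ
    · exact V_lt hok _ _
  rw [e, e, key hb1 h1, key hb2 h2]
  simp [linT2, Nat.add_mul_mod_self_left, Nat.mod_eq_of_lt hlt, Nat.add_mul_div_left _ _ hℓ,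
    Nat.div_eq_of_lt hlt]

include hF hS hζ in
/-- Conjugation to monomials permutes the triples of values. -/
theorem inv3_of_conj {c : Fin 3 → Fin D.rank → kˣ} {b : Fin 3 → List ℕ}
    (hb : ∀ i, Logs S ζ (c i) (b i)) {g : GL D.Idx k}
    {m : (ℕ × ℕ × ℕ) × (ℕ × ℕ × ℕ) × (ℕ × ℕ × ℕ)}
    (h0 : g * torusHom (c 0) * g⁻¹ =
      torusHom (c 0) ^ m.1.1 * torusHom (c 1) ^ m.1.2.1 * torusHom (c 2) ^ m.1.2.2)
    (h1 : g * torusHom (c 1) * g⁻¹ =
      torusHom (c 0) ^ m.2.1.1 * torusHom (c 1) ^ m.2.1.2.1 * torusHom (c 2) ^ m.2.1.2.2)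
    (h2 : g * torusHom (c 2) * g⁻¹ =
      torusHom (c 0) ^ m.2.2.1 * torusHom (c 1) ^ m.2.2.2.1 * torusHom (c 2) ^ m.2.2.2.2) :
    S.Inv3 [m] (S.V (b 0)) (S.V (b 1)) (S.V (b 2)) := by
  obtain ⟨hok, -, hR, -, -⟩ := tableOK_parts hS
  intro w m' hm'
  obtain rfl := List.mem_singleton.1 hm'
  obtain ⟨σ, hσ⟩ := exists_perm_of_intertwine g
  have key : ∀ {l : Fin 3} {i j n : ℕ},
      g * torusHom (c l) * g⁻¹ =
        torusHom (c 0) ^ i * torusHom (c 1) ^ j * torusHom (c 2) ^ n → ∀ a,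
        expo (D := D) S (b l) (σ.symm a) = (i * expo (D := D) S (b 0) a +
          j * expo (D := D) S (b 1) a + n * expo (D := D) S (b 2) a) % S.ℓ := by
    intro l i j n h a
    rw [mul_inv_eq_iff_eq_mul] at h
    have e := congrArg Units.val h
    rw [Units.val_mul, Units.val_mul, Units.val_mul, Units.val_mul, Units.val_pow_eq_pow_val,
      Units.val_pow_eq_pow_val, Units.val_pow_eq_pow_val, torus_diag hF, torus_diag hF,
      torus_diag hF, torus_diag hF, Matrix.diagonal_pow, Matrix.diagonal_pow, Matrix.diagonal_pow,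
      Matrix.diagonal_mul_diagonal, Matrix.diagonal_mul_diagonal, entry_eq (hb l), entry_eq (hb 0),
      entry_eq (hb 1), entry_eq (hb 2)] at e
    have h2 := hσ _ _ e (σ.symm a)
    rw [Equiv.apply_symm_apply, Pi.pow_apply, Pi.pow_apply, Pi.pow_apply] at h2
    rw [← Units.val_pow_eq_pow_val, ← Units.val_pow_eq_pow_val, ← Units.val_pow_eq_pow_val,
      ← Units.val_mul, ← Units.val_mul, ← pow_mul, ← pow_mul, ← pow_mul, ← pow_add, ← pow_add] at h2
    rw [expo_eq hζ hok _ h2, mul_comm i, mul_comm j, mul_comm n]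
  have hcode : code3 S.ℓ (S.V (b 0)) (S.V (b 1)) (S.V (b 2)) = List.ofFn fun s : Fin D.nroots =>
      (S.V (b 0)).getD s 0 + S.ℓ * ((S.V (b 1)).getD s 0 + S.ℓ * (S.V (b 2)).getD s 0) := by
    refine List.ext_getElem (by simp [code3, code2, Sys.V, vals, hR]) fun i h3 h4 => ?_
    have hi : i < S.rows.length := by simpa [code3, code2, Sys.V, vals] using h3
    simp [code3, code2, Sys.V, vals, hi]
  rw [hcode]
  refine inv_of_perm (ι := Fin D.rank) w _ _ σ.symm (by simp [linT3]) fun a => ?_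
  have e : ∀ a, Sum.elim (fun _ : Fin D.rank => 0) (fun s : Fin D.nroots =>
      (S.V (b 0)).getD s 0 + S.ℓ * ((S.V (b 1)).getD s 0 + S.ℓ * (S.V (b 2)).getD s 0)) a =
      expo (D := D) S (b 0) a + S.ℓ * (expo (D := D) S (b 1) a + S.ℓ * expo (D := D) S (b 2) a) := by
    rintro (i | s) <;> simp [expo]
  have hℓ : 0 < S.ℓ := by
    simp only [Sys.ok, Bool.and_eq_true, Nat.ble_eq] at hok
    exact hok.1.1.1
  have hlt : ∀ l, expo (D := D) S (b l) a < S.ℓ := fun l => by
    rcases a with i | s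
    · exact hℓ
    · exact V_lt hok _ _
  rw [e, e, key h0, key h1, key h2]
  simp [linT3, Nat.add_mul_mod_self_left, Nat.mod_eq_of_lt (hlt _), Nat.add_mul_div_left _ _ hℓ,
    Nat.div_eq_of_lt (hlt _)]

variable [IsAlgClosed k]

include hF hC hS hζ in
/-- Torus elements of order dividing `ℓ` have logarithms. -/
theorem exists_logs' {c : Fin D.rank → kˣ} (hc : (torusHom c : GL D.Idx k) ^ S.ℓ = 1) :
    ∃ b, Logs S ζ c b := by
  refine exists_logs hF hC hS hζ fun s => ?_
  rw [← map_pow] at hc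
  rw [← TorusTest.chiU_pow']
  exact (torusHom_eq_one_iff _).1 hc s

include hF hC hS hζ in
/-- A torus element commuting with a monomial element inducing a permutation of prime order fixes
the values moved by one given word. -/
theorem fixed_false {A P : List (List ℕ)} {free : List ℕ} {T : List (List ℕ)} {j : ℕ}
    (hc : S.fixCheck A P free T [j] = true) {w0 : List (Fin D.rank)}
    (hA : A = List.ofFn fun i : Fin D.rank =>
      S.rows.getD (img D (w0.map Fin.val) (D.simple i)) [])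
    (hℓ : S.ℓ.Prime) (h0 : orderOf (pWord hF w0) = S.ℓ)
    (hW : ¬ S.ℓ * S.ℓ ∣ Nat.card ↥(weyl hF)) {z n g : GL D.Idx k}
    (hz : z ∈ D.diagonalSubgroup k) (hz1 : z ≠ 1) (hzℓ : z ^ S.ℓ = 1)
    (hn : n ∈ D.monomialSubgroup k) (hnd : n ∉ D.diagonalSubgroup k) {a : ℕ}
    (hna : n ^ S.ℓ ^ a = 1) (hcomm : n * z = z * n) (hconj : g * z * g⁻¹ = z ^ j) : False := by
  obtain ⟨hok, hrk, hR, hsI, -⟩ := tableOK_parts hS
  haveI : Fact S.ℓ.Prime := ⟨hℓ⟩
  obtain ⟨c, rfl⟩ := exists_torus hF hz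
  set π := monPerm hF n with hπ
  have hfix : ∀ r : Fin D.nroots, chiU c (π r : ℕ) = chiU c (r : ℕ) :=
    CentTorus.chiU_conj hF (isMon_monPerm hF hn) hcomm
  have hπW : π ∈ weyl hF := monPerm_mem_weyl hF hn
  have hπ1 : π ≠ 1 := fun e => hnd (mem_diagonal_of_isMon_one hF hn (by
    have h := isMon_monPerm hF hn; rwa [← hπ, e] at h))
  have hπa : π ^ S.ℓ ^ a = 1 := by
    have h := map_pow (monHom hF (F := k)) ⟨n, hn⟩ (S.ℓ ^ a)
    rw [show (⟨n, hn⟩ : ↥(D.monomialSubgroup k)) ^ S.ℓ ^ a = 1 from Subtype.ext hna, map_one] at h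
    exact h.symm
  -- both cyclic groups are Sylow subgroups
  have hsyl : ∀ x : ↥(weyl hF), x ≠ 1 → (∃ i, x ^ S.ℓ ^ i = 1) →
      ∃ Q : Sylow S.ℓ ↥(weyl hF), (Q : Subgroup ↥(weyl hF)) = Subgroup.zpowers x := by
    intro x hx hxi
    obtain ⟨i, hxi⟩ := hxi
    have hp : IsPGroup S.ℓ (Subgroup.zpowers x) := by
      obtain ⟨e, -, he⟩ := (Nat.dvd_prime_pow hℓ).1 (orderOf_dvd_of_pow_eq_one hxi)
      exact IsPGroup.of_card (n := e) (by rw [Nat.card_zpowers, he])
    obtain ⟨Q, hQ⟩ := hp.exists_le_sylow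
    refine ⟨Q, (Subgroup.eq_of_le_of_card_ge hQ ?_).symm⟩
    have h1 : Nat.card (Q : Subgroup ↥(weyl hF)) ∣ S.ℓ := by
      obtain ⟨e, he⟩ := IsPGroup.iff_card.1 Q.2
      rw [he]
      rcases e with _ | _ | e
      · simp
      · simp
      · exact absurd ((Dvd.intro _ (by rw [pow_add]; ring : S.ℓ * S.ℓ * S.ℓ ^ e = S.ℓ ^ (e + 2))).trans
          (he ▸ Subgroup.card_subgroup_dvd_card _)) hW
    refine Nat.le_of_dvd (Nat.card_pos) (h1.trans ?_)
    rw [Nat.card_zpowers]
    obtain ⟨e, -, he⟩ := (Nat.dvd_prime_pow hℓ).1 (orderOf_dvd_of_pow_eq_one hxi)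
    rcases e with _ | e
    · rw [pow_zero, orderOf_eq_one_iff] at he
      exact absurd he hx
    · rw [he]; exact dvd_pow_self _ e.succ_ne_zero
  obtain ⟨Q1, hQ1⟩ := hsyl ⟨π, hπW⟩ (fun e => hπ1 (congrArg Subtype.val e)) ⟨a, Subtype.ext hπa⟩
  have hp0 : orderOf (⟨pWord hF w0, pWord_mem hF w0⟩ : ↥(weyl hF)) = S.ℓ := by
    rw [Subgroup.orderOf_mk]; exact h0
  obtain ⟨Q0, hQ0⟩ := hsyl ⟨pWord hF w0, pWord_mem hF w0⟩ (fun e => by
    rw [← orderOf_eq_one_iff, hp0] at e; exact hℓ.one_lt.ne' e) ⟨1, by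
    rw [pow_one]; conv_lhs => arg 2; rw [← hp0]
    exact pow_orderOf_eq_one _⟩
  obtain ⟨u, hu⟩ := MulAction.exists_smul_eq ↥(weyl hF) Q0 Q1
  have hmem : u * ⟨pWord hF w0, pWord_mem hF w0⟩ * u⁻¹ ∈ Subgroup.zpowers (⟨π, hπW⟩ : ↥(weyl hF)) := by
    rw [← hQ1, ← hu, Sylow.coe_subgroup_smul, hQ0]
    exact ⟨_, Subgroup.mem_zpowers _, rfl⟩
  obtain ⟨i, hi⟩ := Subgroup.mem_zpowers_iff.1 hmem
  have hfix' : ∀ (r : Fin D.nroots), chiU c ((π ^ i) r : ℕ) = chiU c (r : ℕ) := by
    induction i using Int.induction_on with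
    | zero => simp
    | succ i ih =>
      intro r; rw [zpow_add, zpow_one, Equiv.Perm.mul_apply]
      have : ∀ (e : ℕ) (r : Fin D.nroots), chiU c ((π ^ e) r : ℕ) = chiU c (r : ℕ) := by
        intro e
        induction e with
        | zero => simp
        | succ e ih2 => intro r; rw [pow_succ, Equiv.Perm.mul_apply, ih2, hfix]
      rw [zpow_natCast, this, hfix]
    | pred i ih =>
      have : ∀ (e : ℕ) (r : Fin D.nroots), chiU c ((π⁻¹ ^ e) r : ℕ) = chiU c (r : ℕ) := by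
        intro e
        induction e with
        | zero => simp
        | succ e ih2 =>
          intro r
          rw [pow_succ, Equiv.Perm.mul_apply, ih2, ← hfix (π⁻¹ r), Equiv.Perm.coe_inv,
            Equiv.apply_symm_apply]
      intro r
      rw [show -(i : ℤ) - 1 = -((i + 1 : ℕ) : ℤ) by push_cast; ring, zpow_neg, zpow_natCast,
        ← inv_pow, this]
  obtain ⟨wu, hwu⟩ := exists_pWord hF u.2
  set c' := wordC D wu.reverse c with hc'
  have hc'v : ∀ r : Fin D.nroots, chiU c' (r : ℕ) = chiU c ((u : Equiv.Perm (Fin D.nroots)) r : ℕ) := fun r => by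
    conv_lhs => rw [show r = pWord hF wu.reverse ((u : Equiv.Perm (Fin D.nroots)) r) by
      rw [pWord_reverse, hwu, Equiv.Perm.coe_inv, Equiv.symm_apply_apply]]
    rw [hc', chiU_wordC hF]
  have hc'fix : ∀ r : Fin D.nroots, chiU c' (pWord hF w0 r : ℕ) = chiU c' (r : ℕ) := fun r => by
    rw [hc'v, hc'v]
    have e := congrArg (Subgroup.subtype _) hi
    simp only [map_zpow, map_mul, map_inv, Subgroup.coe_subtype] at e
    have e2 : (u : Equiv.Perm (Fin D.nroots)) (pWord hF w0 r) = (π ^ i) ((u : Equiv.Perm (Fin D.nroots)) r) := by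
      rw [e, Equiv.Perm.mul_apply, Equiv.Perm.mul_apply, Equiv.Perm.coe_inv, Equiv.symm_apply_apply]
    rw [e2, hfix']
  have hconj' : (nWord hF wu.reverse * g * (nWord hF wu.reverse)⁻¹ : GL D.Idx k) * torusHom c' *
      (nWord hF wu.reverse * g * (nWord hF wu.reverse)⁻¹)⁻¹ = torusHom c' ^ j := by
    have e : (torusHom c' : GL D.Idx k) = nWord hF wu.reverse * torusHom c * (nWord hF wu.reverse)⁻¹ :=
      eq_mul_inv_of_mul_eq (torusHom_wordC hF _ c)
    rw [e, conj_pow, ← hconj]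
    group
  obtain ⟨b, hb⟩ := exists_logs' hF hC hS hζ (c := c') (by
    have e : (torusHom c' : GL D.Idx k) = nWord hF wu.reverse * torusHom c * (nWord hF wu.reverse)⁻¹ :=
      eq_mul_inv_of_mul_eq (torusHom_wordC hF _ c)
    rw [e, conj_pow, hzℓ, mul_one, mul_inv_cancel])
  have hlen : S.rows.length = D.nroots := by rw [hR, List.length_ofFn]
  have hbfix : Check.app S.ℓ A b = b := by
    conv_rhs => rw [Sys.eq_of_V hok hb.1, hsI]
    refine List.ext_getElem (by simp [Check.app, hA]) fun i h1 h2 => ?_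
    have hi' : i < D.rank := by simpa using h2
    have hs := hF.simple_lt i hi'
    set sr : Fin D.nroots := ⟨D.simple i, hs⟩
    have e1 : img D (w0.map Fin.val) (D.simple i) = (pWord hF w0 sr : ℕ) := img_eq hF w0 sr
    have hlt : (pWord hF w0 sr : ℕ) < S.rows.length := hlen.symm ▸ (pWord hF w0 sr).2
    have e2 : (S.V b).getD (pWord hF w0 sr : ℕ) 0 = (S.V b).getD (sr : ℕ) 0 :=
      hζ.pow_inj (V_lt hok _ _) (V_lt hok _ _) (by rw [← hb.2, ← hb.2, hc'fix])
    simp [Check.app, hA, e1, hlt, sr] at e2 ⊢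
    rw [← e2]
    simp only [Sys.V, vals, List.getElem?_map]
    rw [List.getElem?_eq_getElem (show ((pWord hF w0 ⟨D.simple i, hs⟩ : Fin D.nroots) : ℕ) < S.rows.length from hlt)]; rfl
  have hz0 := Sys.eq_zero_of_fixed hc hb.1 hbfix (inv1_of_conj hF hS hζ hb hconj')
  refine hz1 ((torusHom_eq_one_iff c).2 fun s => ?_)
  obtain ⟨r, rfl⟩ := (u : Equiv.Perm (Fin D.nroots)).surjective s
  rw [← hc'v, hb.2]
  have : (S.V b).getD r 0 = 0 := by
    simp only [Sys.V, vals, List.getD_eq_getElem?_getD, List.getElem?_map]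
    rcases e : S.rows[(r : ℕ)]? with _ | row
    · rfl
    · have hb0 : b = List.replicate b.length 0 := List.eq_replicate_iff.2 ⟨rfl, hz0⟩
      simp only [Option.map_some, Option.getD_some, valN]
      rw [show (List.zipWith (· * ·) row b).sum = 0 from List.sum_eq_zero fun x hx => by
        rw [hb0] at hx
        obtain ⟨i, hi, rfl⟩ := List.getElem_of_mem hx
        simp, Nat.zero_mod]
  rw [this, pow_zero]

end Cfsg.Agent.AltSec.E7
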