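import Cfsg.Agent.AltSec.E7.Data7
import Mathlib.Tactic.IntervalCases

/-! The search for pairs modulo 7, part 0. -/

set_option autoImplicit false
set_option maxRecDepth 100000
set_option Elab.async false

namespace Cfsg.Agent.AltSec.E7.Data7

open Cfsg.Agent.AltSec.E7.Check

theorem frame0 : sys.frame2 loc0 packed0 pairMaps pairs0 = true := by decide +kernel

theorem chunk0_0 : sys.chunk loc0 packed0 pairMaps pairs0 0 = true := by decide +kernel

theorem chunk0_1 : sys.chunk loc0 packed0 pairMaps pairs0 1 = true := by decide +kernel

theorem chunk0_2 : sys.chunk loc0 packed0 pairMaps pairs0 2 = true := by decide +kernel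

theorem chunk0_3 : sys.chunk loc0 packed0 pairMaps pairs0 3 = true := by decide +kernel

theorem chunk0_4 : sys.chunk loc0 packed0 pairMaps pairs0 4 = true := by decide +kernel

theorem chunk0_5 : sys.chunk loc0 packed0 pairMaps pairs0 5 = true := by decide +kernel

theorem chunk0_6 : sys.chunk loc0 packed0 pairMaps pairs0 6 = true := by decide +kernel

theorem pair0 : sys.check2 loc0 pairMaps pairs0 = true :=
  Sys.check2_of_chunks frame0 fun x0 hx => by
    have hx' : x0 < 7 := hx
    interval_cases x0
    · exact chunk0_0
    · exact chunk0_1
    · exact chunk0_2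
    · exact chunk0_3
    · exact chunk0_4
    · exact chunk0_5
    · exact chunk0_6

end Cfsg.Agent.AltSec.E7.Data7
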