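import Cfsg.Agent.AltSec.E7.Data7
import Mathlib.Tactic.IntervalCases

/-! The search for pairs modulo 7, part 1. -/

set_option autoImplicit false
set_option maxRecDepth 100000
set_option Elab.async false

namespace Cfsg.Agent.AltSec.E7.Data7

open Cfsg.Agent.AltSec.E7.Check

theorem frame1 : sys.frame2 loc1 packed1 pairMaps pairs1 = true := by decide +kernel

theorem chunk1_0 : sys.chunk loc1 packed1 pairMaps pairs1 0 = true := by decide +kernel

theorem chunk1_1 : sys.chunk loc1 packed1 pairMaps pairs1 1 = true := by decide +kernel

theorem chunk1_2 : sys.chunk loc1 packed1 pairMaps pairs1 2 = true := by decide +kernel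

theorem chunk1_3 : sys.chunk loc1 packed1 pairMaps pairs1 3 = true := by decide +kernel

theorem chunk1_4 : sys.chunk loc1 packed1 pairMaps pairs1 4 = true := by decide +kernel

theorem chunk1_5 : sys.chunk loc1 packed1 pairMaps pairs1 5 = true := by decide +kernel

theorem chunk1_6 : sys.chunk loc1 packed1 pairMaps pairs1 6 = true := by decide +kernel

theorem pair1 : sys.check2 loc1 pairMaps pairs1 = true :=
  Sys.check2_of_chunks frame1 fun x0 hx => by
    have hx' : x0 < 7 := hx
    interval_cases x0
    · exact chunk1_0
    · exact chunk1_1
    · exact chunk1_2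
    · exact chunk1_3
    · exact chunk1_4
    · exact chunk1_5
    · exact chunk1_6

end Cfsg.Agent.AltSec.E7.Data7
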