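import Cfsg.Agent.AltSec.E7.Data7
import Mathlib.Tactic.IntervalCases

/-! The search for pairs modulo 7, part 2. -/

set_option autoImplicit false
set_option maxRecDepth 100000
set_option Elab.async false

namespace Cfsg.Agent.AltSec.E7.Data7

open Cfsg.Agent.AltSec.E7.Check

theorem frame2 : sys.frame2 loc2 packed2 pairMaps pairs2 = true := by decide +kernel

theorem chunk2_0 : sys.chunk loc2 packed2 pairMaps pairs2 0 = true := by decide +kernel

theorem chunk2_1 : sys.chunk loc2 packed2 pairMaps pairs2 1 = true := by decide +kernel

theorem chunk2_2 : sys.chunk loc2 packed2 pairMaps pairs2 2 = true := by decide +kernel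

theorem chunk2_3 : sys.chunk loc2 packed2 pairMaps pairs2 3 = true := by decide +kernel

theorem chunk2_4 : sys.chunk loc2 packed2 pairMaps pairs2 4 = true := by decide +kernel

theorem chunk2_5 : sys.chunk loc2 packed2 pairMaps pairs2 5 = true := by decide +kernel

theorem chunk2_6 : sys.chunk loc2 packed2 pairMaps pairs2 6 = true := by decide +kernel

theorem pair2 : sys.check2 loc2 pairMaps pairs2 = true :=
  Sys.check2_of_chunks frame2 fun x0 hx => by
    have hx' : x0 < 7 := hx
    interval_cases x0
    · exact chunk2_0
    · exact chunk2_1
    · exact chunk2_2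
    · exact chunk2_3
    · exact chunk2_4
    · exact chunk2_5
    · exact chunk2_6

end Cfsg.Agent.AltSec.E7.Data7
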