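import Cfsg.Agent.AltSec.E7.Main

/-!
The lifted elementary abelian group, monomial in an algebraically closed field.
-/

set_option autoImplicit false

namespace Cfsg.Agent.AltSec.E7

open Cfsg.Lie Cfsg.Agent.Chev Cfsg.Agent.Chev.SS Cfsg.Agent.AltSec.E7.Check
open scoped MatrixGroups

universe u v

/-- The conclusion of the lifting: commuting monomial elements with the prescribed conjugates. -/
structure Lifted (D : ChevalleyDatum) (S : Sys) {A : Type v} [Group A] (R : Subgroup A) {n : ℕ}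
    (x : Fin n → A) (k : Type u) [Field k] where
  w : Fin n → GL D.Idx k
  mon : ∀ i, w i ∈ D.monomialSubgroup k
  comm : ∀ i j, w i * w j = w j * w i
  pow : ∀ i, w i ^ S.ℓ = 1
  conj : ∀ r ∈ R, ∃ g ∈ D.group k, ∀ i j, ∀ a : ℕ, r * x i * r⁻¹ = x j ^ a →
    g * w i * g⁻¹ = w j ^ a
  indep : ∀ i j, i ≠ j → ∀ a b : ℕ, w i ^ a * w j ^ b = 1 → x i ^ a * x j ^ b = 1
  indep3 : ∀ i j l, ∀ a b c : ℕ, w i ^ a * w j ^ b * w l ^ c = 1 → x i ^ a * x j ^ b * x l ^ c = 1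
  step : ∀ i j, w j ∉ D.diagonalSubgroup k →
    ∃ a < S.ℓ, w i * w j ^ a ∈ D.diagonalSubgroup k

variable {D : ChevalleyDatum} (hF : Facts.{u} D) {C : Alcove D} (hC : C.Valid)

set_option maxHeartbeats 1600000 in
include hF hC in
/-- A monomially normalised elementary abelian section lifts to monomial matrices. -/
theorem exists_lifted {F : Type u} [Field F] [Finite F] (p : ℕ) [Fact p.Prime] [CharP F p]
    {S : Sys} (hS : tableOK D C S = true) (hℓ : S.ℓ.Prime) (hpℓ : p ≠ S.ℓ)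
    (hWd : S.ℓ ∣ Nat.card ↥(weyl hF)) (hW : ¬ S.ℓ * S.ℓ ∣ Nat.card ↥(weyl hF))
    {Am P : List (List ℕ)} {free : List ℕ} {T : List (List ℕ)} {j : ℕ}
    (hc : S.fixCheck Am P free T [j] = true) {w0 : List (Fin D.rank)}
    (hA : Am = List.ofFn fun i : Fin D.rank =>
      S.rows.getD (img D (w0.map Fin.val) (D.simple i)) [])
    (h0 : orderOf (pWord hF w0) = S.ℓ) (H : Subgroup ↥(D.group F))
    {A : Type v} [Group A] (φ : ↥H →* A) (hφ : Function.Surjective φ) {E R : Subgroup A}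
    (hEcomm : ∀ a ∈ E, ∀ b ∈ E, a * b = b * a) (hEexp : ∀ a ∈ E, a ^ S.ℓ = 1)
    (hE2 : S.ℓ * S.ℓ ∣ Nat.card E)
    (hRE : ∀ r ∈ R, ∀ y ∈ E, r * y * r⁻¹ ∈ E) (hRcop : Nat.Coprime S.ℓ (Nat.card R))
    (hirr : Lift.Irred E R)
    (hscal : Nat.card E = S.ℓ * S.ℓ →
      ∃ r ∈ R, ∃ e : ℕ, e * e ≡ j [MOD S.ℓ] ∧ ∀ y ∈ E, r * y * r⁻¹ = y ^ e)
    {n : ℕ} (x : Fin n → A) (hxE : ∀ i, x i ∈ E) (hxo : ∀ i, orderOf (x i) = S.ℓ)
    (hxi : ∀ i j, ∀ a b : ℕ, x i ^ a = x j ^ b → i = j ∨ (S.ℓ ∣ a ∧ S.ℓ ∣ b))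
    (hmon : ∀ r ∈ R, ∀ i, ∃ j, ∃ a : ℕ, r * x i * r⁻¹ = x j ^ a) :
    ∃ (k : Type u) (_ : Field k) (_ : IsAlgClosed k) (_ : CharP k p),
      Nonempty (Lifted D S R x k) := by
  classical
  haveI : Fact S.ℓ.Prime := ⟨hℓ⟩
  haveI : Finite A := Finite.of_surjective φ hφ
  have hEp : IsPGroup S.ℓ E := fun a => ⟨1, Subtype.ext (by rw [pow_one]; exact hEexp a a.2)⟩
  have hEne : E ≠ ⊥ := by
    intro e
    rw [e, Subgroup.card_bot] at hE2
    have := Nat.le_of_dvd one_pos hE2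
    nlinarith [hℓ.two_le]
  obtain ⟨Q, R', hQp, hR'cop, hQn, hQim, hact, hact', hmin⟩ :=
    Lift.exists_minimal hφ hEcomm hEp hEne hRE hRcop hirr
  obtain ⟨k, hk1, hk2, hk3, Φ, hΦi, hΦg, hΦm⟩ :=
    exists_monomial_embedding hF p hpℓ hWd hW (Q.map H.subtype) (hQp.map _)
  letI := hk1
  haveI := hk2
  haveI := hk3
  refine ⟨k, hk1, hk2, hk3, ?_⟩
  let Ψ : ↥H →* GL D.Idx k := Φ.comp H.subtype
  have hΨi : Function.Injective Ψ := hΦi.comp H.subtype_injective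
  have hQmon : ∀ y ∈ Q, Ψ y ∈ D.monomialSubgroup k := fun y hy =>
    hΦm _ (Subgroup.mem_map_of_mem _ hy)
  let χ : ↥Q →* Equiv.Perm (Fin D.nroots) :=
    (monHom hF (F := k)).comp
      ((Ψ.comp Q.subtype).codRestrict (D.monomialSubgroup k) fun y => hQmon y y.2)
  set B : Subgroup ↥H := (D.diagonalSubgroup k).comap Ψ ⊓ Q with hB
  have hBχ : ∀ y : ↥Q, (y : ↥H) ∈ B ↔ χ y = 1 := by
    intro y
    have h := congrArg (fun K : Subgroup ↥(D.monomialSubgroup k) =>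
      (⟨Ψ y, hQmon y y.2⟩ : ↥(D.monomialSubgroup k)) ∈ K) (monHom_ker hF (F := k))
    simp only [MonoidHom.mem_ker, Subgroup.mem_subgroupOf, eq_iff_iff] at h
    exact ⟨fun hy => h.2 hy.1, fun hy => ⟨h.1 hy, y.2⟩⟩
  have hrange : Nat.card χ.range ∣ S.ℓ := by
    have h1 : χ.range ≤ weyl hF := by
      rintro _ ⟨y, rfl⟩
      exact monPerm_mem_weyl hF (hQmon y y.2)
    have h2 : IsPGroup S.ℓ χ.range := hQp.of_surjective χ.rangeRestrict χ.rangeRestrict_surjective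
    obtain ⟨e, he⟩ := IsPGroup.iff_card.1 h2
    rw [he]
    rcases e with _ | _ | e
    · simp
    · simp
    · exact absurd ((Dvd.intro _ (by rw [pow_add]; ring : S.ℓ * S.ℓ * S.ℓ ^ e = S.ℓ ^ (e + 2))).trans
        (he ▸ Subgroup.card_dvd_of_le h1)) hW
  have hBi : B.relIndex Q ∣ S.ℓ := by
    have e : B.subgroupOf Q = χ.ker := Subgroup.ext fun y => by
      rw [Subgroup.mem_subgroupOf, MonoidHom.mem_ker]; exact hBχ y
    rw [Subgroup.relIndex, e, Subgroup.index_ker]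
    exact hrange
  have hBc : ∀ a ∈ B, ∀ b ∈ B, a * b = b * a := by
    intro a ha b hb
    apply hΨi
    obtain ⟨c, hc'⟩ := exists_torus hF ha.1
    obtain ⟨d, hd⟩ := exists_torus hF hb.1
    rw [map_mul, map_mul, ← hc', ← hd, ← map_mul, ← map_mul, mul_comm]
  have hBn : ∀ g ∈ Q, ∀ y ∈ B, g * y * g⁻¹ ∈ B := by
    intro g hg y hy
    have h := (hBχ ⟨y, hy.2⟩).1 hy
    have h2 := (hBχ (⟨g, hg⟩ * ⟨y, hy.2⟩ * ⟨g, hg⟩⁻¹)).2 (by
      rw [map_mul, map_mul, h, map_inv, mul_one, mul_inv_cancel])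
    rw [Subgroup.coe_mul, Subgroup.coe_mul, Subgroup.coe_inv] at h2
    exact h2
  have hk0 : (S.ℓ : k) ≠ 0 := fun h => hpℓ
    ((Nat.prime_dvd_prime_iff_eq Fact.out hℓ).1 ((CharP.cast_eq_zero_iff k p _).1 h))
  haveI : NeZero (S.ℓ : k) := ⟨hk0⟩
  obtain ⟨ζ₀, hζ₀⟩ := HasEnoughRootsOfUnity.exists_primitiveRoot k S.ℓ
  obtain ⟨ζ, rfl⟩ := hζ₀.isUnit hℓ.ne_zero
  have hζ : IsPrimitiveRoot ζ S.ℓ := IsPrimitiveRoot.coe_units_iff.1 hζ₀
  have hQc : ∀ a ∈ Q, ∀ b ∈ Q, a * b = b * a := by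
    rcases Lift.abelian_or_comm hEcomm hE2 hEexp hQn hQim hmin inf_le_right hBc hBn hBi with
      h | ⟨hcard, a, ha, y, hy, hyB, hzB, hz1, hzℓ, hzc, hzg⟩
    · exact h
    exfalso
    obtain ⟨r, hr, e, he, hre⟩ := hscal hcard
    obtain ⟨g, hg, hga⟩ := hact r hr
    set z := a * y * a⁻¹ * y⁻¹ with hz
    obtain ⟨m, hm⟩ := IsPGroup.iff_card.1 hQp
    refine fixed_false hF hC hS hζ hc hA hℓ h0 hW (z := Ψ z) (n := Ψ y) (g := Ψ g) (a := m)
      hzB.1 ?_ ?_ (hQmon y hy) ?_ ?_ ?_ ?_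
    · exact fun h => hz1 (hΨi (h.trans (map_one Ψ).symm))
    · rw [← map_pow, hzℓ, map_one]
    · exact fun h => hyB ⟨h, hy⟩
    · rw [← map_pow, ← hm, show y ^ Nat.card ↥Q = 1 from
        congrArg Subtype.val (pow_card_eq_one' (x := (⟨y, hy⟩ : ↥Q))), map_one]
    · rw [← map_mul, ← map_mul, hzc y hy]
    · rw [← map_inv, ← map_mul, ← map_mul, hzg g hg e (fun u hu => by rw [hga u hu, hre u hu]),
        map_pow, pow_eq_pow_iff_modEq]
      refine he.of_dvd ?_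
      rw [orderOf_injective Ψ hΨi]
      exact orderOf_dvd_of_pow_eq_one hzℓ
  obtain ⟨m, v, hvQ, hm1, hvu, hm2, hconj⟩ := Lift.exists_eigen hEne hQp hR'cop hQn hQim hact'
    hmin hQc x hxE hxo hxi hmon
  refine ⟨⟨fun i => Ψ (v i), fun i => hQmon _ (hvQ i), fun i l => ?_, fun i => ?_,
    fun r hr => ?_, fun i l _ a b h => ?_, fun i l q a b c h => ?_, fun i l hl => ?_⟩⟩
  · rw [← map_mul, ← map_mul, hQc _ (hvQ i) _ (hvQ l)]
  · obtain ⟨u, hu, hvu', -⟩ := hvu i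
    rw [← map_pow, hvu', ← pow_mul, hm1 u hu, map_one]
  · obtain ⟨g, hg, hga⟩ := hact r hr
    refine ⟨Ψ g, hΦg _, fun i l a h => ?_⟩
    rw [← map_inv, ← map_mul, ← map_mul, ← map_pow]
    exact congrArg Ψ (hconj g hg i l a ((hga _ (hxE i)).trans h))
  · obtain ⟨ui, hui, hvi, hφi⟩ := hvu i
    obtain ⟨ul, hul, hvl, hφl⟩ := hvu l
    rw [← map_pow, ← map_pow, ← map_mul, ← map_one Ψ] at h
    have h1 := hΨi h
    rw [hvi, hvl, ← pow_mul, ← pow_mul, mul_comm m, mul_comm m, pow_mul, pow_mul,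
      ← (show Commute (ui ^ a) (ul ^ b) from hQc _ (pow_mem hui a) _ (pow_mem hul b)).mul_pow] at h1
    have h2 := hm2 _ (mul_mem (pow_mem hui a) (pow_mem hul b)) h1
    rwa [map_mul, map_pow, map_pow, hφi, hφl] at h2
  · obtain ⟨ui, hui, hvi, hφi⟩ := hvu i
    obtain ⟨ul, hul, hvl, hφl⟩ := hvu l
    obtain ⟨uq, huq, hvq, hφq⟩ := hvu q
    rw [← map_pow, ← map_pow, ← map_pow, ← map_mul, ← map_mul, ← map_one Ψ] at h
    have h1 := hΨi h
    rw [hvi, hvl, hvq, ← pow_mul, ← pow_mul, ← pow_mul, mul_comm m, mul_comm m, mul_comm m, pow_mul,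
      pow_mul, pow_mul,
      ← (show Commute (ui ^ a) (ul ^ b) from hQc _ (pow_mem hui a) _ (pow_mem hul b)).mul_pow,
      ← (show Commute (ui ^ a * ul ^ b) (uq ^ c) from
        hQc _ (mul_mem (pow_mem hui a) (pow_mem hul b)) _ (pow_mem huq c)).mul_pow] at h1
    have h2 := hm2 _ (mul_mem (mul_mem (pow_mem hui a) (pow_mem hul b)) (pow_mem huq c)) h1
    rwa [map_mul, map_mul, map_pow, map_pow, map_pow, hφi, hφl, hφq] at h2
  · set yl : ↥Q := ⟨v l, hvQ l⟩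
    have hne : χ yl ≠ 1 := fun e => hl ((hBχ yl).2 e).1
    have htop : Subgroup.zpowers (χ yl) = χ.range := by
      refine Subgroup.eq_of_le_of_card_ge (Subgroup.zpowers_le.2 ⟨yl, rfl⟩) ?_
      rw [Nat.card_zpowers]
      rcases (Nat.dvd_prime hℓ).1 hrange with h | h
      · exact absurd (Subgroup.mem_bot.1 ((Subgroup.card_eq_one.1 h).le ⟨yl, rfl⟩)) hne
      · rw [h]
        have hd : orderOf (χ yl) ∣ S.ℓ := by
          have h5 : orderOf (⟨χ yl, ⟨yl, rfl⟩⟩ : χ.range) ∣ Nat.card χ.range := orderOf_dvd_natCard _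
          rw [← Subgroup.orderOf_coe, h] at h5
          exact h5
        rcases (Nat.dvd_prime hℓ).1 hd with h' | h'
        · exact absurd (orderOf_eq_one_iff.1 h') hne
        · exact h'.ge
    have hord : χ yl ^ S.ℓ = 1 := by
      obtain ⟨u, hu, hvu', -⟩ := hvu l
      rw [← map_pow, ← map_one χ]
      exact congrArg χ (Subtype.ext (show (v l) ^ S.ℓ = 1 by rw [hvu', ← pow_mul, hm1 u hu]))
    obtain ⟨i0, hi0⟩ := htop.ge (show (χ ⟨v i, hvQ i⟩)⁻¹ ∈ χ.range from inv_mem ⟨_, rfl⟩)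
    refine ⟨(i0 % S.ℓ).toNat, ?_, ?_⟩
    · have := Int.emod_lt_of_pos i0 (show (0 : ℤ) < S.ℓ by exact_mod_cast hℓ.pos)
      have := Int.emod_nonneg i0 (show (S.ℓ : ℤ) ≠ 0 by exact_mod_cast hℓ.ne_zero)
      omega
    have h2 : χ yl ^ ((i0 % S.ℓ).toNat) = χ yl ^ i0 := by
      rw [← zpow_natCast, Int.toNat_of_nonneg (Int.emod_nonneg _ (by exact_mod_cast hℓ.ne_zero))]
      conv_rhs => rw [← Int.mul_ediv_add_emod i0 S.ℓ, zpow_add, zpow_mul, zpow_natCast, hord,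
        one_zpow, one_mul]
    have h3 : χ (⟨v i, hvQ i⟩ * yl ^ ((i0 % S.ℓ).toNat)) = 1 := by
      rw [map_mul, map_pow, h2, show χ yl ^ i0 = (χ ⟨v i, hvQ i⟩)⁻¹ from hi0, mul_inv_cancel]
    have h4 := (hBχ _).2 h3
    rw [hB, Subgroup.mem_inf, Subgroup.mem_comap, Subgroup.coe_mul, Subgroup.coe_pow, map_mul,
      map_pow] at h4
    exact h4.1

end Cfsg.Agent.AltSec.E7
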