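import Cfsg.Agent.AltSec.E7.Data7
import Cfsg.Agent.AltSec.E7.Fixed
import Cfsg.Agent.AltSec.E7.Torus
import Cfsg.Agent.Chev.Semisimple.AlcoveE7

/-! The searches for single values modulo 7. -/

set_option autoImplicit false
set_option maxRecDepth 100000
set_option Elab.async false

namespace Cfsg.Agent.AltSec.E7.Data7

open Cfsg.Agent.AltSec.E7.Check Cfsg.Lie Cfsg.Agent.Chev.SS

theorem table_ok : tableOK chevE7 alcoveE7 sys = true := by decide +kernel

theorem single_ok : sys.check1 marks [3] moves reps = true := by decide +kernel

theorem fixed_ok : sys.fixCheck fixMap fixP fixFree fixS [3] = true := by decide +kernel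

end Cfsg.Agent.AltSec.E7.Data7
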