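import Cfsg.Agent.AltSec.E7.Apply
import Cfsg.Agent.AltSec.E7.Singles7
import Cfsg.Agent.AltSec.E7.Pairs7a
import Cfsg.Agent.AltSec.E7.Pairs7b
import Cfsg.Agent.AltSec.E7.Pairs7c
import Cfsg.Agent.Chev.WeylAll

/-!
The alternating group of degree 14 is no section of the groups of type E7 in characteristic other
than 7.
-/

set_option autoImplicit false
set_option maxRecDepth 100000

namespace Cfsg.Agent.AltSec.E7.Data7

open Cfsg.Lie Cfsg.Agent.Chev Cfsg.Agent.Chev.SS Cfsg.Agent.AltSec.E7 Cfsg.Agent.AltSec.E7.Check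
open scoped MatrixGroups

universe u

/-- A cycle. -/
def c0 : alternatingGroup (Fin 14) :=
  mkP [1, 2, 3, 4, 5, 6, 0, 7, 8, 9, 10, 11, 12, 13]
    [6, 0, 1, 2, 3, 4, 5, 7, 8, 9, 10, 11, 12, 13] (by decide) (by decide) (by decide +kernel)

/-- A cycle. -/
def c1 : alternatingGroup (Fin 14) :=
  mkP [0, 1, 2, 3, 4, 5, 6, 8, 9, 10, 11, 12, 13, 7]
    [0, 1, 2, 3, 4, 5, 6, 13, 7, 8, 9, 10, 11, 12] (by decide) (by decide) (by decide +kernel)

/-- The cycles. -/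
def x : Fin 2 → alternatingGroup (Fin 14) := ![c0, c1]

/-- A permutation normalising the cycles. -/
def g0 : alternatingGroup (Fin 14) :=
  mkP [0, 2, 4, 6, 1, 3, 5, 7, 8, 9, 10, 11, 12, 13]
    [0, 4, 1, 5, 2, 6, 3, 7, 8, 9, 10, 11, 12, 13] (by decide) (by decide) (by decide +kernel)

/-- A permutation normalising the cycles. -/
def g1 : alternatingGroup (Fin 14) :=
  mkP [0, 3, 6, 2, 5, 1, 4, 7, 10, 13, 9, 12, 8, 11]
    [0, 5, 3, 1, 6, 4, 2, 7, 12, 10, 8, 13, 11, 9] (by decide) (by decide) (by decide +kernel)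

/-- A permutation normalising the cycles. -/
def g2 : alternatingGroup (Fin 14) :=
  mkP [7, 10, 13, 9, 12, 8, 11, 0, 1, 2, 3, 4, 5, 6]
    [7, 8, 9, 10, 11, 12, 13, 0, 5, 3, 1, 6, 4, 2] (by decide) (by decide) (by decide +kernel)

def elems : List (List ℕ) :=
  [[0, 1, 2, 3, 4, 5, 6, 7, 8, 9, 10, 11, 12, 13], [0, 2, 4, 6, 1, 3, 5, 7, 8, 9, 10, 11, 12, 13], [0, 3, 6, 2, 5, 1, 4, 7, 10, 13, 9, 12, 8, 11], [7, 10, 13, 9, 12, 8, 11, 0, 1, 2, 3, 4, 5, 6], [0, 4, 1, 5, 2, 6, 3, 7, 8, 9, 10, 11, 12, 13], [0, 6, 5, 4, 3, 2, 1, 7, 10, 13, 9, 12, 8, 11], [7, 13, 12, 11, 10, 9, 8, 0, 1, 2, 3, 4, 5, 6], [0, 2, 4, 6, 1, 3, 5, 7, 9, 11, 13, 8, 10, 12], [7, 9, 11, 13, 8, 10, 12, 0, 3, 6, 2, 5, 1, 4], [7, 10, 13, 9, 12, 8, 11, 0, 2, 4, 6, 1, 3, 5], [0, 5, 3, 1, 6, 4, 2, 7, 10, 13, 9, 12, 8, 11], [7, 12, 10, 8, 13, 11, 9, 0, 1, 2, 3, 4, 5, 6], [0, 4, 1, 5, 2, 6, 3, 7, 9, 11, 13, 8, 10, 12], [7,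 11, 8, 12, 9, 13, 10, 0, 3, 6, 2, 5, 1, 4], [7, 13, 12, 11, 10, 9, 8, 0, 2, 4, 6, 1, 3, 5], [0, 6, 5, 4, 3, 2, 1, 7, 13, 12, 11, 10, 9, 8], [7, 9, 11, 13, 8, 10, 12, 0, 6, 5, 4, 3, 2, 1], [7, 10, 13, 9, 12, 8, 11, 0, 4, 1, 5, 2, 6, 3], [0, 3, 6, 2, 5, 1, 4, 7, 13, 12, 11, 10, 9, 8], [0, 1, 2, 3, 4, 5, 6, 7, 9, 11, 13, 8, 10, 12], [7, 8, 9, 10, 11, 12, 13, 0, 3, 6, 2, 5, 1, 4], [7, 12, 10, 8, 13, 11, 9, 0, 2, 4, 6, 1, 3, 5], [0, 5, 3, 1, 6, 4, 2, 7, 13, 12, 11, 10, 9, 8], [7, 11, 8, 12, 9, 13, 10, 0, 6, 5, 4, 3, 2, 1], [7, 13, 12, 11, 10, 9, 8, 0, 4, 1, 5, 2, 6, 3], [0, 4, 1, 5, 2, 6, 3, 7, 11, 8, 12, 9, 13, 10], [7, 9, 11, 13, 8, 10, 12, 0, 5, 3, 1, 6, 4, 2], [0, 2, 4, 6, 1, 3, 5, 7, 11, 8, 12, 9, 13, 10], [0, 3, 6, 2, 5, 1, 4, 7, 12, 10, 8, 13, 11, 9], [7, 8, 9, 10, 11, 12, 13, 0, 6, 5, 4, 3, 2, 1], [7, 12, 10, 8, 13, 11, 9, 0, 4, 1, 5, 2, 6, 3], [0, 1, 2, 3, 4, 5, 6, 7, 11, 8, 12,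 9, 13, 10], [7, 11, 8, 12, 9, 13, 10, 0, 5, 3, 1, 6, 4, 2], [0, 6, 5, 4, 3, 2, 1, 7, 12, 10, 8, 13, 11, 9], [0, 5, 3, 1, 6, 4, 2, 7, 12, 10, 8, 13, 11, 9], [7, 8, 9, 10, 11, 12, 13, 0, 5, 3, 1, 6, 4, 2]]

/-- The generators of the normaliser. -/
def gens : List (alternatingGroup (Fin 14)) := [g0, g1, g2]

theorem coprime_gens : Nat.Coprime 7 (Nat.card (Subgroup.closure {y | y ∈ gens})) :=
  haveI : Fact (Nat.Prime 7) := ⟨by norm_num⟩
  coprime_of_list gens elems (by decide +kernel) (by decide +kernel) (by decide +kernel)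

theorem hmon : ∀ r ∈ Subgroup.closure {y | y ∈ gens}, ∀ i, ∃ j, ∃ a : ℕ, r * x i * r⁻¹ = x j ^ a :=
  monomial_of_gens gens x (monomial_of_lists (ℓ := 7) gens x (by decide +kernel))

theorem x_comm : ∀ i j, x i * x j = x j * x i := by decide +kernel

theorem x_pow : ∀ i, x i ^ 7 = 1 := by decide +kernel

theorem x_ne : ∀ i, x i ≠ 1 := by decide +kernel

theorem x_ord (i : Fin 2) : orderOf (x i) = 7 :=
  haveI : Fact (Nat.Prime 7) := ⟨by norm_num⟩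
  orderOf_eq_prime (x_pow i) (x_ne i)

theorem x_indep_dec : ∀ i j, i ≠ j → ∀ a b : Fin 7, x i ^ (a : ℕ) = x j ^ (b : ℕ) → a = 0 ∧ b = 0 := by
  decide +kernel

theorem x_indep (i j : Fin 2) (a b : ℕ) (h : x i ^ a = x j ^ b) : i = j ∨ (7 ∣ a ∧ 7 ∣ b) := by
  refine or_iff_not_imp_left.2 fun hij => ?_
  rw [pow_eq_pow_mod a (x_pow i), pow_eq_pow_mod b (x_pow j)] at h
  obtain ⟨ha, hb⟩ := x_indep_dec i j hij ⟨a % 7, Nat.mod_lt _ (by norm_num)⟩
    ⟨b % 7, Nat.mod_lt _ (by norm_num)⟩ h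
  exact ⟨Nat.dvd_of_mod_eq_zero (congrArg Fin.val ha), Nat.dvd_of_mod_eq_zero (congrArg Fin.val hb)⟩

/-- The cycles generate an elementary abelian group. -/
noncomputable def E : Subgroup (alternatingGroup (Fin 14)) := Subgroup.closure (Set.range x)

theorem x_mem (i : Fin 2) : x i ∈ E := Subgroup.subset_closure (Set.mem_range_self i)

theorem word_fixed : chkOrd chevE7 e7Cert fixWord 7 = true := by decide +kernel

theorem fixMap_eq : fixMap = List.ofFn fun i : Fin chevE7.rank =>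
    sys.rows.getD (img chevE7 fixWord (chevE7.simple i)) [] := by decide +kernel

theorem marks_ok : ((List.ofFn fun i : Fin chevE7.rank => -alcoveE7.coord alcoveE7.low i) ==
    marks.map fun m => ((m : ℕ) : ℤ)) = true := by decide +kernel

theorem marks_pos : (marks.all fun m => 0 < m) = true := by decide

/-- The word of the fixed point search. -/
def fixWord' : List (Fin chevE7.rank) := fixWord.map fun i => Fin.ofNat 7 i

theorem fixWord_val : fixWord'.map Fin.val = fixWord := by decide +kernel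

theorem card_weyl : Nat.card ↥(weyl facts_chevE7.{u}) = 2903040 :=
  (Cfsg.Agent.Chev.card_weyl e7_weylChecks facts_chevE7).trans e7_weyl_size

theorem fixed2_ok : sys.fixCheck fixMap fixP fixFree fixS [2] = true := by decide +kernel

theorem diag_split : ∀ a b : Fin 7, g0 * (x 0 ^ (a : ℕ) * x 1 ^ (b : ℕ)) * g0⁻¹ *
    (x 0 ^ (a : ℕ) * x 1 ^ (b : ℕ))⁻¹ = x 0 ^ (a : ℕ) := by decide +kernel

theorem swap_x : g2 * x 0 * g2⁻¹ = x 1 ^ 3 ∧ g2 * x 1 * g2⁻¹ = x 0 := by decide +kernel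

theorem scal_x : ∀ i, g1 * x i * g1⁻¹ = x i ^ 3 := by decide +kernel

theorem pairs_rel : ∀ m ∈ pairMaps, ∃ r ∈ gens,
    ((m.2.1 = 0 ∧ r * x 0 * r⁻¹ = x 0 ^ m.1) ∨ (m.1 = 0 ∧ r * x 0 * r⁻¹ = x 1 ^ m.2.1)) ∧
    ((m.2.2.2 = 0 ∧ r * x 1 * r⁻¹ = x 0 ^ m.2.2.1) ∨
      (m.2.2.1 = 0 ∧ r * x 1 * r⁻¹ = x 1 ^ m.2.2.2)) := by decide +kernel

theorem no_rel : ∀ s : Fin 7, x 1 ^ 1 * x 0 ^ (6 * (s : ℕ)) ≠ 1 := by decide +kernel

theorem E_repr {y : alternatingGroup (Fin 14)} (hy : y ∈ E) :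
    ∃ a b : Fin 7, y = x 0 ^ (a : ℕ) * x 1 ^ (b : ℕ) := by
  suffices ∃ a b : ℕ, y = x 0 ^ a * x 1 ^ b by
    obtain ⟨a, b, h⟩ := this
    exact ⟨⟨a % 7, Nat.mod_lt _ (by norm_num)⟩, ⟨b % 7, Nat.mod_lt _ (by norm_num)⟩,
      by rw [h, pow_eq_pow_mod a (x_pow 0), pow_eq_pow_mod b (x_pow 1)]⟩
  have hC : ∀ a b : ℕ, Commute (x 1 ^ a) (x 0 ^ b) := fun a b => Commute.pow_pow (x_comm 1 0) a b
  induction hy using Subgroup.closure_induction with
  | mem a ha =>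
    obtain ⟨i, rfl⟩ := ha
    fin_cases i
    · exact ⟨1, 0, by simp⟩
    · exact ⟨0, 1, by simp⟩
  | one => exact ⟨0, 0, by simp⟩
  | mul u v _ _ h1 h2 =>
    obtain ⟨a, b, rfl⟩ := h1
    obtain ⟨c, d, rfl⟩ := h2
    exact ⟨a + c, b + d, by rw [(hC b c).mul_mul_mul_comm, pow_add, pow_add]⟩
  | inv u _ h =>
    obtain ⟨a, b, rfl⟩ := h
    refine ⟨6 * a, 6 * b, ?_⟩
    rw [inv_eq_iff_mul_eq_one, (hC b (6 * a)).mul_mul_mul_comm, ← pow_add, ← pow_add,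
      show a + 6 * a = 7 * a by ring, show b + 6 * b = 7 * b by ring, pow_mul, pow_mul, x_pow,
      x_pow, one_pow, one_pow, one_mul]

theorem irred : Lift.Irred E (Subgroup.closure {y | y ∈ gens}) := by
  intro S hS hinv
  by_cases hbot : S = ⊥
  · exact Or.inl hbot
  right
  have hg : ∀ g ∈ gens, ∀ y ∈ S, g * y * g⁻¹ ∈ S := fun g hg =>
    hinv g (Subgroup.subset_closure hg)
  obtain ⟨y, hy, hy1⟩ := (Subgroup.ne_bot_iff_exists_ne_one.1 hbot).elim fun y hy =>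
    (⟨y, y.2, fun h => hy (Subtype.ext h)⟩ : ∃ z, z ∈ S ∧ z ≠ 1)
  obtain ⟨a, b, e⟩ := E_repr (hS hy)
  have h7 : Nat.Prime 7 := by norm_num
  have hnd : ∀ c : Fin 7, (c : ℕ) ≠ 0 → ¬ 7 ∣ (c : ℕ) := fun c h hd => by
    have := c.2; omega
  have hx0 : x 0 ∈ S := by
    by_cases ha : (a : ℕ) = 0
    · rw [ha, pow_zero, one_mul] at e
      have hb : (b : ℕ) ≠ 0 := fun h => hy1 (by rw [e, h, pow_zero])
      have h := hg g2 (by simp [gens]) y hy
      rw [e, ← conj_pow, swap_x.2] at h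
      exact mem_of_pow_mem h7 (x_pow 0) (hnd b hb) h
    · have h := mul_mem (hg g0 (by simp [gens]) y hy) (inv_mem hy)
      rw [e, diag_split] at h
      exact mem_of_pow_mem h7 (x_pow 0) (hnd a ha) h
  have hx1 : x 1 ∈ S := by
    have h := hg g2 (by simp [gens]) _ hx0
    rw [swap_x.1] at h
    exact mem_of_pow_mem h7 (x_pow 1) (by norm_num) h
  refine le_antisymm hS ((Subgroup.closure_le _).2 ?_)
  rintro _ ⟨i, rfl⟩
  fin_cases i <;> assumption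

/-- No section isomorphic to the alternating group of degree 14. -/
theorem no_alt14 {F : Type u} [Field F] [Finite F] (p : ℕ) [Fact p.Prime] [CharP F p] (hp : p ≠ 7)
    (H : Subgroup ↥(chevE7.group F)) (φ : ↥H →* alternatingGroup (Fin 14))
    (hφ : Function.Surjective φ) : False := by
  have h7 : sys.ℓ.Prime := by show Nat.Prime 7; norm_num
  have hW : ¬ sys.ℓ * sys.ℓ ∣ Nat.card ↥(weyl facts_chevE7.{u}) := by
    rw [card_weyl]; decide
  have h0 : orderOf (pWord facts_chevE7.{u} fixWord') = sys.ℓ :=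
    orderOf_pWord e7_checks facts_chevE7 (by rw [fixWord_val]; exact word_fixed)
  have hA : fixMap = List.ofFn fun i : Fin chevE7.rank =>
      sys.rows.getD (img chevE7 (fixWord'.map Fin.val) (chevE7.simple i)) [] := by
    rw [fixWord_val]; exact fixMap_eq
  haveI : Fact sys.ℓ.Prime := ⟨h7⟩
  have hscal : ∀ y ∈ E, g1 * y * g1⁻¹ = y ^ 3 := fun y hy => by
    induction hy using Subgroup.closure_induction with
    | mem a ha => obtain ⟨i, rfl⟩ := ha; exact scal_x i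
    | one => simp
    | mul a b ha hb h1 h2 =>
      rw [show g1 * (a * b) * g1⁻¹ = g1 * a * g1⁻¹ * (g1 * b * g1⁻¹) by group, h1, h2,
        (show Commute a b from closure_range_comm x_comm a ha b hb).mul_pow]
    | inv a _ h => rw [show g1 * a⁻¹ * g1⁻¹ = (g1 * a * g1⁻¹)⁻¹ by group, h, inv_pow]
  have hE2 : sys.ℓ * sys.ℓ ∣ Nat.card E := by
    have hp : IsPGroup 7 E := fun a => ⟨1, Subtype.ext (by
      rw [pow_one]; exact closure_range_pow x_comm x_pow a a.2)⟩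
    haveI : Fact (Nat.Prime 7) := ⟨by norm_num⟩
    obtain ⟨e, he⟩ := IsPGroup.iff_card.1 hp
    rw [he]
    rcases e with _ | _ | e
    · rw [pow_zero, Subgroup.card_eq_one] at he
      exact absurd (Subgroup.mem_bot.1 (he ▸ x_mem 0)) (x_ne 0)
    · exfalso
      have hz : Subgroup.zpowers (x 0) = E := Subgroup.eq_of_le_of_card_ge
        (Subgroup.zpowers_le.2 (x_mem 0))
        (by rw [he, Nat.card_zpowers, x_ord, zero_add, pow_one])
      obtain ⟨n, hn⟩ := Subgroup.mem_zpowers_iff.1 (hz.ge (x_mem 1))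
      rw [← zpow_mod_orderOf, x_ord, ← Int.toNat_of_nonneg (Int.emod_nonneg n (by norm_num)),
        zpow_natCast] at hn
      rcases x_indep 0 1 _ 1 (hn.trans (pow_one _).symm) with h | ⟨-, h⟩
      · exact absurd h (by decide)
      · omega
    · exact ⟨7 ^ e, by show 7 ^ (e + 1 + 1) = 7 * 7 * 7 ^ e; ring⟩
  obtain ⟨k, hk1, hk2, hk3, ⟨L⟩⟩ := exists_lifted (R := Subgroup.closure {y | y ∈ gens})
    facts_chevE7 alcoveE7_valid p table_ok h7 hp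
    (by rw [card_weyl]; decide) hW fixed2_ok hA h0 H φ hφ
    (closure_range_comm x_comm) (closure_range_pow x_comm x_pow) hE2
    (closure_range_conj hmon) coprime_gens irred
    (fun _ => ⟨g1, Subgroup.subset_closure (by simp [gens]), 3, by decide, hscal⟩)
    x x_mem x_ord x_indep hmon
  letI := hk1
  haveI := hk2
  haveI := hk3
  have hk0 : (sys.ℓ : k) ≠ 0 := fun h => hp
    ((Nat.prime_dvd_prime_iff_eq Fact.out h7).1 ((CharP.cast_eq_zero_iff k p _).1 h))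
  have hsq : ∀ i, (g1 * g1) * x i * (g1 * g1)⁻¹ = x i ^ 2 := by decide +kernel
  have htor := L.all_torus facts_chevE7 alcoveE7_valid table_ok h7 hk0 hW fixed2_ok hA h0 x_ord
    x_indep (fun i l => ⟨g1 * g1, mul_mem (Subgroup.subset_closure (by simp [gens]))
      (Subgroup.subset_closure (by simp [gens])), hsq i, hsq l⟩) (by decide)
  choose c hc using htor
  haveI : NeZero (sys.ℓ : k) := ⟨hk0⟩
  obtain ⟨ζ₀, hζ₀⟩ := HasEnoughRootsOfUnity.exists_primitiveRoot k sys.ℓ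
  obtain ⟨ζ, rfl⟩ := hζ₀.isUnit h7.ne_zero
  have hne : (torusHom (c 0) : GL chevE7.Idx k) ≠ 1 := fun h => by
    have h' := L.indep 0 1 (by decide) 1 0 (by rw [pow_one, ← hc, h, pow_zero, one_mul])
    exact x_ne 0 (by simpa using h')
  obtain ⟨g, -, hg⟩ := L.conj g1 (Subgroup.subset_closure (by simp [gens]))
  obtain ⟨s, hs, e⟩ := pow_of_pair facts_chevE7 alcoveE7_valid table_ok
    (IsPrimitiveRoot.coe_units_iff.1 hζ₀) single_ok marks_ok marks_pos (Ts := pairMaps)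
    (by
      intro a ha
      simp only [reps, List.mem_cons, List.not_mem_nil, or_false] at ha
      rcases ha with rfl | rfl | rfl
      exacts [⟨loc0, rfl, pair0⟩, ⟨loc1, rfl, pair1⟩, ⟨loc2, rfl, pair2⟩])
    (c := c 0) (d := c 1) (by rw [hc]; exact L.pow 0) (by rw [hc]; exact L.pow 1) hne
    (g := g) (by rw [hc]; exact hg 0 0 3 (scal_x 0))
    fun m hm => L.conj_pair (hc 0) (hc 1) (by
      obtain ⟨r, hr, h⟩ := pairs_rel m hm
      exact ⟨r, Subgroup.subset_closure hr, h⟩)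
  refine no_rel ⟨s, hs⟩ (L.indep 1 0 (by decide) 1 (6 * s) ?_)
  rw [pow_one, ← hc, ← hc, e, ← pow_add, show s + 6 * s = sys.ℓ * s by
    show s + 6 * s = 7 * s; ring, pow_mul, hc, L.pow, one_pow]

end Cfsg.Agent.AltSec.E7.Data7
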