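import Cfsg.Agent.AltSec.E7.Check
import Mathlib.Tactic.Ring
import Mathlib.Data.List.Perm.Basic
import Mathlib.Data.List.Nodup

/-!
Soundness of the reductions of root values.
-/

set_option autoImplicit false

namespace Cfsg.Agent.AltSec.E7.Check

open Cfsg.Agent.AltSec.TorusTest (simplex)

/-- A table of root values: the modulus, the rank, the coordinates and the simple roots. -/
structure Sys where
  ℓ : ℕ
  n : ℕ
  rows : List (List ℕ)
  sIdx : List ℕ

namespace Sys

variable (S : Sys)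

/-- The values of all roots. -/
def V (b : List ℕ) : List ℕ := vals S.ℓ S.rows b

/-- The table is consistent. -/
def ok : Bool :=
  Nat.ble 1 S.ℓ && (S.rows.all fun row => Nat.beq row.length S.n) && Nat.beq S.sIdx.length S.n &&
  ((List.range S.n).all fun i => Nat.blt (S.sIdx.getD i 0) S.rows.length &&
    S.rows.getD (S.sIdx.getD i 0) [] == (List.range S.n).map (fun l => if i = l then 1 else 0))

/-- A vector of values at the simple roots. -/
def Valid (b : List ℕ) : Prop := b.length = S.n ∧ ∀ x ∈ b, x < S.ℓ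

/-- A linear map of vectors with the permutation of the roots it induces. -/
def moveOK (mv : List ℕ × List (List ℕ)) : Bool :=
  Nat.beq mv.1.length S.rows.length && (mv.1.all fun s => Nat.blt s S.rows.length) && mv.1.Nodup &&
  Nat.beq mv.2.length S.n && (mv.2.all fun row => Nat.beq row.length S.n) &&
  ((List.range S.rows.length).all fun s => (List.range S.n).all fun l =>
    Nat.beq (((List.range S.n).map fun i =>
        (S.rows.getD s []).getD i 0 * (mv.2.getD i []).getD l 0).sum % S.ℓ)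
      ((S.rows.getD (mv.1.getD s 0) []).getD l 0 % S.ℓ))

theorem rowLen (h : S.ok = true) {s : ℕ} (hs : s < S.rows.length) :
    (S.rows.getD s []).length = S.n := by
  simp only [ok, Bool.and_eq_true, List.all_eq_true, Nat.beq_eq] at h
  rw [List.getD_eq_getElem _ _ hs]
  exact h.1.1.2 _ (List.getElem_mem hs)

end Sys

theorem valN_eq_sum {ℓ n : ℕ} {row b : List ℕ} (hr : row.length = n) (hb : b.length = n) :
    valN ℓ row b = (∑ i : Fin n, row.getD i 0 * b.getD i 0) % ℓ := by
  unfold valN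
  congr 1
  rw [← List.sum_ofFn]
  congr 1
  refine List.ext_getElem (by simp [hr, hb]) fun i h1 h2 => ?_
  simp only [List.length_zipWith, hr, hb, min_self] at h1
  simp [List.getElem?_eq_getElem (hr.symm ▸ h1 : i < row.length), List.getElem?_eq_getElem (hb.symm ▸ h1 : i < b.length)]

namespace Sys

variable {S : Sys}

theorem valid_app (h : S.ok = true) {L : List (List ℕ)} (hL : L.length = S.n) (b : List ℕ) :
    S.Valid (app S.ℓ L b) := by
  simp only [ok, Bool.and_eq_true, Nat.ble_eq] at h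
  refine ⟨by simp [app, hL], fun x hx => ?_⟩
  obtain ⟨row, -, rfl⟩ := List.mem_map.1 hx
  exact Nat.mod_lt _ h.1.1.1

theorem move_V (h : S.ok = true) {mv : List ℕ × List (List ℕ)} (hm : S.moveOK mv = true)
    {b : List ℕ} (hb : S.Valid b) :
    S.Valid (app S.ℓ mv.2 b) ∧
      S.V (app S.ℓ mv.2 b) = mv.1.map fun s => (S.V b).getD s 0 := by
  simp only [moveOK, Bool.and_eq_true, Nat.beq_eq, List.all_eq_true, decide_eq_true_eq,
    List.mem_range, Nat.blt_eq] at hm
  obtain ⟨⟨⟨⟨⟨hlen, hlt⟩, -⟩, hLlen⟩, hLrow⟩, hid⟩ := hm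
  refine ⟨valid_app h hLlen b, ?_⟩
  refine List.ext_getElem (by simp [V, vals, hlen]) fun s h1 h2 => ?_
  have hs : s < S.rows.length := by simpa [V, vals] using h1
  have hP : mv.1[s]'(hlen.symm ▸ hs) < S.rows.length := hlt _ (List.getElem_mem _)
  have e1 : (S.V (app S.ℓ mv.2 b))[s]'h1 = valN S.ℓ (S.rows.getD s []) (app S.ℓ mv.2 b) := by
    simp [V, vals, hs]
  have e2 : (mv.1.map fun s => (S.V b).getD s 0)[s]'h2 =
      valN S.ℓ (S.rows.getD (mv.1.getD s 0) []) b := by
    simp [V, vals, hP, (hlen.symm ▸ hs : s < mv.1.length)]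
  rw [e1, e2, valN_eq_sum (S.rowLen h hs) (valid_app h hLlen b).1,
    valN_eq_sum (S.rowLen h (by rw [List.getD_eq_getElem _ _ (hlen.symm ▸ hs)]; exact hP)) hb.1]
  have hgi : ∀ i : Fin S.n, (app S.ℓ mv.2 b).getD i 0 =
      (∑ l : Fin S.n, (mv.2.getD i []).getD l 0 * b.getD l 0) % S.ℓ := fun i => by
    have hi : (i : ℕ) < mv.2.length := hLlen.symm ▸ i.2
    rw [← valN_eq_sum (n := S.n) ?_ hb.1]
    · simp [app, List.getD_eq_getElem _ _ hi, hi]
    · rw [List.getD_eq_getElem _ _ hi]; exact hLrow _ (List.getElem_mem hi)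
  simp only [hgi]
  rw [Finset.sum_nat_mod]
  conv_lhs => arg 1; arg 2; ext i; rw [Nat.mul_mod, Nat.mod_mod, ← Nat.mul_mod]
  rw [← Finset.sum_nat_mod]
  simp only [Finset.mul_sum]
  rw [Finset.sum_comm]
  conv_lhs => rw [Finset.sum_nat_mod]
  conv_rhs => rw [Finset.sum_nat_mod]
  congr 1
  refine Finset.sum_congr rfl fun l _ => ?_
  have e : ∀ i : Fin S.n, (S.rows.getD s []).getD i 0 * ((mv.2.getD i []).getD l 0 * b.getD l 0) =
      ((S.rows.getD s []).getD i 0 * (mv.2.getD i []).getD l 0) * b.getD l 0 := fun i => by ring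
  simp only [e, ← Finset.sum_mul]
  rw [Nat.mul_mod]
  conv_rhs => rw [Nat.mul_mod, ← hid s hs l l.2]
  congr 3
  have e3 : (List.range S.n).map (fun i =>
      (S.rows.getD s []).getD i 0 * (mv.2.getD i []).getD l 0) =
      List.ofFn fun i : Fin S.n => (S.rows.getD s []).getD i 0 * (mv.2.getD i []).getD l 0 :=
    List.ext_getElem (by simp) fun i h1 h2 => by simp
  rw [e3, List.sum_ofFn]

theorem eq_of_V (h : S.ok = true) {b : List ℕ} (hb : S.Valid b) :
    b = S.sIdx.map fun s => (S.V b).getD s 0 := by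
  simp only [ok, Bool.and_eq_true, List.all_eq_true, Nat.beq_eq, List.mem_range, Nat.blt_eq,
    beq_iff_eq] at h
  obtain ⟨⟨⟨_, hrow⟩, hlen⟩, hi⟩ := h
  refine List.ext_getElem (by simp [hb.1, hlen]) fun i h1 h2 => ?_
  have hin : i < S.n := hb.1 ▸ h1
  obtain ⟨hlt, hunit⟩ := hi i hin
  have hil : i < S.sIdx.length := by omega
  rw [List.getD_eq_getElem _ _ hil] at hlt hunit
  simp only [List.getElem_map]
  rw [List.getD_eq_getElem _ _ (by simp [V, vals, hlt])]
  have : (S.V b)[S.sIdx[i]'hil]'(by simp [V, vals, hlt]) =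
      valN S.ℓ (S.rows.getD (S.sIdx[i]'hil) []) b := by
    simp [V, vals, hlt]
  rw [this, valN_eq_sum (by rw [hunit]; simp) hb.1, hunit]
  rw [Finset.sum_eq_single ⟨i, hin⟩]
  · simp [h1, hin, List.getD_eq_getElem, Nat.mod_eq_of_lt (hb.2 _ (List.getElem_mem h1))]
  · intro l _ hl
    have hne : i ≠ (l : ℕ) := fun e => hl (Fin.ext e.symm)
    simp [List.getD_eq_getElem, hne]
  · simp

theorem hsum_map_perm (w : ℕ → ℕ) {P : List ℕ} {g : ℕ → ℕ} {m : ℕ} (hlen : P.length = m)
    (hlt : ∀ s ∈ P, s < m) (hnd : P.Nodup) :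
    hsum w (P.map g) = hsum w ((List.range m).map g) := by
  have hp : P.Perm (List.range m) :=
    (List.subperm_of_subset hnd fun s hs => List.mem_range.2 (hlt s hs)).perm_of_length_le
      (by simp [hlen])
  exact ((hp.map g).map w).sum_eq

theorem map_getD_range {l : List ℕ} {m : ℕ} (h : l.length = m) :
    (List.range m).map (fun s => l.getD s 0) = l := by
  refine List.ext_getElem (by simp [h]) fun i h1 h2 => ?_
  simp [h2]

/-- Pairs of values invariant under the maps. -/
def Inv2 (S : Sys) (Ts : List (ℕ × ℕ × ℕ × ℕ)) (x y : List ℕ) : Prop :=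
  ∀ w : ℕ → ℕ, ∀ m ∈ Ts, inv w (linT2 S.ℓ m) (code2 S.ℓ x y) = true

/-- Triples of values invariant under the maps. -/
def Inv3 (S : Sys) (Ts : List ((ℕ × ℕ × ℕ) × (ℕ × ℕ × ℕ) × (ℕ × ℕ × ℕ))) (x y z : List ℕ) : Prop :=
  ∀ w : ℕ → ℕ, ∀ m ∈ Ts, inv w (linT3 S.ℓ m) (code3 S.ℓ x y z) = true

theorem inv_map_perm {w : ℕ → ℕ} {T : ℕ → ℕ} {P : List ℕ} {cs : List ℕ}
    (hlen : P.length = cs.length) (hlt : ∀ s ∈ P, s < cs.length) (hnd : P.Nodup)
    (h : inv w T cs = true) : inv w T (P.map fun s => cs.getD s 0) = true := by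
  rw [inv, Nat.beq_eq] at h ⊢
  rw [List.map_map]
  rw [hsum_map_perm w hlen hlt hnd, hsum_map_perm w hlen hlt hnd, ← List.map_map,
    map_getD_range rfl]
  exact h

end Sys

end Cfsg.Agent.AltSec.E7.Check
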